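import Cfsg.Agent.H7.FrakM
import Cfsg.Agent.H1.Factor

/-!
Isolated `p`-minimal subgroups.
-/

set_option autoImplicit false

namespace Cfsg.H7

open Subgroup
open Cfsg.L0 (SN QS)
open scoped commutatorElement

variable {G : Type*} [Group G] {p : ℕ}

/-- The data of an isolated `p`-minimal subgroup: `R = O^p(P)`, `Q = O_p(L)`. -/
structure Iso (p : ℕ) (S R L Q : Subgroup G) : Prop where
  syl : IsSylowIn p S ⊤
  SL : S ≤ L
  dich : ∀ X : Subgroup G, S ≤ X → R ≤ X ∨ X ≤ L
  notle : ¬ R ≤ L
  Qp : IsPGroup p Q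
  QL : Q ≤ L
  LQ : L ≤ normalizer (Q : Set G)
  comm : ⁅R, Q⁆ = R
  res : pResidualOf p R = R
  SR : S ≤ normalizer (R : Set G)
  gen : R ⊔ L = ⊤

theorem cj_comap {G' : Type*} [Group G'] (f : G →* G') (g : G) (K : Subgroup G') :
    cj g (K.comap f) = (cj (f g) K).comap f := by
  ext x; simp

theorem fstar_le_normalizer_of_component [Finite G] {K : Subgroup G} (h : IsComponent K) :
    generalizedFittingSubgroup G ≤ normalizer (K : Set G) :=
  sup_le (L0.layer_le_normalizer h.1) (le_normalizer_of_le_centralizer (le_centralizer_iff.mp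
    (commutator_eq_bot_iff'.mp (L0.comm_bot_mono (L0.comm_fitting_layer G) le_rfl
      (L0.component_le_layer h)))))

theorem le_normalizer_sSup_components {A L : Subgroup G} (h : A ≤ normalizer (L : Set G)) :
    A ≤ normalizer ((sSup {K | IsComponent K ∧ K ≤ L} : Subgroup G) : Set G) :=
  le_normalizer_iff_cj.mpr fun a ha => by
    rw [sSup_eq_iSup', cj_iSup]
    exact iSup_le fun K => le_iSup_of_le
      ⟨cj a K, L0.isComponent_cj K.2.1 a, cj_le_of_le (h ha) K.2.2⟩ le_rfl

variable [hp : Fact p.Prime] [Finite G]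

theorem eq_bot_of_le_frat {N H : Subgroup G} (h1 : N ≤ frat H) (hn : H ≤ normalizer (N : Set G))
    (h2 : (Nat.card N).Coprime p) (h3 : frat (pResidualOf p H) = ⊥) : N = ⊥ := by
  have hNH := h1.trans (frat_le H)
  haveI := (normal_subgroupOf_iff_le_normalizer hNH).mpr hn
  have h4 : N.subgroupOf H = ⊥ := by
    refine eq_bot_of_le_frattini_of_frat_eq_bot (p := p) ?_ ?_ ?_
    · have := comap_mono (f := H.subtype) h1
      rwa [← frat_def, comap_map_eq_self_of_injective (subtype_injective _)] at this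
    · rwa [card_subgroupOf_eq, inf_eq_left.mpr hNH]
    · have := map_frat_le H.subtype (pResidual p H)
      rw [pResidualOf_def, h3, le_bot_iff, Subgroup.map_eq_bot_iff, ker_subtype, le_bot_iff] at this
      exact this
  rw [← map_subgroupOf_eq_of_le hNH, h4, Subgroup.map_bot]

theorem iso_of_isolated (S : Sylow p G) {P L : Subgroup G} (hSP : (S : Subgroup G) ≤ P)
    (hP : IsPMinimal p P)
    (hL : L = normalizer ((S : Subgroup G) : Set G) ⊔
      ⨆ P' : {P' : Subgroup G // (S : Subgroup G) ≤ P' ∧ IsPMinimal p P' ∧ P' ≠ P},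
        (P' : Subgroup G))
    (hiso : ¬ pCoreOf p L ≤ pCoreOf p P) : Iso p S (pResidualOf p P) L (pCoreOf p L) := by
  have hS := isSylowIn_top S
  have hSL : (S : Subgroup G) ≤ L := hL ▸ le_normalizer.trans le_sup_left
  have hSP' := hS.mono hSP le_top
  obtain ⟨M, hM⟩ := (isPMinimal_iff hSP').mp hP
  have key : ∀ X K : Subgroup G, (S : Subgroup G) ≤ K → L ≤ X → (P ≤ K → P ≤ X) → K ≤ X := by
    intro X K h1 h2 h3
    refine mcbride K (hS.mono h1 le_top) (inf_le_right.trans ((hL ▸ le_sup_left).trans h2))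
      fun P' M' h4 h5 => ?_
    by_cases h6 : P' = P
    · exact h6 ▸ h3 (h6 ▸ h4)
    · have h7 := h5.le.trans h5.lt.le
      refine le_trans ?_ h2
      rw [hL]
      exact le_sup_of_le_right (le_iSup_of_le
        ⟨P', h7, (isPMinimal_iff (hS.mono h7 le_top)).mpr ⟨M', h5⟩, h6⟩ le_rfl)
  have hPL : ¬ P ≤ L := fun h1 => hiso (by
    rw [top_unique (key L ⊤ le_top le_rfl fun _ => h1)]
    exact pCoreOf_le_pCoreOf_of_le le_top (hS.pCoreOf_le.trans hSP))
  have hQS : pCoreOf p L ≤ S := (hS.mono hSL le_top).pCoreOf_le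
  have hgen := hSP'.sup_pResidualOf
  refine ⟨hS, hSL, fun X h1 => ?_, fun h1 => hPL (hgen.ge.trans (sup_le hSL h1)),
    isPGroup_pCoreOf p L, pCoreOf_le p L, le_normalizer_pCoreOf p L,
    (hM.pIrr hSP').commutator_eq hSP' hQS (hSL.trans (le_normalizer_pCoreOf p L)) hiso,
    pResidualOf_pResidualOf p P, hSP.trans (le_normalizer_pResidualOf p P), top_unique
      (key _ ⊤ le_top le_sup_right fun _ => hgen.ge.trans (sup_le (hSL.trans le_sup_right)
        le_sup_left))⟩
  by_cases h2 : P ≤ X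
  · exact Or.inl ((pResidualOf_le p P).trans h2)
  · exact Or.inr (key L X h1 le_rfl fun h3 => absurd h3 h2)

namespace Iso

variable {S R L Q : Subgroup G} (h : Iso p S R L Q)
include h

theorem map {G' : Type*} [Group G'] {f : G →* G'} (hf : Function.Surjective f) (hk : f.ker ≤ S) :
    Iso p (S.map f) (R.map f) (L.map f) (Q.map f) := by
  refine ⟨map_top_of_surjective f hf ▸ h.syl.map f, map_mono h.SL, fun X h1 => ?_, fun h1 => ?_,
    h.Qp.map f, map_mono h.QL, map_le_normalizer_map f h.LQ, by rw [← map_commutator, h.comm],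
    by rw [← map_pResidualOf, h.res], map_le_normalizer_map f h.SR,
    by rw [← Subgroup.map_sup, h.gen, map_top_of_surjective f hf]⟩
  · rcases h.dich (X.comap f) (map_le_iff_le_comap.mp h1) with h2 | h2
    · exact Or.inl (map_le_iff_le_comap.mpr h2)
    · exact Or.inr ((map_comap_eq_self_of_surjective hf X).ge.trans (map_mono h2))
  · exact h.notle ((le_of_map_le_map h1 le_top le_top).trans
      (sup_le le_rfl (inf_le_right.trans (hk.trans h.SL))))

omit hp [Finite G] in
theorem dich' {X : Subgroup G} (hX : S ≤ normalizer (X : Set G)) : R ≤ X ∨ X ≤ L :=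
  (h.dich (S ⊔ X) le_sup_left).imp (fun h1 => h.res.ge.trans ((pResidualOf_mono h1).trans
    (pResidualOf_sup_le h.syl.isPGroup hX))) le_sup_right.trans

omit hp [Finite G] in
theorem QS' : Q ≤ S := (h.syl.mono h.SL le_top).le_of_normal h.Qp h.QL h.LQ

omit hp [Finite G] in
theorem ne_bot : R ≠ ⊥ := fun h1 => h.notle (h1 ▸ bot_le)

omit hp [Finite G] in
theorem not_le_centralizer : ¬ R ≤ centralizer (Q : Set G) := fun h1 =>
  h.ne_bot (h.comm.symm.trans (commutator_eq_bot_iff'.mpr (le_centralizer_iff.mp h1)))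

omit hp [Finite G] in
theorem Q_le_centralizer (hO : pCore p G = ⊥) {N : Subgroup G} [N.Normal] (h1 : N ≤ L) :
    Q ≤ centralizer (N : Set G) := by
  refine le_centralizer_of_commutator_le_bot ((commutator_le_inf' le_normalizer_of_normal
    (h1.trans h.LQ)).trans ?_)
  rw [← hO, ← pCoreOf_top, inf_comm]
  exact (inf_le_pCoreOf h.Qp (h1.trans h.LQ)).trans
    (pCoreOf_le_of_normal le_top le_normalizer_of_normal)

omit hp [Finite G] in
theorem le_centralizer (hO : pCore p G = ⊥) {N : Subgroup G} [N.Normal] (h1 : N ≤ L) :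
    normalClosure (R : Set G) ≤ centralizer (N : Set G) :=
  normalClosure_le_normal (h.comm.ge.trans ((commutator_mono le_rfl
    (h.Q_le_centralizer hO h1)).trans (commutator_le_right _ _)))

theorem le_fstar (hO : pCore p G = ⊥) : R ≤ generalizedFittingSubgroup G := by
  refine (h.dich' le_normalizer_of_normal).resolve_right fun h1 => h.not_le_centralizer ?_
  rw [eq_bot_of_le_centralizer_fstarOf (H := ⊤) (by rw [pCoreOf_top, hO]) h.Qp le_top
    (by rw [fstarOf_top]; exact h.Q_le_centralizer hO h1), centralizer_bot']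
  exact le_top

theorem of_coprime (hO : pCore p G = ⊥) {Y : Subgroup G} (hY : Y = normalClosure (R : Set G))
    (hc : (Nat.card Y).Coprime p) :
    Y = R ∧ ⁅⁅Y, Y⁆, Y⁆ = ⊥ ∧ ∃ t : ℕ, t.Prime ∧ t ≠ p ∧ IsPGroup t Y := by
  haveI hn : Y.Normal := hY ▸ normalClosure_normal
  have hRY : R ≤ Y := hY ▸ le_normalClosure
  have hmin : ∀ (N : Subgroup G) [N.Normal], R ≤ N → Y ≤ N := fun N _ h1 =>
    hY ▸ normalClosure_le_normal h1
  have hC : Y ⊓ L = Y ⊓ centralizer (Q : Set G) := by
    refine le_antisymm (le_inf inf_le_left (le_centralizer_iff.mp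
      (le_centralizer_of_commutator_le_bot ?_))) (le_inf inf_le_left ((h.dich' (le_normalizer_inf
        le_normalizer_of_normal (le_normalizer_centralizer (h.SL.trans h.LQ)))).resolve_left
        fun h1 => h.not_le_centralizer (h1.trans inf_le_right)))
    rw [← inf_eq_bot_of_isPGroup_of_coprime h.Qp hc]
    exact le_inf ((commutator_mono inf_le_right le_rfl).trans
      (commutator_le_right_of_le_normalizer h.LQ))
      ((commutator_mono inf_le_left le_rfl).trans (commutator_le_left _ _))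
  have hYQ : Y ≤ ⁅Y, Q⁆ := by
    haveI : (⁅Y, Q⁆ : Subgroup G).Normal := normal_of_le_normalizer_top (h.gen.ge.trans (sup_le
      (hRY.trans (normalizer_commutator_ge_left _ _))
      (le_normalizer_commutator le_normalizer_of_normal h.LQ)))
    exact hmin _ (h.comm.ge.trans (commutator_mono hRY le_rfl))
  have hsyl : ∀ (q : ℕ) [Fact q.Prime], ∃ U, IsSylowIn q U Y ∧ S ≤ normalizer (U : Set G) :=
    fun q _ => by
      obtain ⟨U, hU, h1⟩ := (H9.CoprimeAct.of_isPGroup_left h.syl.isPGroup
        (hp.out.coprime_iff_not_dvd.mp hc.symm) (le_normalizer_of_normal (H := Y))).exists_invariant_sylow q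
      exact ⟨U, hU.toH7, h1⟩
  obtain ⟨t, ht, U, hU, h1, h2⟩ : ∃ t : ℕ, t.Prime ∧ ∃ U, IsSylowIn t U Y ∧
      S ≤ normalizer (U : Set G) ∧ R ≤ U := by
    by_contra h1
    push Not at h1
    refine h.notle (hRY.trans (H1.le_of_forall_sylow_le fun q _ _ => ?_))
    obtain ⟨U, hU, h2⟩ := hsyl q
    exact ⟨hU.toSylow, hU.map_toSylow.le.trans
      ((h.dich' h2).resolve_left (h1 q Fact.out U hU h2))⟩
  haveI := Fact.mk ht
  have hperm : H1.Perm U (Y ⊓ L) ∧ U ⊔ (Y ⊓ L) = Y := by
    refine H1.perm_of_coprime_relIndex hU.le inf_le_left (Nat.coprime_of_dvd fun q hq h3 h4 => ?_)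
    haveI := Fact.mk hq
    obtain ⟨V, hV, h5⟩ := hsyl q
    rcases h.dich' h5 with h6 | h6
    · have h7 : q = t := by
        by_contra h7
        exact h.ne_bot (le_bot_iff.mp ((le_inf h6 h2).trans
          (IsPGroup.disjoint_of_ne q t h7 _ _ hV.isPGroup hU.isPGroup).eq_bot.le))
      exact hU.not_dvd_relIndex (h7 ▸ h3)
    · exact hV.not_dvd_relIndex (h4.trans (relIndex_dvd_of_le_left Y (le_inf hV.le h6)))
  have hYU : Y ≤ U := hYQ.trans (commutator_le.mpr fun y hy x hx => by
    obtain ⟨u, hu, c, hc', rfl⟩ := hperm.1 y (hperm.2.ge hy)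
    have h3 : x * c = c * x := (hC.le hc').2 x hx
    have h4 : ⁅u * c, x⁆ = ⁅u, x⁆ := by
      simp only [commutatorElement_def]
      rw [mul_assoc u c x, ← h3]; group
    rw [h4]
    exact commutator_le_left_of_le_normalizer (h.QS'.trans h1) (commutator_mem_commutator hu hx))
  have hYt : IsPGroup t Y := hU.isPGroup.to_le hYU
  have htp : t ≠ p := fun h3 => h.ne_bot (eq_bot_of_isPGroup_of_coprime (h3 ▸ hYt.to_le hRY)
    (Nat.Coprime.coprime_dvd_left (card_dvd_of_le hRY) hc))
  have hlt : Y ⊓ L < Y := lt_of_le_of_ne inf_le_left fun h3 =>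
    h.notle (hRY.trans (h3.ge.trans inf_le_right))
  have hLD : L ≤ normalizer ((Y ⊓ L : Subgroup G) : Set G) :=
    le_normalizer_inf le_normalizer_of_normal le_normalizer
  haveI hD : (Y ⊓ L).Normal := normal_of_le_normalizer_top (h.gen.ge.trans (sup_le
    ((h.dich _ (h.SL.trans hLD)).resolve_right fun h3 =>
      (lt_inf_normalizer hYt hlt).not_ge (inf_le_inf_left _ h3)) hLD))
  have hDc : Y ≤ centralizer ((Y ⊓ L : Subgroup G) : Set G) :=
    hY.le.trans (h.le_centralizer hO inf_le_right)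
  have hF : frat Y ≤ Y ⊓ L := le_inf (frat_le Y) ((h.dich' le_normalizer_of_normal).resolve_left
    fun h3 => h.ne_bot (le_bot_iff.mp (hRY.trans
      (le_of_le_sup_frat bot_le le_rfl ((hmin _ h3).trans le_sup_right)))))
  obtain ⟨h3, h4⟩ := (frat_le_iff_of_isPGroup hYt).mp hF
  have hUY : R ⊔ (Y ⊓ L) ≤ Y := sup_le hRY inf_le_left
  have hHU : S ⊔ Y ≤ normalizer ((R ⊔ (Y ⊓ L) : Subgroup G) : Set G) :=
    sup_le (le_normalizer_sup h.SR le_normalizer_of_normal)
      (le_normalizer_of_commutator_le hUY (h3.trans le_sup_right))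
  have hcU : (Nat.card (R ⊔ (Y ⊓ L) : Subgroup G)).Coprime p :=
    Nat.Coprime.coprime_dvd_left (card_dvd_of_le hUY) hc
  have h5 : Y ≤ R ⊔ (Y ⊓ L) := by
    by_contra h5
    have h6 : (R ⊔ (Y ⊓ L)).map (QuotientGroup.mk' (Y ⊓ L)) = ⊥ := by
      refine eq_bot_of_le_frat (p := p) (H := (S ⊔ Y).map (QuotientGroup.mk' (Y ⊓ L)))
        ((map_le_frat_iff (hUY.trans le_sup_right)).mpr fun X h6 h7 h8 => ?_)
        (map_le_normalizer_map _ hHU) (Nat.Coprime.coprime_dvd_left (card_map_dvd _ _) hcU) ?_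
      · rw [QuotientGroup.ker_mk', inf_eq_right.mpr (inf_le_left.trans le_sup_right)] at h6
        obtain ⟨g, hg, h9⟩ := exists_cj_ge_of_le_sup (h.syl.mono le_sup_left le_top)
          (pClosed_of_coprime hcU) (hUY.trans le_sup_right) hHU (by
            rw [eq_bot_of_isPGroup_of_coprime (isPGroup_pCoreOf p _)
              (Nat.Coprime.coprime_dvd_left (card_dvd_of_le (pCoreOf_le p _)) hcU)]
            exact bot_le) h7 h8
        have h10 := cj_mono (g := g) h8
        rw [cj_eq_of_mem hg, cj_sup, cj_eq_of_mem_normalizer (hHU hg)] at h10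
        have h11 := cj_mono (g := g) h6
        rw [cj_eq_of_normal] at h11
        rcases h.dich _ h9 with h12 | h12
        · rw [← cj_le_cj_iff (g := g), cj_eq_of_mem hg]
          exact h10.trans (sup_le le_rfl (sup_le h12 h11))
        · refine absurd ((pResidualOf_eq_self_of_coprime hc).ge.trans ((pResidualOf_mono
            (le_sup_right.trans (h10.trans (sup_le ?_ le_sup_right)))).trans
            (pResidualOf_sup_le h.syl.isPGroup (le_sup_left.trans hHU)))) h5
          refine (le_inf (cj_le_of_le' hg h7) h12).trans ?_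
          rw [dedekind_left h.SL le_normalizer_of_normal]
          exact sup_le_sup_left le_sup_right _
      · rw [← map_pResidualOf, pResidualOf_sup_eq h.syl.isPGroup le_normalizer_of_normal,
          pResidualOf_eq_self_of_coprime hc, ← le_bot_iff, frat_le_iff_of_isPGroup (hYt.map _),
          ← map_commutator, le_bot_iff, Subgroup.map_eq_bot_iff, QuotientGroup.ker_mk']
        refine ⟨h3, ?_⟩
        rintro _ ⟨y, hy, rfl⟩
        rw [← map_pow, mem_bot, ← MonoidHom.mem_ker, QuotientGroup.ker_mk']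
        exact h4 y hy
    rw [Subgroup.map_eq_bot_iff, QuotientGroup.ker_mk'] at h6
    exact h.notle (le_sup_left.trans (h6.trans inf_le_right))
  refine ⟨le_antisymm (hYQ.trans ((commutator_mono h5 le_rfl).trans (sup_commutator_le
    le_normalizer (le_normalizer_of_le_centralizer (le_centralizer_iff.mp (hRY.trans hDc)))
    h.comm.le (commutator_le_of_le_centralizer (le_centralizer_iff.mp
      (hC.le.trans inf_le_right)))))) hRY,
    commutator_eq_bot_iff'.mpr (hDc.trans (centralizer_anti h3)), t, ht, htp, hYt⟩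

theorem le_of_component (hO : pCore p G = ⊥) {K : Subgroup G} (hK : IsComponent K)
    (h1 : K ≤ normalClosure (R : Set G)) : R ≤ ⨆ s : S, cj (s : G) K := by
  rw [iSup_cj_eq_sup_commutator]
  refine (h.dich' (le_normalizer_sup_commutator _ _)).resolve_right fun h2 => ?_
  haveI : (sSup {K | IsComponent K ∧ K ≤ L} : Subgroup G).Normal :=
    normal_of_le_normalizer_top (h.gen.ge.trans (sup_le ((h.le_fstar hO).trans
      (L0.le_normalizer_sSup fun x hx K' hK' => by
        rw [L0.cj_eq_iff.mpr (fstar_le_normalizer_of_component hK'.1 hx)]; exact hK'))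
      (le_normalizer_sSup_components le_normalizer)))
  have h3 := h.le_centralizer hO (N := sSup {K | IsComponent K ∧ K ≤ L})
    (sSup_le fun K' hK' => hK'.2)
  exact (L0.IsComponent.qs hK).comm_ne_bot (commutator_eq_bot_iff'.mpr (h1.trans (h3.trans
    (centralizer_anti (le_sSup ⟨hK, le_sup_left.trans h2⟩)))))

theorem trans_components (hO : pCore p G = ⊥) {K₁ K₂ : Subgroup G} (hK₁ : IsComponent K₁)
    (h1 : K₁ ≤ normalClosure (R : Set G)) (hK₂ : IsComponent K₂)
    (h2 : K₂ ≤ normalClosure (R : Set G)) : ∃ s ∈ S, K₂ = cj s K₁ := by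
  by_contra h3
  push Not at h3
  have h4 : (⨆ s : S, cj (s : G) K₂) ≤ centralizer ((⨆ s : S, cj (s : G) K₁ : Subgroup G) : Set G) := by
    rw [centralizer_iSup]
    refine iSup_le fun a => le_iInf fun b => commutator_eq_bot_iff'.mp
      ((L0.component_eq_or_comm (L0.isComponent_cj hK₁ b) (L0.isComponent_cj hK₂ a)).resolve_left
        fun h5 => h3 ((a : G)⁻¹ * b) (S.mul_mem (S.inv_mem a.2) b.2) ?_)
    rw [cj_mul]
    exact (cj_inv_cj (a : G) K₂).symm.trans (congrArg _ h5.symm)
  have h5 : R ≤ fittingSubgroup G := (le_inf (h.le_of_component hO hK₁ h1)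
    ((h.le_of_component hO hK₂ h2).trans h4)).trans (L0.inf_centralizer_le_fitting
      (L0.isSubnormal_iSup fun s => (L0.isComponent_cj hK₁ s).1))
  haveI := L0.isNilpotent_fitting G
  exact (L0.IsComponent.qs hK₁).not_le_of_isSolvable inferInstance
    (h1.trans (normalClosure_le_normal h5))

theorem of_dvd (hO : pCore p G = ⊥) {Y : Subgroup G} (hY : Y = normalClosure (R : Set G))
    (hc : p ∣ Nat.card Y) : ¬ Group.IsSolvable Y ∧ Y ≤ sSup {K | IsComponent K ∧ K ≤ Y} := by
  haveI hn : Y.Normal := hY ▸ normalClosure_normal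
  obtain ⟨K, hK, h1⟩ : ∃ K, IsComponent K ∧ K ≤ Y := by
    by_contra h1
    push Not at h1
    have h2 : Y ≤ fitOf ⊤ := le_of_le_fstarOf (SN.of_normal le_top le_normalizer_of_normal)
      (by rw [fstarOf_top, hY]; exact normalClosure_le_normal (h.le_fstar hO))
      (fun K h2 h3 h4 => absurd h4 (h1 K (L0.isComponent_iff.mpr ⟨h2, h3⟩))) inf_le_right
    exact hp.out.coprime_iff_not_dvd.mp (coprime_card_fitOf (H := ⊤)
      (by rw [pCoreOf_top, hO])).symm (hc.trans (card_dvd_of_le h2))
  refine ⟨fun h2 => (L0.IsComponent.qs hK).not_le_of_isSolvable h2 h1, ?_⟩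
  haveI : (sSup {K | IsComponent K ∧ K ≤ Y} : Subgroup G).Normal :=
    normal_of_le_normalizer_top (le_normalizer_sSup_components le_normalizer_of_normal)
  exact hY.le.trans (normalClosure_le_normal ((h.le_of_component hO hK (hY ▸ h1)).trans
    (iSup_le fun s => le_sSup ⟨L0.isComponent_cj hK s, cj_le_of_le (le_normalizer_of_normal s.2) h1⟩)))

theorem eq_of_map_eq {Y : Subgroup G} (hY : Y = normalClosure (R : Set G))
    (h1 : Y.map (QuotientGroup.mk' (pCore p G)) = R.map (QuotientGroup.mk' (pCore p G))) :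
    R = Y := by
  haveI hn : Y.Normal := hY ▸ normalClosure_normal
  have hRY : R ≤ Y := hY ▸ le_normalClosure
  have h2 := le_of_map_le_map h1.le le_top le_top
  rw [QuotientGroup.ker_mk', top_inf_eq] at h2
  refine le_antisymm hRY (hY.le.trans ((normalClosure_le_normal
    (h.res.ge.trans (pResidualOf_mono hRY))).trans (pResidualOf_le_of_le_sup
      ((pResidualOf_le p Y).trans h2) (isPGroup_pCore p G) ?_)))
  exact ((pCoreOf_top p G).ge.trans h.syl.pCoreOf_le).trans h.SR

theorem quot : Iso p (S.map (QuotientGroup.mk' (pCore p G))) (R.map (QuotientGroup.mk' (pCore p G)))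
    (L.map (QuotientGroup.mk' (pCore p G))) (Q.map (QuotientGroup.mk' (pCore p G))) :=
  h.map (QuotientGroup.mk'_surjective _) (by
    rw [QuotientGroup.ker_mk', ← pCoreOf_top]; exact h.syl.pCoreOf_le)

end Iso

omit hp [Finite G] in
/-- `Y / O_p(Y)` embeds in `G / O_p(G)` for normal `Y`. -/
theorem exists_quot_embedding (p : ℕ) (Y : Subgroup G) [Y.Normal] [(pCore p Y).Normal] :
    ∃ φ : Y ⧸ pCore p Y →* G ⧸ pCore p G, Function.Injective φ ∧
      φ.comp (QuotientGroup.mk' _) = (QuotientGroup.mk' _).comp Y.subtype ∧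
      (⊤ : Subgroup (Y ⧸ pCore p Y)).map φ = Y.map (QuotientGroup.mk' _) := by
  have e : pCore p Y = (pCore p G).comap Y.subtype := by
    rw [← pCoreOf_subgroupOf, pCoreOf_eq_inf_of_normal (le_top : Y ≤ ⊤) le_normalizer_of_normal,
      pCoreOf_top, inf_subgroupOf_right]; rfl
  have h2 : (QuotientGroup.map _ _ Y.subtype e.le).comp (QuotientGroup.mk' _) =
      (QuotientGroup.mk' _).comp Y.subtype := by ext; rfl
  refine ⟨QuotientGroup.map _ _ Y.subtype e.le, ?_, h2, ?_⟩
  · rw [← MonoidHom.ker_eq_bot_iff, QuotientGroup.ker_map, ← e, Subgroup.map_eq_bot_iff,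
      QuotientGroup.ker_mk']
  · rw [← map_top_of_surjective _ (QuotientGroup.mk'_surjective (pCore p Y)), map_map, h2,
      ← map_map, map_top_subtype]

end Cfsg.H7
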