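import Cfsg.Agent.H8.GNTr3

/-! The rank one reduction when the centraliser of `Ω₁Z(O_p(G))` lies in the maximal subgroup. -/

set_option autoImplicit false
set_option linter.unusedSectionVars false
universe u
open Subgroup Matrix Cfsg Cfsg.H7 Cfsg.H7.Md
open Cfsg.H9 (Lift ldom Loc RO jt ctr MZ)
open scoped commutatorElement MatrixGroups

namespace Cfsg.H8

variable {G : Type u} [Group G] [Finite G] {p : ℕ} [hp : Fact p.Prime] {P M : Subgroup G}

theorem exists_rank_one_cm (hP : IsSylowIn p P ⊤) (hu : UniqMax P ⊤ M)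
    (hc : IsCharP p (⊤ : Subgroup G)) (hCM : centralizer (omegaOneCenter p (pCore p G) : Set G) ≤ M)
    (hJ : ¬ ⊤ ≤ normalizer (jt P : Set G)) :
    ∃ T H, RO p H ∧ IsSylowIn p T H ∧ UniqMax T H (H ⊓ M) ∧ jt P ≤ T ∧ pCore p G ≤ T ∧ T ≤ P := by
  set V := omegaOneCenter p (pCore p G) with hVdef
  set C := centralizer (V : Set G) with hCdef
  have hV : IsElementaryAbelian p V := ea_omegaOneCenter _ _
  have : C.Normal := normal_of_le_normalizer_top (le_normalizer_centralizer le_normalizer_of_normal)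
  obtain ⟨Γ, W, _, _, _, _, _, ⟨r⟩⟩ := exists_rep (V := V) (L := ⊤) (N := C)
    (ea_le_centralizer hV) le_normalizer_of_normal le_normalizer_of_normal le_rfl
  have hOT : pCore p G ≤ P := pCoreOf_top p G ▸ hP.pCoreOf_le
  have hVT : V ≤ P := (omegaOneCenter_le _ _).trans hOT
  have hOC : pCore p G ≤ C := le_centralizer_omegaOneCenter _ _
  have hPC : P ⊓ C ≤ pCore p G := pCoreOf_top p G ▸ hu.inf_le_pCoreOf hP hCM le_normalizer_of_normal
  have ub : up r.π ⊥ = C := by rw [r.up_bot, inf_top_eq]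
  have ud : ∀ X : Subgroup G, up r.π (down r.π X) = X ⊔ C := fun X => by
    rw [up_down _ le_top, ub]
  have hf := r.faithful inf_le_right
  have syl : IsSylowIn p (down r.π P) ⊤ := down_top r.surj ▸ (hP.subgroupOf le_rfl).map r.π
  have uM : up r.π (down r.π M) = M := by rw [ud, sup_eq_left.2 hCM]
  have um : UniqMax (down r.π P) ⊤ (down r.π M) :=
    ⟨down_mono _ hu.le, lt_top_iff_ne_top.mpr fun e => hu.not_le (by
        rw [← uM, e, up_top]), fun X h1 h2 => by
      rw [← up_le_up_iff r.surj, ud] at *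
      refine (hu.max _ (le_sup_left.trans h1) (lt_top_iff_ne_top.mpr fun e => h2.ne ?_)).trans
        le_sup_left
      rw [← down_up r.surj X, e, down_top r.surj]⟩
  have op : pCore p Γ = ⊥ := by
    have hn : ⊤ ≤ normalizer (up r.π (pCore p Γ) : Set G) := le_normalizer_up _ _
    have hp : ∀ x ∈ up r.π (pCore p Γ), ∃ k : ℕ, x ^ p ^ k ∈ C := fun x hx => by
      obtain ⟨h1, h2⟩ := mem_up.mp hx
      obtain ⟨k, hk⟩ := isPGroup_iff_mem.mp (isPGroup_pCore p Γ) _ h2
      exact ⟨k, (r.ker (⟨x, h1⟩ ^ p ^ k)).mp (by rw [map_pow, hk])⟩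
    have h1 := (hu.pResidualOf_le_or_le hP.isPGroup le_top hn).resolve_left fun e =>
      hu.not_pResidualOf_le hP (by
        rw [← pResidualOf_eq_of_le e le_top]
        exact (pResidualOf_le_of_pow_mem hp).trans hCM)
    have h2 := (hP.inf_of_normal le_top hn).le_sup_of_pow_mem le_normalizer_of_normal hp
    rw [eq_bot_iff, ← up_le_up_iff r.surj, ub]
    exact h2.trans (sup_le ((hu.inf_le_pCoreOf hP h1 hn).trans (by rwa [pCoreOf_top])) le_rfl)
  have bst : ∀ A, MaxAb 0 P A → down r.π A ≤ centralizer (down r.π A : Set Γ) ∧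
      Bst W (down r.π A) := fun A hA => by
    refine ⟨commutator_eq_bot_iff'.1 (by
      rw [← down_commutator _ le_top le_top, commutator_eq_bot_iff'.2 hA.comm, down_bot]),
      fun B hB => ?_⟩
    have e : down r.π (A ⊓ up r.π B) = B := le_antisymm ((down_le_iff' le_top).2 inf_le_right)
      fun b hb => let ⟨x, h1, h2⟩ := mem_down.1 (hB hb)
        h2 ▸ mem_down_of_mem ⟨h1, coe_mem_up.2 (h2 ▸ hb)⟩
    have h1 := H9.maxAb_best hA hVT (ea_le_centralizer hV) (A ⊓ up r.π B) inf_le_left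
    rw [← r.ms_down le_top, ← r.ms_down le_top, e, show C ⊓ (A ⊓ up r.π B) = C ⊓ A from
      le_antisymm (inf_le_inf_left _ inf_le_left) (le_inf inf_le_left (le_inf inf_le_right
        (inf_le_left.trans (ub.ge.trans (up_mono _ bot_le)))))] at h1
    exact Nat.le_of_mul_le_mul_right h1 Nat.card_pos
  obtain ⟨A, hA, hAC⟩ : ∃ A, MaxAb 0 P A ∧ ¬ A ≤ C := by
    by_contra! e
    have h1 := ZJ_eq_of_le ((le_inf (JT_le 0 P) (JT_le_iff.2 e)).trans hPC) hOT
    have h2 : jt P = jt (pCore p G) := by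
      rw [jt, jt, h1]
      refine le_antisymm (le_inf (le_trans (inf_le_inf_left _ (centralizer_anti ?_)) hPC)
        inf_le_right) (inf_le_inf_right _ hOT)
      exact h1 ▸ H9.le_ZJ_zero (omegaOneCenter_le _ _) (omegaOneCenter_le_centralizer _ _)
    exact hJ (h2 ▸ H9.le_normalizer_jt le_normalizer_of_normal)
  obtain ⟨B, b1, b2, b3, b4, -⟩ := exists_ea_of_bst (r.tor hV) hf (isPGroup_down _
    (hP.isPGroup.to_le hA.le)) (bst A hA).1 (bst A hA).2
    fun e => hAC (ub ▸ (down_eq_bot_iff le_top).mp e)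
  have b5 : Nat.card W ≤ ms W B := b4 ▸ ms_bot.ge.trans ((bst A hA).2 ⊥ bot_le)
  have H : PM p W (down r.π P) (down r.π M) :=
    { syl := syl, le := um.le, tor := r.tor hV, faith := hf, um := um, op := op
      cz := (um.eq_or_le (le_cz_fx _) le_top).resolve_left fun e =>
        fix_pmin (r.tor hV) hf syl um op b2 b3 b5 (le_fx_iff.2 (le_top.trans e.ge)) }
  obtain ⟨X, L, n, E, h, -⟩ := H.structure b2 b3 b5
  obtain ⟨F, _, _, ψ, hF, nt⟩ := h.lam
  set B₀ := down r.π (jt P)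
  have hBT : B₀ ≤ down r.π P := down_mono _ inf_le_left
  have c1 : cm ⊤ X ≤ fx W B₀ := by
    have e : r.uv (cm ⊤ X) ≤ ZJ 0 P := le_ZJ ((r.uv_le _).trans hVT) (le_centralizer_iff.1
      (JT_le_iff.2 fun A' hA' => le_centralizer_iff.1 (((r.uv_mono ((cm_le_fx_DT h.toFH syl.isPGroup
        h.dm h.leT).trans (fx_anti (le_DT_of_bst H h (down_mono _ hA'.le) (bst A' hA').1
          (bst A' hA').2)))).trans (r.uv_fx_down le_top).le).trans inf_le_right)))
      fun b _ => pow_zero b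
    rw [← r.uv_le_uv, r.uv_fx_down le_top]
    exact le_inf (r.uv_le _) (e.trans (le_centralizer_iff.1 inf_le_right))
  have n1 : B₀ ≤ normalizer (X : Set Γ) := fun b hb => mem_normalizer_iff_cj.2 (by
    by_contra e
    have := (h.toSH.cm_le_fx_lam h.dm (h.dm.conj b) h.leT (cj_le_of_le' (hBT hb) h.leT) (Ne.symm e)
      h.lam h.not_le).1
    rw [← sm_cm_top, sm_eq_of_mem_st (cz_le_st _ (le_fx_iff.1 c1 hb))] at this
    exact nt.not_cm_le this)
  have n2 : B₀ ≤ normalizer (L : Set Γ) := fun b hb =>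
    h.toSH.mem_normalizer_lam h.dm h.leT h.lam h.not_le (um.le (hBT hb)) (n1 hb)
  have c2 := dm_cm_le (r.tor hV) h.dm (syl.isPGroup.to_le hBT) n1 c1 fun e =>
    nt.not_cm_le (cm_le_of_le_fx e)
  have hD : B₀ ⊔ X ≤ down r.π P := sup_le hBT h.leT
  have dec : ∀ g ∈ B₀ ⊔ L, ∃ l ∈ L, l⁻¹ * g ∈ B₀ ⊔ X ∧ ∀ v, ψ (g • v) = ψ (l • v) := fun g hg => by
    obtain ⟨l, hl, b, hb, rfl⟩ := (mem_sup_of_le_normalizer' n2).1 (sup_comm B₀ L ▸ hg)
    obtain ⟨x, hx, e⟩ := nat2_triv nt (n1 hb) (n2 hb) (fun v => c2 (sub_mem_cm_top hb v))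
      fun u hu => c1 hu b hb
    have m := mul_mem hl (inv_mem (nt.le hx))
    refine ⟨l * x⁻¹, m, by
      simpa [mul_assoc] using mul_mem (mem_sup_right hx) (mem_sup_left hb : b ∈ B₀ ⊔ X), fun v => ?_⟩
    rw [← sub_eq_zero, ← map_sub, nt.ker]
    have := smul_mem (le_st_fx L m) (e v)
    rwa [smul_sub, ← mul_smul, mul_assoc, inv_mul_cancel_left] at this
  set T := P ⊓ up r.π (B₀ ⊔ X)
  have dT : down r.π T = B₀ ⊔ X := le_antisymm ((down_le_iff' le_top).2 inf_le_right)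
    fun b hb => let ⟨x, h1, h2⟩ := mem_down.1 (hD hb)
      h2 ▸ mem_down_of_mem ⟨h1, coe_mem_up.2 (h2 ▸ hb)⟩
  have hCT : pCore p G ≤ T := le_inf hOT (hOC.trans (ub.ge.trans (up_mono _ bot_le)))
  have s1 : IsSylowIn p (B₀ ⊔ X) (B₀ ⊔ L) := (isSylowIn_self (syl.isPGroup.to_le hBT)).sup
    (nat2_sylow (r.tor hV) nt h.dm.isPGroup) n2 n1
  have s2 := (isSylowIn_self (hP.isPGroup.to_inf_left (K := up r.π (B₀ ⊔ X)))).sup
    (hP.inf_of_normal (N := C) le_top le_normalizer_of_normal) le_normalizer_of_normal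
    (inf_le_left.trans (le_normalizer_inf le_normalizer le_normalizer_of_normal))
  rw [sup_eq_left.2 (hPC.trans hCT)] at s2
  have s3 : IsSylowIn p T (up r.π (B₀ ⊔ L)) := ⟨inf_le_right.trans (up_mono _ s1.le), s2.isPGroup,
    fun R r1 r2 r3 => s2.max R r1 r2 (by
      rw [← ud, dT, ← s1.max _ (isPGroup_down _ r1) (dT ▸ down_mono _ r2)
        ((down_le_iff' le_top).2 r3)]
      exact le_up_down _ le_top)⟩
  let φ : G →* Γ := r.π.comp topEquiv.symm.toMonoidHom
  have hφ : ∀ {g : G} {Y : Subgroup Γ}, g ∈ up r.π Y ↔ φ g ∈ Y :=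
    fun {g _} => coe_mem_up (f := r.π) (x := ⟨g, mem_top g⟩)
  obtain ⟨k, hk⟩ := IsPGroup.iff_card.1 h.dm.isPGroup
  have := H9.charP_of_card (hF.trans hk)
  obtain ⟨H₁, l1, l2, l3⟩ := exists_lift_le (Γ := natGraph φ ψ) (M := M) (fun N ⟨K, h1, h2⟩ => by
      have : K = 1 := nt.mat_ext fun v => by rw [← h2]; simp
      rcases h1 with rfl | e
      · exact Or.inl this
      · exact Or.inr (by rw [← this, e, neg_neg]))
    ⟨1, Or.inr (neg_neg _).symm, by simp⟩ s3 (fun g hg => by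
      obtain ⟨l, hl, -, e⟩ := dec _ (hφ.1 hg)
      obtain ⟨N, e2⟩ := nt.mat l hl
      exact ⟨N, N, Or.inl rfl, fun v => (e v).trans (e2 v)⟩) (fun b => by
      obtain ⟨a, ha, e⟩ := nt.upp' b
      obtain ⟨t, ht, rfl⟩ := mem_down.1 (dT.ge (mem_sup_right ha))
      exact ⟨t, ht, _, Or.inl rfl, e⟩) (inf_le_left.trans hu.le) (fun e => h.not_le (by
      rw [← up_le_up_iff r.surj, uM]; exact (up_mono _ le_sup_right).trans e))
    fun g hg N ⟨K, h1, h2⟩ => by
      obtain ⟨l, hl, m, e⟩ := dec _ (hφ.1 hg)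
      have a1 : Act ψ l (K 0 0) (K 0 1) (K 1 0) (K 1 1) :=
        act_iff.1 fun v => (e v).symm.trans (h2 v)
      have a2 := nt.mem_st_iff (by have := K.det_coe; rwa [det_fin_two] at this) a1
      have a3 : N ∈ upper F ↔ K 1 0 = 0 := by rcases h1 with rfl | rfl <;> simp [mem_upper]
      have a4 := um.le (hD m)
      rw [a3, ← a2, ← uM, hφ, ← mul_mem_cancel_right (inv_mem a4)]
      simp only [_root_.mul_inv_rev, inv_inv, mul_inv_cancel_left]
      exact ⟨fun a5 => by_contra fun a6 => h.not_le ((nt.gen hl a6).ge.trans (sup_le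
        (h.leT.trans um.le) (cj_le_of_le' a5 (h.leT.trans um.le)))), fun a5 =>
        h.toSH.mem_of_normalizer h.leT (h.toSH.lam_le_Cx h.dm h.leT h.lam h.not_le hl)
          (nt.mem_normalizer hl a5)⟩
  have l4 := l2.le.trans inf_le_left
  exact ⟨T, H₁, ⟨hc.of_pCoreOf_le le_top (by rw [pCoreOf_top]; exact hCT.trans l4), F, _, ‹_›, ‹_›,
    l3⟩, s3.mono l4 l1, l2, le_inf inf_le_left ((le_up_down _ le_top).trans (up_mono _ le_sup_left)),
    hCT, inf_le_left⟩

end Cfsg.H8
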