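import Cfsg.Agent.H7.RuD

/-! The enumeration of the minimal vectors. -/

set_option autoImplicit false
set_option maxRecDepth 100000

namespace Cfsg.H7.Ru

open H6 Spor

def b0 : ℕ := nat_lit 0x100010001000001000101000100010000010001010000010000000000000000000101000001000100000000000000000000000000000000

def b1 : ℕ := nat_lit 0x1000100010100000101000100010001000100000101000000000000000000000101000001000100000000000000000000000000000000

def b2 : ℕ := nat_lit 0x10000010000000101000100000101000000010000000000000100010000010000000001000000010001000000000000000000010001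

def b3 : ℕ := nat_lit 0x100010101000001010101010100000001010100010000000100010000000101010001000000010001000000000000000000010001

def BT : List ℕ := [nat_lit 0x1010101000101000001000101010000000001010000000000000000000100010001010000000000000000000000000000000000, nat_lit 0x10001000100000101010000000000010100000100010100010000000100000000010001000101010000000000000001000001, nat_lit 0x101000100000100010100010000010100010000000100000001000101000000010101000001000000000000000101000000, nat_lit 0x10101010101010101010101010101010000000000000000000000000000000000000000000000000000000000000000, nat_lit 0x100010001010000000000010101010001010000010001000001010000010100010100000100010100000100010001, nat_lit 0x1010000010100010001000101000100000100010001010101010101010101010101000000000000000000000000, nat_lit 0x101010100000000000000000000000000000000000001010000010101000100010000010100000100010001, nat_lit 0x1010101010101010000000000000000010101010101010100000000000000000000000000000000, nat_lit 0x10001010000010000000001010101000101000001000100000000000000000000010100000101,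 nat_lit 0x101000001010001000100010100000101000100010000000000000000000000000001010101, nat_lit 0x10101010001010000010001000001010101000000000000000000000001000100010100, nat_lit 0x101010101010101000000000000000000000000000000000000000000000000, nat_lit 0x10101010101010100000000000000000000000000000000, nat_lit 0x1010101010101010101010101010101, nat_lit 0x101010101010101]

def BS : List ℕ := b0 :: b1 :: b2 :: b3 :: BT

def BK0 : List Ent := [(nat_lit 0x0, nat_lit 4, [[nat_lit 7562], [nat_lit 1758], [nat_lit 3615], [nat_lit 7644], [nat_lit 3597], [nat_lit 5439], [nat_lit 7375], [nat_lit 5438], [nat_lit 2593], [nat_lit 5958], [nat_lit 6122], [nat_lit 5972], [nat_lit 4303], [nat_lit 2182], [nat_lit 5678], [nat_lit 1321], [nat_lit 137], [nat_lit 1624], [nat_lit 7556]], [], []),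
  (nat_lit 0x1000101000100010000000100000000000001000100000000010000000100010001000000000000010100000000000000010000010000, nat_lit 99, [[nat_lit 273, nat_lit 785, nat_lit 920, nat_lit 923, nat_lit 987, nat_lit 1124, nat_lit 1425, nat_lit 1747, nat_lit 8393, nat_lit 8905, nat_lit 9040, nat_lit 9043, nat_lit 9107, nat_lit 9244, nat_lit 9545, nat_lit 9867]], [nat_lit 52, nat_lit 43, nat_lit 36, nat_lit 2], [nat_lit 12, nat_lit 2, nat_lit 6, nat_lit 15, nat_lit 14, nat_lit 8, nat_lit 18, nat_lit 1, nat_lit 3, nat_lit 10, nat_lit 4, nat_lit 9]),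
  (nat_lit 0x101000001010000000000000000000000010100010001000000000000000000000000000000000000010100000100010101000000000101, nat_lit 0, [[nat_lit 39, nat_lit 38]], [], []),
  (nat_lit 0x101000001010000000000000000000000010100010001000000000000000000000000000000000001000001010001000101000000000101, nat_lit 0, [[nat_lit 30, nat_lit 18]], [], []),
  (nat_lit 0x10000000100010001000000000000000000010001000100000000000100010001000100010001000000010000000000010001000000, nat_lit 99, [[nat_lit 4276, nat_lit 4366, nat_lit 4561, nat_lit 4589, nat_lit 4692, nat_lit 5235, nat_lit 5338, nat_lit 5487, nat_lit 12396, nat_lit 12486, nat_lit 12681, nat_lit 12709, nat_lit 12812, nat_lit 13355, nat_lit 13458, nat_lit 13607]], [nat_lit 5, nat_lit 21, nat_lit 11, nat_lit 35], [nat_lit 6, nat_lit 12, nat_lit 22, nat_lit 2, nat_lit 8, nat_lit 4, nat_lit 13, nat_lit 14, nat_lit 5, nat_lit 3, nat_lit 1, nat_lit 1896]),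
  (nat_lit 0x100010001000100000000010000010000010000000001000100000000010000000000000001010000010100000000000000000101000000, nat_lit 99, [[nat_lit 4134, nat_lit 4195, nat_lit 5244, nat_lit 5287, nat_lit 5308, nat_lit 5777, nat_lit 5802, nat_lit 5804, nat_lit 12254, nat_lit 12315, nat_lit 13364, nat_lit 13407, nat_lit 13428, nat_lit 13897, nat_lit 13922, nat_lit 13924]], [nat_lit 14, nat_lit 17, nat_lit 44, nat_lit 31], [nat_lit 41, nat_lit 8, nat_lit 10, nat_lit 1, nat_lit 13, nat_lit 18, nat_lit 12, nat_lit 2, nat_lit 14, nat_lit 6, nat_lit 3, nat_lit 1896]),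
  (nat_lit 0x10100000101000000000000000000000000000000000000010001000001010000000000010101010100000101000100, nat_lit 0, [[nat_lit 14, nat_lit 12]], [], []),
  (nat_lit 0x10100000101000000000000000000000000000000000000010001000001010000000000010101010001010000010001, nat_lit 0, [[nat_lit 25, nat_lit 12]], [], []),
  (nat_lit 0x101000001010000000000000000000000000000000000000100010000010100000000000101010100010100000100010000000000000000, nat_lit 0, [[nat_lit 39, nat_lit 38]], [], []),
  (nat_lit 0x101000001010000000000000000000000000000000000000100010000010100000000000101010101000001010001000000000000000000, nat_lit 0, [[nat_lit 39, nat_lit 38]], [], []),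
  (nat_lit 0x1010000010100000000010000010000000001000100000001000001000000000100010000000000000000000100010100000000000100, nat_lit 99, [[nat_lit 6398, nat_lit 6399, nat_lit 6400, nat_lit 6436, nat_lit 6437, nat_lit 6438, nat_lit 7564, nat_lit 7598, nat_lit 14518, nat_lit 14519, nat_lit 14520, nat_lit 14556, nat_lit 14557, nat_lit 14558, nat_lit 15684, nat_lit 15718]], [nat_lit 22, nat_lit 7, nat_lit 30, nat_lit 44], [nat_lit 55, nat_lit 12, nat_lit 6, nat_lit 15, nat_lit 19, nat_lit 24, nat_lit 11, nat_lit 2, nat_lit 3, nat_lit 7, nat_lit 4, nat_lit 5816]),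
  (nat_lit 0x1000000010000000000010001000001000000000100000000000001000001000000000100010000010000000000010001010001000001, nat_lit 99, [[nat_lit 2000, nat_lit 2007, nat_lit 2008, nat_lit 2009, nat_lit 3080, nat_lit 3081, nat_lit 3082, nat_lit 3101, nat_lit 10120, nat_lit 10127, nat_lit 10128, nat_lit 10129, nat_lit 11200, nat_lit 11201, nat_lit 11202, nat_lit 11221]], [nat_lit 14, nat_lit 42, nat_lit 39, nat_lit 0], [nat_lit 3, nat_lit 11, nat_lit 2, nat_lit 24, nat_lit 8, nat_lit 1760, nat_lit 4, nat_lit 6, nat_lit 13, nat_lit 1, nat_lit 9, nat_lit 1896]),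
  (nat_lit 0x100010000000000000000000100010000000100000100000100010000010001000000010000010000000100010000000000000100000001, nat_lit 99, [[nat_lit 2464, nat_lit 2465, nat_lit 2469, nat_lit 2474, nat_lit 3660, nat_lit 3661, nat_lit 3669, nat_lit 3674, nat_lit 10584, nat_lit 10585, nat_lit 10589, nat_lit 10594, nat_lit 11780, nat_lit 11781, nat_lit 11789, nat_lit 11794]], [nat_lit 41, nat_lit 24, nat_lit 37, nat_lit 55], [nat_lit 7, nat_lit 3, nat_lit 11, nat_lit 19, nat_lit 5, nat_lit 8, nat_lit 4, nat_lit 14, nat_lit 6, nat_lit 2, nat_lit 1, nat_lit 1756]),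
  (nat_lit 0x1000001010001000101000000000101000001010000010100000000000000000001010001000100, nat_lit 0, [[nat_lit 43, nat_lit 28]], [], []),
  (nat_lit 0x1010000000000000000010100000001000001000101000000010000000001000000010001000001000000000100000100010000000000, nat_lit 99, [[nat_lit 4108, nat_lit 4460, nat_lit 4504, nat_lit 4640, nat_lit 4872, nat_lit 4947, nat_lit 5037, nat_lit 5054, nat_lit 12228, nat_lit 12580, nat_lit 12624, nat_lit 12760, nat_lit 12992, nat_lit 13067, nat_lit 13157, nat_lit 13174]], [nat_lit 24, nat_lit 33, nat_lit 43, nat_lit 5], [nat_lit 25, nat_lit 181, nat_lit 119, nat_lit 2, nat_lit 8, nat_lit 21, nat_lit 17, nat_lit 11, nat_lit 15, nat_lit 4, nat_lit 5, nat_lit 3]),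
  (nat_lit 0x1000100000001000001000000010100010000010001000000010000000100000000010000000001000000010001000100000000, nat_lit 99, [[nat_lit 116, nat_lit 370, nat_lit 456, nat_lit 964, nat_lit 1121, nat_lit 1189, nat_lit 1407, nat_lit 1555, nat_lit 8236, nat_lit 8490, nat_lit 8576, nat_lit 9084, nat_lit 9241, nat_lit 9309, nat_lit 9527, nat_lit 9675]], [nat_lit 37, nat_lit 8, nat_lit 6, nat_lit 45], [nat_lit 42, nat_lit 14, nat_lit 16, nat_lit 2, nat_lit 4, nat_lit 6, nat_lit 12, nat_lit 13, nat_lit 1, nat_lit 9, nat_lit 3, nat_lit 5]),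
  (nat_lit 0x10000010100010001010000000001010000010100000101000000000000000000010100010001000000000000000000, nat_lit 0, [[nat_lit 40, nat_lit 17]], [], []),
  (nat_lit 0x10100000100010101000000000101000001010000010100000000000000000001010001000100, nat_lit 0, [[nat_lit 40, nat_lit 17]], [], []),
  (nat_lit 0x100010100000100000000000000000000000000000000010100000000010101010000010100000100010001000001, nat_lit 0, [[nat_lit 45, nat_lit 20]], [], []),
  (nat_lit 0x1000000000100000000010000000100010001000000000000000001000100000001000001000001000001000101000001000000010000, nat_lit 99, [[nat_lit 198, nat_lit 398, nat_lit 545, nat_lit 685, nat_lit 1328, nat_lit 1525, nat_lit 1704, nat_lit 1738, nat_lit 8318, nat_lit 8518, nat_lit 8665, nat_lit 8805, nat_lit 9448, nat_lit 9645, nat_lit 9824, nat_lit 9858]], [nat_lit 25, nat_lit 36, nat_lit 12, nat_lit 18], [nat_lit 37, nat_lit 55, nat_lit 15, nat_lit 11, nat_lit 17, nat_lit 2, nat_lit 1, nat_lit 13, nat_lit 3, nat_lit 5, nat_lit 4, nat_lit 8]),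
  (nat_lit 0x100000000000100000101000100000100010000000100000100000000000001000001000000010000000000000101000000000001000100, nat_lit 99, [[nat_lit 6740, nat_lit 6741, nat_lit 6786, nat_lit 6789, nat_lit 8006, nat_lit 8007, nat_lit 8062, nat_lit 8065, nat_lit 14860, nat_lit 14861, nat_lit 14906, nat_lit 14909, nat_lit 16126, nat_lit 16127, nat_lit 16182, nat_lit 16185]], [nat_lit 34, nat_lit 10, nat_lit 31, nat_lit 3], [nat_lit 10, nat_lit 42, nat_lit 13, nat_lit 18, nat_lit 4, nat_lit 6, nat_lit 14, nat_lit 1896, nat_lit 1, nat_lit 2, nat_lit 3, nat_lit 5816]),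
  (nat_lit 0x10100000000000001000100010000000000010001000101000100000001000000000100000100010000000000000100000001, nat_lit 99, [[nat_lit 2466, nat_lit 2467, nat_lit 2468, nat_lit 2475, nat_lit 3658, nat_lit 3659, nat_lit 3668, nat_lit 3675, nat_lit 10586, nat_lit 10587, nat_lit 10588, nat_lit 10595, nat_lit 11778, nat_lit 11779, nat_lit 11788, nat_lit 11795]], [nat_lit 32, nat_lit 16, nat_lit 50, nat_lit 28], [nat_lit 9, nat_lit 20, nat_lit 7, nat_lit 3, nat_lit 10, nat_lit 13, nat_lit 1, nat_lit 6, nat_lit 2, nat_lit 4, nat_lit 5, nat_lit 1756]),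
  (nat_lit 0x100000101000100010100000000010100000101000001010000000000000000000101000100010000000000000000000000000000000000, nat_lit 0, [[nat_lit 58, nat_lit 49]], [], []),
  (nat_lit 0x101000001000101010000000001010000010100000101000000000000000000010100010001000000000000000000, nat_lit 0, [[nat_lit 41, nat_lit 24]], [], []),
  (nat_lit 0x1000000000001000101000001010001000000010000000001000000000100000001000000010001000100000000000100000100000000, nat_lit 99, [[nat_lit 140, nat_lit 595, nat_lit 784, nat_lit 953, nat_lit 1229, nat_lit 1446, nat_lit 1585, nat_lit 1631, nat_lit 8260, nat_lit 8715, nat_lit 8904, nat_lit 9073, nat_lit 9349, nat_lit 9566, nat_lit 9705, nat_lit 9751]], [nat_lit 45, nat_lit 7, nat_lit 35, nat_lit 15], [nat_lit 12, nat_lit 14, nat_lit 2, nat_lit 19, nat_lit 3, nat_lit 6, nat_lit 7, nat_lit 5, nat_lit 8, nat_lit 1, nat_lit 4, nat_lit 10]),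
  (nat_lit 0x1000000000001010001000100010000000001000001000100000000000001000100000100000000010001000000000001010000000000, nat_lit 99, [[nat_lit 4142, nat_lit 4667, nat_lit 5148, nat_lit 5224, nat_lit 5423, nat_lit 5599, nat_lit 5678, nat_lit 5762, nat_lit 12262, nat_lit 12787, nat_lit 13268, nat_lit 13344, nat_lit 13543, nat_lit 13719, nat_lit 13798, nat_lit 13882]], [nat_lit 5, nat_lit 31, nat_lit 19, nat_lit 41], [nat_lit 9, nat_lit 13, nat_lit 35, nat_lit 54, nat_lit 4, nat_lit 10, nat_lit 2, nat_lit 7, nat_lit 3, nat_lit 5, nat_lit 1, nat_lit 12]),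
  (nat_lit 0x1000101000001000000000000000000000000000000000101000000000101010100000101000001000100010000010000000000000000, nat_lit 0, [[nat_lit 43, nat_lit 28]], [], []),
  (nat_lit 0x10001000001000001000000010100010000010100000001000000000000010001000001000000000100000001000100000000, nat_lit 99, [[nat_lit 345, nat_lit 392, nat_lit 448, nat_lit 638, nat_lit 646, nat_lit 813, nat_lit 1298, nat_lit 1412, nat_lit 8465, nat_lit 8512, nat_lit 8568, nat_lit 8758, nat_lit 8766, nat_lit 8933, nat_lit 9418, nat_lit 9532]], [nat_lit 15, nat_lit 37, nat_lit 18, nat_lit 50], [nat_lit 20, nat_lit 61, nat_lit 30, nat_lit 14, nat_lit 5, nat_lit 9, nat_lit 12, nat_lit 16, nat_lit 2, nat_lit 4, nat_lit 1, nat_lit 3]),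
  (nat_lit 0x100000101000001000000010000010001000000000000010000000100000001010001000000000000000000000100010001000000000001, nat_lit 99, [[nat_lit 2155, nat_lit 2205, nat_lit 3287, nat_lit 3288, nat_lit 3289, nat_lit 3341, nat_lit 3342, nat_lit 3343, nat_lit 10275, nat_lit 10325, nat_lit 11407, nat_lit 11408, nat_lit 11409, nat_lit 11461, nat_lit 11462, nat_lit 11463]], [nat_lit 55, nat_lit 6, nat_lit 28, nat_lit 32], [nat_lit 4, nat_lit 30, nat_lit 62, nat_lit 13, nat_lit 6, nat_lit 12, nat_lit 1, nat_lit 2, nat_lit 3, nat_lit 7, nat_lit 10, nat_lit 1756]),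
  (nat_lit 0x100000001000100010000000000000000000100010001000000000001000100010001000100010000000100000000000100010000, nat_lit 99, [[nat_lit 216, nat_lit 306, nat_lit 501, nat_lit 529, nat_lit 632, nat_lit 1175, nat_lit 1278, nat_lit 1427, nat_lit 8336, nat_lit 8426, nat_lit 8621, nat_lit 8649, nat_lit 8752, nat_lit 9295, nat_lit 9398, nat_lit 9547]], [nat_lit 46, nat_lit 14, nat_lit 18, nat_lit 24], [nat_lit 11, nat_lit 27, nat_lit 26, nat_lit 3, nat_lit 9, nat_lit 7, nat_lit 2, nat_lit 4, nat_lit 5, nat_lit 12, nat_lit 1, nat_lit 6]),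
  (nat_lit 0x1010000010001010100000000010100000101000001010000000000000000000101000100010000000000000000000000000000000000, nat_lit 0, [[nat_lit 55, nat_lit 15]], [], [])]

def BK1 : List Ent := [(nat_lit 0x1010101010101010101010101010101, nat_lit 0, [[nat_lit 14, nat_lit 12]], [], []),
  (nat_lit 0x100000000010000010001000000000000010100000000000000000101000000000101000100000100000100000000010000000100010000, nat_lit 99, [[nat_lit 19, nat_lit 50, nat_lit 283, nat_lit 439, nat_lit 485, nat_lit 1072, nat_lit 1096, nat_lit 1651, nat_lit 8139, nat_lit 8170, nat_lit 8403, nat_lit 8559, nat_lit 8605, nat_lit 9192, nat_lit 9216, nat_lit 9771]], [nat_lit 47, nat_lit 28, nat_lit 2, nat_lit 16], [nat_lit 167, nat_lit 3, nat_lit 4, nat_lit 13, nat_lit 17, nat_lit 6, nat_lit 12, nat_lit 14, nat_lit 5, nat_lit 1, nat_lit 2, nat_lit 7]),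
  (nat_lit 0x1010000000000000001000001000000010100000101000001000000010000000100000000010000000100000001000000000000010100, nat_lit 99, [[nat_lit 6601, nat_lit 6648, nat_lit 7824, nat_lit 7825, nat_lit 7829, nat_lit 7880, nat_lit 7884, nat_lit 7885, nat_lit 14721, nat_lit 14768, nat_lit 15944, nat_lit 15945, nat_lit 15949, nat_lit 16000, nat_lit 16004, nat_lit 16005]], [nat_lit 38, nat_lit 2, nat_lit 17, nat_lit 53], [nat_lit 2, nat_lit 32, nat_lit 21, nat_lit 6, nat_lit 3, nat_lit 7, nat_lit 4, nat_lit 9, nat_lit 1, nat_lit 5, nat_lit 12, nat_lit 5816]),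
  (nat_lit 0x1010000010100010000000100000000000001000100000001000001000000000000000001010001000001000000000000010000010000, nat_lit 99, [[nat_lit 334, nat_lit 422, nat_lit 467, nat_lit 504, nat_lit 753, nat_lit 757, nat_lit 1201, nat_lit 1351, nat_lit 8454, nat_lit 8542, nat_lit 8587, nat_lit 8624, nat_lit 8873, nat_lit 8877, nat_lit 9321, nat_lit 9471]], [nat_lit 49, nat_lit 17, nat_lit 30, nat_lit 34], [nat_lit 52, nat_lit 44, nat_lit 26, nat_lit 8, nat_lit 2, nat_lit 10, nat_lit 4, nat_lit 5, nat_lit 3, nat_lit 1, nat_lit 6, nat_lit 9]),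
  (nat_lit 0x100000100000001000100000000000100000001000000000001000001000101000000000000000100000100000100010001000100, nat_lit 99, [[nat_lit 5951, nat_lit 5952, nat_lit 7005, nat_lit 7006, nat_lit 7007, nat_lit 7008, nat_lit 7009, nat_lit 7010, nat_lit 14071, nat_lit 14072, nat_lit 15125, nat_lit 15126, nat_lit 15127, nat_lit 15128, nat_lit 15129, nat_lit 15130]], [nat_lit 3, nat_lit 24, nat_lit 37, nat_lit 45], [nat_lit 126, nat_lit 14, nat_lit 6, nat_lit 16, nat_lit 10, nat_lit 1896, nat_lit 2, nat_lit 1, nat_lit 3, nat_lit 9, nat_lit 12, nat_lit 5816]),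
  (nat_lit 0x1000100000000010000010000000000000001010000000100010000010001000100000001000000000100010000000000000100000001, nat_lit 99, [[nat_lit 2054, nat_lit 2057, nat_lit 3174, nat_lit 3177, nat_lit 3182, nat_lit 3183, nat_lit 3186, nat_lit 3187, nat_lit 10174, nat_lit 10177, nat_lit 11294, nat_lit 11297, nat_lit 11302, nat_lit 11303, nat_lit 11306, nat_lit 11307]], [nat_lit 0, nat_lit 36, nat_lit 18, nat_lit 44], [nat_lit 198, nat_lit 73, nat_lit 20, nat_lit 45, nat_lit 46, nat_lit 1756, nat_lit 1, nat_lit 3, nat_lit 4, nat_lit 7, nat_lit 2, nat_lit 5]),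
  (nat_lit 0x10100000000000100010001000000000001000001010001000001000100000001000001000000000000010000010000000100, nat_lit 99, [[nat_lit 6102, nat_lit 6103, nat_lit 6137, nat_lit 6138, nat_lit 6139, nat_lit 6140, nat_lit 7216, nat_lit 7217, nat_lit 14222, nat_lit 14223, nat_lit 14257, nat_lit 14258, nat_lit 14259, nat_lit 14260, nat_lit 15336, nat_lit 15337]], [nat_lit 43, nat_lit 49, nat_lit 30, nat_lit 15], [nat_lit 43, nat_lit 21, nat_lit 28, nat_lit 3, nat_lit 14, nat_lit 2, nat_lit 6, nat_lit 7, nat_lit 9, nat_lit 10, nat_lit 12, nat_lit 5816]),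
  (nat_lit 0x100010000000001000000010000010001000000000000000000010001000000010100000000010001010001000000010000000001, nat_lit 99, [[nat_lit 2117, nat_lit 2128, nat_lit 2129, nat_lit 2130, nat_lit 3231, nat_lit 3232, nat_lit 3233, nat_lit 3256, nat_lit 10237, nat_lit 10248, nat_lit 10249, nat_lit 10250, nat_lit 11351, nat_lit 11352, nat_lit 11353, nat_lit 11376]], [nat_lit 50, nat_lit 45, nat_lit 14, nat_lit 5], [nat_lit 39, nat_lit 9, nat_lit 5, nat_lit 3, nat_lit 11, nat_lit 7, nat_lit 15, nat_lit 2, nat_lit 6, nat_lit 12, nat_lit 1, nat_lit 1756]),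
  (nat_lit 0x101000000000101000001010000000100000000010000000100010000000100000100000000000000010000010000000001000100, nat_lit 99, [[nat_lit 6748, nat_lit 6749, nat_lit 6776, nat_lit 6779, nat_lit 8014, nat_lit 8015, nat_lit 8056, nat_lit 8059, nat_lit 14868, nat_lit 14869, nat_lit 14896, nat_lit 14899, nat_lit 16134, nat_lit 16135, nat_lit 16176, nat_lit 16179]], [nat_lit 19, nat_lit 41, nat_lit 37, nat_lit 8], [nat_lit 5, nat_lit 1, nat_lit 9, nat_lit 10, nat_lit 7, nat_lit 3, nat_lit 2, nat_lit 4, nat_lit 12, nat_lit 13, nat_lit 1896, nat_lit 5816]),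
  (nat_lit 0x1010101000000000101000001010001000100010100000000000000000001000100000101000000000000000000, nat_lit 0, [[nat_lit 124, nat_lit 26]], [], []),
  (nat_lit 0x1000100010100000101000100010000010001010000010000000000000000000101000001000100000000000000000000000000000000, nat_lit 0, [[nat_lit 55, nat_lit 15]], [], []),
  (nat_lit 0x1000100010100000101000100010000010001010000010000000000000000010000010100010000000000000000000000000000000000, nat_lit 99, [[nat_lit 4166, nat_lit 4192, nat_lit 4492, nat_lit 4550, nat_lit 4553, nat_lit 4628, nat_lit 4693, nat_lit 4736, nat_lit 4938, nat_lit 4988, nat_lit 5228, nat_lit 5337, nat_lit 5344, nat_lit 5503, nat_lit 5521, nat_lit 5628, nat_lit 12286, nat_lit 12312, nat_lit 12612, nat_lit 12670, nat_lit 12673, nat_lit 12748, nat_lit 12813, nat_lit 12856, nat_lit 13058, nat_lit 13108, nat_lit 13348, nat_lit 13457, nat_lit 13464, nat_lit 13623, nat_lit 13641, nat_lit 13748]], [nat_lit 46, nat_lit 17, nat_lit 43, nat_lit 32, nat_lit 19], [nat_lit 42, nat_lit 60, nat_lit 18, nat_lit 26, nat_lit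 7, nat_lit 9, nat_lit 2, nat_lit 5, nat_lit 6, nat_lit 3, nat_lit 1]),
  (nat_lit 0x100010001000100000001000000000100010000000001000100000000010000010001000000000001000001000000000100000000000100, nat_lit 99, [[nat_lit 6412, nat_lit 6413, nat_lit 6414, nat_lit 6424, nat_lit 7574, nat_lit 7586, nat_lit 7587, nat_lit 7588, nat_lit 14532, nat_lit 14533, nat_lit 14534, nat_lit 14544, nat_lit 15694, nat_lit 15706, nat_lit 15707, nat_lit 15708]], [nat_lit 38, nat_lit 40, nat_lit 7, nat_lit 53], [nat_lit 4, nat_lit 6, nat_lit 18, nat_lit 12, nat_lit 10, nat_lit 9, nat_lit 3, nat_lit 2, nat_lit 5, nat_lit 1, nat_lit 13, nat_lit 5816]),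
  (nat_lit 0x10000010001000101000100000101000101010100000000000000000000000000000101010100000000000000000000, nat_lit 0, [[nat_lit 40, nat_lit 17]], [], []),
  (nat_lit 0x100010000000000010000000101000100000000000001010000000000010000000000010000010001000100010000000100000100, nat_lit 99, [[nat_lit 6179, nat_lit 6180, nat_lit 6181, nat_lit 6186, nat_lit 7297, nat_lit 7310, nat_lit 7311, nat_lit 7312, nat_lit 14299, nat_lit 14300, nat_lit 14301, nat_lit 14306, nat_lit 15417, nat_lit 15430, nat_lit 15431, nat_lit 15432]], [nat_lit 1, nat_lit 39, nat_lit 29, nat_lit 12], [nat_lit 55, nat_lit 69, nat_lit 46, nat_lit 56, nat_lit 8, nat_lit 42, nat_lit 5, nat_lit 5816, nat_lit 9, nat_lit 6, nat_lit 3, nat_lit 1]),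
  (nat_lit 0x100010000010100000000000101010101000001010001000000000000000000010100000101000000000000000000000000000000000000, nat_lit 0, [[nat_lit 52, nat_lit 1]], [], []),
  (nat_lit 0x100000000010000000000000100000100000000010001000001000000000001010000010001010000010000000100000000000100010000, nat_lit 99, [[nat_lit 138, nat_lit 265, nat_lit 547, nat_lit 657, nat_lit 876, nat_lit 1359, nat_lit 1493, nat_lit 1561, nat_lit 8258, nat_lit 8385, nat_lit 8667, nat_lit 8777, nat_lit 8996, nat_lit 9479, nat_lit 9613, nat_lit 9681]], [nat_lit 24, nat_lit 40, nat_lit 55, nat_lit 20], [nat_lit 214, nat_lit 2, nat_lit 8, nat_lit 12, nat_lit 14, nat_lit 19, nat_lit 13, nat_lit 1, nat_lit 4, nat_lit 10, nat_lit 3, nat_lit 6]),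
  (nat_lit 0x100010000010100000000000101010100010100000100010000000000000000010100000101000000000000000000000000000000000000, nat_lit 0, [[nat_lit 11, nat_lit 3]], [], []),
  (nat_lit 0x100000000000100000100010001000100000100000000010001000000000100010000000001000001000100000000000100000100000000, nat_lit 99, [[nat_lit 82, nat_lit 607, nat_lit 1088, nat_lit 1164, nat_lit 1363, nat_lit 1539, nat_lit 1618, nat_lit 1702, nat_lit 8202, nat_lit 8727, nat_lit 9208, nat_lit 9284, nat_lit 9483, nat_lit 9659, nat_lit 9738, nat_lit 9822]], [nat_lit 18, nat_lit 32, nat_lit 46, nat_lit 30], [nat_lit 22, nat_lit 7, nat_lit 5, nat_lit 14, nat_lit 15, nat_lit 2, nat_lit 17, nat_lit 16, nat_lit 8, nat_lit 9, nat_lit 6, nat_lit 1]),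
  (nat_lit 0x10000000001000001000100000001000000000100000100010000000000000000000100010000010000000000010001010000010100, nat_lit 99, [[nat_lit 5957, nat_lit 5966, nat_lit 5967, nat_lit 5968, nat_lit 7023, nat_lit 7024, nat_lit 7025, nat_lit 7034, nat_lit 14077, nat_lit 14086, nat_lit 14087, nat_lit 14088, nat_lit 15143, nat_lit 15144, nat_lit 15145, nat_lit 15154]], [nat_lit 19, nat_lit 34, nat_lit 29, nat_lit 8], [nat_lit 194, nat_lit 8, nat_lit 12, nat_lit 4, nat_lit 5, nat_lit 11, nat_lit 13, nat_lit 2, nat_lit 6, nat_lit 1, nat_lit 9, nat_lit 5816]),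
  (nat_lit 0x1000000000001010001000100010000010000000100000000000100010000000000010000000100010001000000000000000000010001, nat_lit 99, [[nat_lit 1816, nat_lit 1821, nat_lit 1844, nat_lit 1845, nat_lit 2848, nat_lit 2849, nat_lit 2878, nat_lit 2879, nat_lit 9936, nat_lit 9941, nat_lit 9964, nat_lit 9965, nat_lit 10968, nat_lit 10969, nat_lit 10998, nat_lit 10999]], [nat_lit 54, nat_lit 0, nat_lit 43, nat_lit 38], [nat_lit 144, nat_lit 10, nat_lit 31, nat_lit 20, nat_lit 29, nat_lit 28, nat_lit 6, nat_lit 1757, nat_lit 1, nat_lit 2, nat_lit 3, nat_lit 4]),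
  (nat_lit 0x100000000000001010000000001000001000100000000000000000000010001000001000001000000010001010001000000010000000001, nat_lit 99, [[nat_lit 2404, nat_lit 2423, nat_lit 3580, nat_lit 3581, nat_lit 3582, nat_lit 3605, nat_lit 3606, nat_lit 3607, nat_lit 10524, nat_lit 10543, nat_lit 11700, nat_lit 11701, nat_lit 11702, nat_lit 11725, nat_lit 11726, nat_lit 11727]], [nat_lit 37, nat_lit 55, nat_lit 0, nat_lit 24], [nat_lit 10, nat_lit 32, nat_lit 1757, nat_lit 12, nat_lit 2, nat_lit 4, nat_lit 5, nat_lit 6, nat_lit 8, nat_lit 3, nat_lit 1, nat_lit 9]),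
  (nat_lit 0x100010001000001000000000000000000010001010000010000000000000000000000000000000001010000000001010000010100000101, nat_lit 0, [[nat_lit 25, nat_lit 5]], [], []),
  (nat_lit 0x1010101010000010100010001010000000001010000000000000000010001000100000100000000000000000000000000000000, nat_lit 0, [[nat_lit 55, nat_lit 15]], [], []),
  (nat_lit 0x101000000000101010100000101000001000100010000010000000000000000010001000001010000000000000000000000000000000000, nat_lit 0, [[nat_lit 31, nat_lit 27]], [], []),
  (nat_lit 0x1010101000101000001000101010000000001010000000000000000010001000100000100000000000000000000000000000000, nat_lit 0, [[nat_lit 64, nat_lit 12]], [], [])]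

def BK2 : List Ent := [(nat_lit 0x100000001000000000000010001000000000100000001000100010000000000000101000000000000000100000100000100010000010001, nat_lit 99, [[nat_lit 2734, nat_lit 2735, nat_lit 2736, nat_lit 2741, nat_lit 4018, nat_lit 4023, nat_lit 4024, nat_lit 4025, nat_lit 10854, nat_lit 10855, nat_lit 10856, nat_lit 10861, nat_lit 12138, nat_lit 12143, nat_lit 12144, nat_lit 12145]], [nat_lit 2, nat_lit 22, nat_lit 42, nat_lit 31], [nat_lit 25, nat_lit 30, nat_lit 27, nat_lit 11, nat_lit 21, nat_lit 1, nat_lit 2, nat_lit 5, nat_lit 3, nat_lit 9, nat_lit 13, nat_lit 1756]),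
  (nat_lit 0x100000100000100000000010001000000000100000000000000010100000101000000000000000001010000000100010001000100, nat_lit 99, [[nat_lit 5820, nat_lit 5821, nat_lit 5822, nat_lit 5827, nat_lit 6844, nat_lit 6849, nat_lit 6850, nat_lit 6851, nat_lit 13940, nat_lit 13941, nat_lit 13942, nat_lit 13947, nat_lit 14964, nat_lit 14969, nat_lit 14970, nat_lit 14971]], [nat_lit 34, nat_lit 12, nat_lit 26, nat_lit 22], [nat_lit 10, nat_lit 16, nat_lit 13, nat_lit 4, nat_lit 12, nat_lit 1, nat_lit 7, nat_lit 5, nat_lit 2, nat_lit 9, nat_lit 1896, nat_lit 5816]),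
  (nat_lit 0x1010001000100000000000000000000000000000000000100000101000100000001010101000000000101000001010000000000000000, nat_lit 0, [[nat_lit 43, nat_lit 28]], [], []),
  (nat_lit 0x1010101000000000000000000000000000000000000010000010001000101000100000101000101010100000000, nat_lit 0, [[nat_lit 40, nat_lit 17]], [], []),
  (nat_lit 0x100000000010000000000000001010000000000010001000001000000000001010001000001000100000001000001000100000000000001, nat_lit 99, [[nat_lit 2224, nat_lit 2227, nat_lit 2252, nat_lit 2255, nat_lit 3360, nat_lit 3363, nat_lit 3404, nat_lit 3407, nat_lit 10344, nat_lit 10347, nat_lit 10372, nat_lit 10375, nat_lit 11480, nat_lit 11483, nat_lit 11524, nat_lit 11527]], [nat_lit 42, nat_lit 16, nat_lit 24, nat_lit 0], [nat_lit 4, nat_lit 207, nat_lit 52, nat_lit 23, nat_lit 34, nat_lit 1756, nat_lit 9, nat_lit 7, nat_lit 1, nat_lit 5, nat_lit 15, nat_lit 2]),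
  (nat_lit 0x1010001000100000000000000000000000000000000000001010000010001000001010101000000000101000001010000000000000000, nat_lit 0, [[nat_lit 10, nat_lit 4]], [], []),
  (nat_lit 0x1010101010101010000000000000000010101010101010100000000000000000000000000000000, nat_lit 0, [[nat_lit 1804, nat_lit 136]], [], []),
  (nat_lit 0x1000100000001000001000001000001010000010000010000000001010000000000000100000001000000010000000000010100, nat_lit 99, [[nat_lit 6603, nat_lit 6642, nat_lit 6646, nat_lit 6647, nat_lit 7830, nat_lit 7831, nat_lit 7835, nat_lit 7878, nat_lit 14723, nat_lit 14762, nat_lit 14766, nat_lit 14767, nat_lit 15950, nat_lit 15951, nat_lit 15955, nat_lit 15998]], [nat_lit 51, nat_lit 24, nat_lit 8, nat_lit 42], [nat_lit 22, nat_lit 8, nat_lit 2, nat_lit 12, nat_lit 4, nat_lit 3, nat_lit 9, nat_lit 6, nat_lit 5, nat_lit 1, nat_lit 10, nat_lit 5816]),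
  (nat_lit 0x10000010000000100010100010000000100000000010100000000000001010000000001000001000100000000000000000000010001, nat_lit 99, [[nat_lit 1830, nat_lit 1833, nat_lit 1834, nat_lit 1835, nat_lit 2858, nat_lit 2861, nat_lit 2862, nat_lit 2863, nat_lit 9950, nat_lit 9953, nat_lit 9954, nat_lit 9955, nat_lit 10978, nat_lit 10981, nat_lit 10982, nat_lit 10983]], [nat_lit 2, nat_lit 44, nat_lit 53, nat_lit 32], [nat_lit 48, nat_lit 8, nat_lit 46, nat_lit 7, nat_lit 22, nat_lit 4, nat_lit 1, nat_lit 3, nat_lit 5, nat_lit 2, nat_lit 6, nat_lit 1756]),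
  (nat_lit 0x100010000000000000000000001000100000001010000000100000100010100010000000100000001000000000000010000010000000100, nat_lit 99, [[nat_lit 6136, nat_lit 6141, nat_lit 7214, nat_lit 7215, nat_lit 7218, nat_lit 7219, nat_lit 7260, nat_lit 7261, nat_lit 14256, nat_lit 14261, nat_lit 15334, nat_lit 15335, nat_lit 15338, nat_lit 15339, nat_lit 15380, nat_lit 15381]], [nat_lit 25, nat_lit 19, nat_lit 55, nat_lit 40], [nat_lit 52, nat_lit 1, nat_lit 24, nat_lit 19, nat_lit 2, nat_lit 4, nat_lit 6, nat_lit 10, nat_lit 8, nat_lit 3, nat_lit 9, nat_lit 5816]),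
  (nat_lit 0x101000000010001000001000100000001000001000001000000000100000100000100000000010001000000000000000001000100, nat_lit 99, [[nat_lit 5890, nat_lit 5893, nat_lit 5894, nat_lit 5895, nat_lit 6918, nat_lit 6921, nat_lit 6922, nat_lit 6923, nat_lit 14010, nat_lit 14013, nat_lit 14014, nat_lit 14015, nat_lit 15038, nat_lit 15041, nat_lit 15042, nat_lit 15043]], [nat_lit 1, nat_lit 25, nat_lit 42, nat_lit 14], [nat_lit 40, nat_lit 6, nat_lit 3, nat_lit 4, nat_lit 7, nat_lit 8, nat_lit 5, nat_lit 5817, nat_lit 1896, nat_lit 1, nat_lit 12, nat_lit 13]),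
  (nat_lit 0x101000000000100010001000100000001000001000001000000000100010000000001000000000000000101000001010000000000, nat_lit 99, [[nat_lit 4362, nat_lit 4491, nat_lit 4669, nat_lit 4928, nat_lit 5079, nat_lit 5697, nat_lit 5721, nat_lit 5797, nat_lit 12482, nat_lit 12611, nat_lit 12789, nat_lit 13048, nat_lit 13199, nat_lit 13817, nat_lit 13841, nat_lit 13917]], [nat_lit 52, nat_lit 6, nat_lit 33, nat_lit 30], [nat_lit 25, nat_lit 14, nat_lit 29, nat_lit 30, nat_lit 15, nat_lit 5, nat_lit 6, nat_lit 7, nat_lit 3, nat_lit 1, nat_lit 4, nat_lit 9]),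
  (nat_lit 0x1010000010100000000000000000000000000000000010001000001010000000000010101010100000101000100, nat_lit 0, [[nat_lit 31, nat_lit 28]], [], []),
  (nat_lit 0x1010000010100000000000000000000000000000000010001000001010000000000010101010001010000010001, nat_lit 0, [[nat_lit 31, nat_lit 28]], [], []),
  (nat_lit 0x1000100010100010000010001000100000000000000000000000001010101000000000000000000000000000000000101000001010000, nat_lit 0, [[nat_lit 60, nat_lit 6]], [], []),
  (nat_lit 0x100000000000100000101000100000100000100000000010001000000000100000000010000000100000000000101000001010000000000, nat_lit 99, [[nat_lit 4351, nat_lit 4424, nat_lit 4448, nat_lit 4554, nat_lit 4593, nat_lit 5085, nat_lit 5096, nat_lit 5360, nat_lit 12471, nat_lit 12544, nat_lit 12568, nat_lit 12674, nat_lit 12713, nat_lit 13205, nat_lit 13216, nat_lit 13480]], [nat_lit 43, nat_lit 20, nat_lit 55, nat_lit 25], [nat_lit 21, nat_lit 35, nat_lit 6, nat_lit 12, nat_lit 2, nat_lit 4, nat_lit 14, nat_lit 1, nat_lit 8, nat_lit 10, nat_lit 3, nat_lit 9]),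
  (nat_lit 0x1000101000001010101010000000000000000000000000000010101010000000000000000000000000000000000000001010001000100, nat_lit 0, [[nat_lit 42, nat_lit 26]], [], []),
  (nat_lit 0x1010101000000000000000000000000000000000101000001010000000100010001010001000001000100010000000000000000, nat_lit 0, [[nat_lit 43, nat_lit 28]], [], []),
  (nat_lit 0x10001010000000000010000010100010000010100000001000000000001000100000000010000010000000000000000010100, nat_lit 99, [[nat_lit 6014, nat_lit 6015, nat_lit 6016, nat_lit 6041, nat_lit 6042, nat_lit 6043, nat_lit 7092, nat_lit 7121, nat_lit 14134, nat_lit 14135, nat_lit 14136, nat_lit 14161, nat_lit 14162, nat_lit 14163, nat_lit 15212, nat_lit 15241]], [nat_lit 38, nat_lit 47, nat_lit 31, nat_lit 19], [nat_lit 3, nat_lit 31, nat_lit 18, nat_lit 6, nat_lit 29, nat_lit 13, nat_lit 9, nat_lit 1, nat_lit 5, nat_lit 4, nat_lit 2, nat_lit 5816]),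
  (nat_lit 0x100000100010001000000000000000000000000010101010000000000000000000000000000000001010000010100000100010001000001, nat_lit 0, [[nat_lit 34, nat_lit 23]], [], []),
  (nat_lit 0x10100000101000000000000000001000001000100010000000000000000000000000000000000010100000100010101000000000101, nat_lit 0, [[nat_lit 41, nat_lit 37]], [], []),
  (nat_lit 0x101000000000101000000000000000001000100010000010000000000000000000000000000000001010101000000000100000101000100, nat_lit 0, [[nat_lit 14, nat_lit 12]], [], []),
  (nat_lit 0x101000000000101000000000000000001000100010000010000000000000000000000000000000001010101000000000001010000010001, nat_lit 0, [[nat_lit 31, nat_lit 28]], [], []),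
  (nat_lit 0x10100000101000000000000000001000001000100010000000000000000000000000000000001000001010001000101000000000101, nat_lit 0, [[nat_lit 30, nat_lit 3]], [], []),
  (nat_lit 0x1000000000001010001000001000101000000010000000001000000000100000100000100000000000000000101000001010000000000, nat_lit 99, [[nat_lit 4151, nat_lit 4262, nat_lit 4340, nat_lit 4776, nat_lit 4997, nat_lit 5026, nat_lit 5273, nat_lit 5769, nat_lit 12271, nat_lit 12382, nat_lit 12460, nat_lit 12896, nat_lit 13117, nat_lit 13146, nat_lit 13393, nat_lit 13889]], [nat_lit 30, nat_lit 45, nat_lit 5, nat_lit 19], [nat_lit 110, nat_lit 19, nat_lit 27, nat_lit 31, nat_lit 8, nat_lit 17, nat_lit 1, nat_lit 3, nat_lit 12, nat_lit 4, nat_lit 6, nat_lit 10])]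

def BK3 : List Ent := [(nat_lit 0x1010001000100010001000001010000000000000000000100000101000100000000000000000000000000000000000100010001000001, nat_lit 99, [[nat_lit 1920, nat_lit 1921, nat_lit 1922, nat_lit 1923, nat_lit 2595, nat_lit 2596, nat_lit 2599, nat_lit 2600, nat_lit 3104, nat_lit 3105, nat_lit 3106, nat_lit 3107, nat_lit 3753, nat_lit 3754, nat_lit 3757, nat_lit 3758, nat_lit 10040, nat_lit 10041, nat_lit 10042, nat_lit 10043, nat_lit 10715, nat_lit 10716, nat_lit 10719, nat_lit 10720, nat_lit 11224, nat_lit 11225, nat_lit 11226, nat_lit 11227, nat_lit 11873, nat_lit 11874, nat_lit 11877, nat_lit 11878]], [nat_lit 28, nat_lit 7, nat_lit 54, nat_lit 42, nat_lit 53], [nat_lit 4, nat_lit 8, nat_lit 10, nat_lit 2, nat_lit 13, nat_lit 14, nat_lit 1, nat_lit 3, nat_lit 9, nat_lit 1756, nat_lit 1896]),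
  (nat_lit 0x101010100000000010000010100010000000000000000000101000001010000000000000000000000000000000000000001000101000001, nat_lit 0, [[nat_lit 58, nat_lit 33]], [], []),
  (nat_lit 0x10101010000000001000001010001000000010101010000000000000000000000010001000101000000000000000000, nat_lit 0, [[nat_lit 40, nat_lit 17]], [], []),
  (nat_lit 0x10001000000010000000001000001000100000000000000000001000100000100000000000100010100000101000000010000000001, nat_lit 99, [[nat_lit 2123, nat_lit 2124, nat_lit 3241, nat_lit 3242, nat_lit 3243, nat_lit 3244, nat_lit 3245, nat_lit 3246, nat_lit 10243, nat_lit 10244, nat_lit 11361, nat_lit 11362, nat_lit 11363, nat_lit 11364, nat_lit 11365, nat_lit 11366]], [nat_lit 13, nat_lit 0, nat_lit 53, nat_lit 25], [nat_lit 6, nat_lit 14, nat_lit 13, nat_lit 2, nat_lit 4, nat_lit 5, nat_lit 12, nat_lit 1756, nat_lit 3, nat_lit 1, nat_lit 9, nat_lit 10]),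
  (nat_lit 0x1000000000100000100000100000000000000000101000001010000000000000100000000000100010001010001000100000001000000, nat_lit 99, [[nat_lit 4158, nat_lit 4573, nat_lit 4820, nat_lit 4893, nat_lit 4998, nat_lit 5028, nat_lit 5299, nat_lit 5514, nat_lit 12278, nat_lit 12693, nat_lit 12940, nat_lit 13013, nat_lit 13118, nat_lit 13148, nat_lit 13419, nat_lit 13634]], [nat_lit 3, nat_lit 14, nat_lit 33, nat_lit 46], [nat_lit 17, nat_lit 48, nat_lit 21, nat_lit 6, nat_lit 1, nat_lit 14, nat_lit 33, nat_lit 1896, nat_lit 2, nat_lit 3, nat_lit 4, nat_lit 12]),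
  (nat_lit 0x1000000010000000001000100000000010000010000000100010000000000000000000100010000000001010000000100000100010100, nat_lit 99, [[nat_lit 6666, nat_lit 6667, nat_lit 6668, nat_lit 6673, nat_lit 6674, nat_lit 6675, nat_lit 7902, nat_lit 7907, nat_lit 14786, nat_lit 14787, nat_lit 14788, nat_lit 14793, nat_lit 14794, nat_lit 14795, nat_lit 16022, nat_lit 16027]], [nat_lit 54, nat_lit 11, nat_lit 19, nat_lit 43], [nat_lit 42, nat_lit 8, nat_lit 3, nat_lit 4, nat_lit 2, nat_lit 12, nat_lit 13, nat_lit 7, nat_lit 6, nat_lit 5, nat_lit 1, nat_lit 5816]),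
  (nat_lit 0x100010000000000010000010000000000000100000100000001000101000100000100000001000000010000000001000001000001000000, nat_lit 99, [[nat_lit 4385, nat_lit 4443, nat_lit 4469, nat_lit 4584, nat_lit 4860, nat_lit 5196, nat_lit 5637, nat_lit 5641, nat_lit 12505, nat_lit 12563, nat_lit 12589, nat_lit 12704, nat_lit 12980, nat_lit 13316, nat_lit 13757, nat_lit 13761]], [nat_lit 34, nat_lit 44, nat_lit 28, nat_lit 3], [nat_lit 71, nat_lit 73, nat_lit 43, nat_lit 13, nat_lit 28, nat_lit 1, nat_lit 16, nat_lit 1896, nat_lit 2, nat_lit 3, nat_lit 4, nat_lit 12]),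
  (nat_lit 0x100000100000000010001000000010000010000000001000100000000000000000001000101000000000001000100000101000001, nat_lit 99, [[nat_lit 1897, nat_lit 1906, nat_lit 1907, nat_lit 1908, nat_lit 2963, nat_lit 2964, nat_lit 2965, nat_lit 2974, nat_lit 10017, nat_lit 10026, nat_lit 10027, nat_lit 10028, nat_lit 11083, nat_lit 11084, nat_lit 11085, nat_lit 11094]], [nat_lit 49, nat_lit 35, nat_lit 4, nat_lit 18], [nat_lit 7, nat_lit 9, nat_lit 11, nat_lit 15, nat_lit 3, nat_lit 5, nat_lit 6, nat_lit 1, nat_lit 2, nat_lit 8, nat_lit 1756, nat_lit 1896]),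
  (nat_lit 0x100000001000000000001000100000000010000010000000000000000010100000000000001000101000000000001000001010001000001, nat_lit 99, [[nat_lit 2001, nat_lit 2006, nat_lit 3083, nat_lit 3084, nat_lit 3085, nat_lit 3098, nat_lit 3099, nat_lit 3100, nat_lit 10121, nat_lit 10126, nat_lit 11203, nat_lit 11204, nat_lit 11205, nat_lit 11218, nat_lit 11219, nat_lit 11220]], [nat_lit 55, nat_lit 5, nat_lit 35, nat_lit 45], [nat_lit 11, nat_lit 9, nat_lit 3, nat_lit 5, nat_lit 15, nat_lit 14, nat_lit 18, nat_lit 6, nat_lit 1, nat_lit 2, nat_lit 1756, nat_lit 1896]),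
  (nat_lit 0x10101010000000000000000000000000000000000000000000001010000010101000100010000010001010001000100, nat_lit 0, [[nat_lit 35, nat_lit 34]], [], []),
  (nat_lit 0x100000100000000000001000001000000010100000101000100000001000000000000010001000000010000010000000000000000010100, nat_lit 99, [[nat_lit 6020, nat_lit 6037, nat_lit 6038, nat_lit 6039, nat_lit 7094, nat_lit 7095, nat_lit 7096, nat_lit 7117, nat_lit 14140, nat_lit 14157, nat_lit 14158, nat_lit 14159, nat_lit 15214, nat_lit 15215, nat_lit 15216, nat_lit 15237]], [nat_lit 45, nat_lit 20, nat_lit 33, nat_lit 1], [nat_lit 43, nat_lit 28, nat_lit 58, nat_lit 31, nat_lit 6, nat_lit 3, nat_lit 20, nat_lit 5816, nat_lit 1, nat_lit 5, nat_lit 4, nat_lit 2]),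
  (nat_lit 0x1010001000100010001000001010000000000000000000001010000010001000000000000000000000000000000000100010001000001, nat_lit 0, [[nat_lit 10, nat_lit 4]], [], []),
  (nat_lit 0x101000000010001000100010001000000010000000100000000000001000100000100000000000000000101000000000001000100, nat_lit 99, [[nat_lit 6736, nat_lit 6739, nat_lit 6790, nat_lit 6791, nat_lit 8000, nat_lit 8003, nat_lit 8070, nat_lit 8071, nat_lit 14856, nat_lit 14859, nat_lit 14910, nat_lit 14911, nat_lit 16120, nat_lit 16123, nat_lit 16190, nat_lit 16191]], [nat_lit 52, nat_lit 9, nat_lit 39, nat_lit 41], [nat_lit 17, nat_lit 28, nat_lit 3, nat_lit 5, nat_lit 11, nat_lit 7, nat_lit 6, nat_lit 2, nat_lit 1, nat_lit 12, nat_lit 1896, nat_lit 5816]),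
  (nat_lit 0x101010100000000010100000101010001000100000100000000000000000100010000010100, nat_lit 0, [[nat_lit 43, nat_lit 28]], [], []),
  (nat_lit 0x100000101000100000000000000000000000000000000000100010001000001000101000100010001000100000101000000000000000000, nat_lit 99, [[nat_lit 4097, nat_lit 4157, nat_lit 4307, nat_lit 4495, nat_lit 4801, nat_lit 5063, nat_lit 5076, nat_lit 5174, nat_lit 5225, nat_lit 5237, nat_lit 5252, nat_lit 5294, nat_lit 5361, nat_lit 5460, nat_lit 5499, nat_lit 5507, nat_lit 12217, nat_lit 12277, nat_lit 12427, nat_lit 12615, nat_lit 12921, nat_lit 13183, nat_lit 13196, nat_lit 13294, nat_lit 13345, nat_lit 13357, nat_lit 13372, nat_lit 13414, nat_lit 13481, nat_lit 13580, nat_lit 13619, nat_lit 13627]], [nat_lit 24, nat_lit 31, nat_lit 55, nat_lit 22, nat_lit 9], [nat_lit 22, nat_lit 13, nat_lit 18, nat_lit 3, nat_lit 7, nat_lit 9, nat_lit 1, nat_lit 1896, nat_lit 5, nat_lit 2, nat_lit 8]),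
  (nat_lit 0x100010000000000000000000100010000000001010000000001010001000001000100000001000000000100010000000001000001000000, nat_lit 99, [[nat_lit 4152, nat_lit 4583, nat_lit 4610, nat_lit 5051, nat_lit 5144, nat_lit 5163, nat_lit 5757, nat_lit 5790, nat_lit 12272, nat_lit 12703, nat_lit 12730, nat_lit 13171, nat_lit 13264, nat_lit 13283, nat_lit 13877, nat_lit 13910]], [nat_lit 6, nat_lit 11, nat_lit 27, nat_lit 22], [nat_lit 25, nat_lit 26, nat_lit 48, nat_lit 19, nat_lit 39, nat_lit 4, nat_lit 3, nat_lit 7, nat_lit 2, nat_lit 6, nat_lit 5, nat_lit 1896]),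
  (nat_lit 0x10001000000010000000001000000000000000101000000000000010001000001000001000000010100000101000000000100000100, nat_lit 99, [[nat_lit 6162, nat_lit 6163, nat_lit 6164, nat_lit 6203, nat_lit 7278, nat_lit 7329, nat_lit 7330, nat_lit 7331, nat_lit 14282, nat_lit 14283, nat_lit 14284, nat_lit 14323, nat_lit 15398, nat_lit 15449, nat_lit 15450, nat_lit 15451]], [nat_lit 33, nat_lit 9, nat_lit 21, nat_lit 47], [nat_lit 1, nat_lit 19, nat_lit 21, nat_lit 12, nat_lit 2, nat_lit 6, nat_lit 9, nat_lit 3, nat_lit 7, nat_lit 4, nat_lit 13, nat_lit 5816]),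
  (nat_lit 0x10101010000000000000000000000000000000000000100000100010001000100010100000101010101000000000000000000000000, nat_lit 0, [[nat_lit 39, nat_lit 9]], [], []),
  (nat_lit 0x1010101000000000101000001010001000100010100000000000000000000010001010000010000000000000000, nat_lit 0, [[nat_lit 40, nat_lit 17]], [], []),
  (nat_lit 0x10101010000000000010100000100010000010101010000000000000000000000010001000101000000000000000000, nat_lit 0, [[nat_lit 18, nat_lit 3]], [], []),
  (nat_lit 0x100000100000000010000000000010001000100000100010001000000010000010000000000000101000000000100000000000001000001, nat_lit 99, [[nat_lit 1958, nat_lit 1959, nat_lit 1961, nat_lit 1976, nat_lit 3037, nat_lit 3056, nat_lit 3058, nat_lit 3059, nat_lit 10078, nat_lit 10079, nat_lit 10081, nat_lit 10096, nat_lit 11157, nat_lit 11176, nat_lit 11178, nat_lit 11179]], [nat_lit 30, nat_lit 3, nat_lit 15, nat_lit 41], [nat_lit 30, nat_lit 14, nat_lit 5, nat_lit 9, nat_lit 23, nat_lit 7, nat_lit 16, nat_lit 1896, nat_lit 1756, nat_lit 2, nat_lit 3, nat_lit 1]),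
  (nat_lit 0x101000001010100010001000001010000010001000100000000000000000000000001010101, nat_lit 0, [[nat_lit 17, nat_lit 5]], [], []),
  (nat_lit 0x101010100000000000101000001000100000000000000000101000001010000000000000000000000000000000000000001000101000001, nat_lit 0, [[nat_lit 29, nat_lit 6]], [], []),
  (nat_lit 0x100010100000101010101000000000100000101000100000000000000000000000101000001010000000000000000, nat_lit 0, [[nat_lit 41, nat_lit 24]], [], []),
  (nat_lit 0x1010000000000000100000000000101000100010001000000000100000100010000000000000100010000010000000001000100000000, nat_lit 99, [[nat_lit 483, nat_lit 495, nat_lit 503, nat_lit 566, nat_lit 569, nat_lit 1089, nat_lit 1226, nat_lit 1287, nat_lit 8603, nat_lit 8615, nat_lit 8623, nat_lit 8686, nat_lit 8689, nat_lit 9209, nat_lit 9346, nat_lit 9407]], [nat_lit 11, nat_lit 39, nat_lit 6, nat_lit 46], [nat_lit 104, nat_lit 14, nat_lit 58, nat_lit 6, nat_lit 15, nat_lit 2, nat_lit 3, nat_lit 11, nat_lit 5, nat_lit 9, nat_lit 1, nat_lit 4]),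
  (nat_lit 0x10000010001000100000000000000000000000000000000000101000001000101010000000001010101000001010000, nat_lit 0, [[nat_lit 37, nat_lit 24]], [], []),
  (nat_lit 0x10000010001000100000000000000000000000000000000010000010100010001010000000001010101000001010000, nat_lit 0, [[nat_lit 37, nat_lit 24]], [], []),
  (nat_lit 0x100010100000101010101000000000001010000010001000000000000000000000101000001010000000000000000, nat_lit 0, [[nat_lit 40, nat_lit 17]], [], []),
  (nat_lit 0x10001000100000101000001000100010100010000010100000000000000000000010100000100010000000000000000, nat_lit 99, [[nat_lit 16, nat_lit 223, nat_lit 275, nat_lit 722, nat_lit 797, nat_lit 958, nat_lit 1185, nat_lit 1307, nat_lit 1334, nat_lit 1467, nat_lit 1490, nat_lit 1554, nat_lit 1578, nat_lit 1642, nat_lit 1679, nat_lit 1701, nat_lit 8136, nat_lit 8343, nat_lit 8395, nat_lit 8842, nat_lit 8917, nat_lit 9078, nat_lit 9305, nat_lit 9427, nat_lit 9454, nat_lit 9587, nat_lit 9610, nat_lit 9674, nat_lit 9698, nat_lit 9762, nat_lit 9799, nat_lit 9821]], [nat_lit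 36, nat_lit 45, nat_lit 25, nat_lit 10, nat_lit 31], [nat_lit 1, nat_lit 3, nat_lit 9, nat_lit 15, nat_lit 12, nat_lit 8, nat_lit 13, nat_lit 2, nat_lit 4, nat_lit 5, nat_lit 10]),
  (nat_lit 0x10001000100000101000001000100010100010000010100000000000000000001000001010001000000000000000000, nat_lit 0, [[nat_lit 23, nat_lit 19]], [], []),
  (nat_lit 0x1000100000100000000000100010001000100010100000001000000000100000000010001000000000100000001000100000000, nat_lit 99, [[nat_lit 212, nat_lit 526, nat_lit 604, nat_lit 806, nat_lit 1077, nat_lit 1160, nat_lit 1399, nat_lit 1676, nat_lit 8332, nat_lit 8646, nat_lit 8724, nat_lit 8926, nat_lit 9197, nat_lit 9280, nat_lit 9519, nat_lit 9796]], [nat_lit 46, nat_lit 22, nat_lit 4, nat_lit 38], [nat_lit 19, nat_lit 11, nat_lit 20, nat_lit 22, nat_lit 17, nat_lit 1, nat_lit 2, nat_lit 9, nat_lit 3, nat_lit 5, nat_lit 4, nat_lit 8]),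
  (nat_lit 0x1000101000001000000000000000001000001010001000000000000000000000000000000000000010001000101000001010001000100, nat_lit 99, [[nat_lit 5834, nat_lit 5843, nat_lit 5940, nat_lit 5945, nat_lit 6700, nat_lit 6705, nat_lit 6832, nat_lit 6837, nat_lit 6854, nat_lit 6859, nat_lit 6988, nat_lit 6997, nat_lit 7942, nat_lit 7947, nat_lit 8114, nat_lit 8119, nat_lit 13954, nat_lit 13963, nat_lit 14060, nat_lit 14065, nat_lit 14820, nat_lit 14825, nat_lit 14952, nat_lit 14957, nat_lit 14974, nat_lit 14979, nat_lit 15108, nat_lit 15117, nat_lit 16062, nat_lit 16067, nat_lit 16234, nat_lit 16239]], [nat_lit 39, nat_lit 6, nat_lit 9, nat_lit 1, nat_lit 10], [nat_lit 10, nat_lit 18, nat_lit 9, nat_lit 39, nat_lit 5823, nat_lit 1896, nat_lit 4, nat_lit 3, nat_lit 7, nat_lit 1, nat_lit 13]),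
  (nat_lit 0x1000100010001010000000100000000010000000001000100000000010000000100010000000000000000010001000001000000000001, nat_lit 99, [[nat_lit 2164, nat_lit 2198, nat_lit 2199, nat_lit 2200, nat_lit 3294, nat_lit 3295, nat_lit 3296, nat_lit 3332, nat_lit 10284, nat_lit 10318, nat_lit 10319, nat_lit 10320, nat_lit 11414, nat_lit 11415, nat_lit 11416, nat_lit 11452]], [nat_lit 31, nat_lit 43, nat_lit 38, nat_lit 50], [nat_lit 2, nat_lit 31, nat_lit 15, nat_lit 19, nat_lit 16, nat_lit 9, nat_lit 4, nat_lit 18, nat_lit 1, nat_lit 3, nat_lit 6, nat_lit 1756]),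
  (nat_lit 0x100000001000100010000000000010100000000000100000000000100010000010100000100010000000100000100000000000001, nat_lit 99, [[nat_lit 2282, nat_lit 2283, nat_lit 2308, nat_lit 2309, nat_lit 3440, nat_lit 3441, nat_lit 3470, nat_lit 3471, nat_lit 10402, nat_lit 10403, nat_lit 10428, nat_lit 10429, nat_lit 11560, nat_lit 11561, nat_lit 11590, nat_lit 11591]], [nat_lit 38, nat_lit 25, nat_lit 7, nat_lit 14], [nat_lit 5, nat_lit 16, nat_lit 2, nat_lit 8, nat_lit 9, nat_lit 3, nat_lit 4, nat_lit 12, nat_lit 15, nat_lit 1, nat_lit 6, nat_lit 1756]),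
  (nat_lit 0x1010101010000010100010000000000000000000000010100000101000000000000000000000000000000000001000101000001, nat_lit 0, [[nat_lit 48, nat_lit 4]], [], []),
  (nat_lit 0x1010000010001000000000000000000000000000000000100010001000001000101000100010001000100000101000000000000000000, nat_lit 0, [[nat_lit 43, nat_lit 28]], [], []),
  (nat_lit 0x100010001000001000000000000000000010001010000010000000000000000000000000000000000000101010100000000010100000101, nat_lit 0, [[nat_lit 41, nat_lit 37]], [], []),
  (nat_lit 0x1000101000001000000000000000000010100000100010000000000000000000000000000000000010001000101000001010001000100, nat_lit 0, [[nat_lit 18, nat_lit 3]], [], []),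
  (nat_lit 0x10001010000000000010000010001000100010001000000010000010000000000000100010000010000000100010000000000, nat_lit 99, [[nat_lit 4086, nat_lit 4336, nat_lit 4493, nat_lit 4795, nat_lit 4819, nat_lit 4832, nat_lit 5339, nat_lit 5407, nat_lit 12206, nat_lit 12456, nat_lit 12613, nat_lit 12915, nat_lit 12939, nat_lit 12952, nat_lit 13459, nat_lit 13527]], [nat_lit 41, nat_lit 36, nat_lit 16, nat_lit 14], [nat_lit 34, nat_lit 5, nat_lit 8, nat_lit 11, nat_lit 10, nat_lit 20, nat_lit 24, nat_lit 2, nat_lit 6, nat_lit 1, nat_lit 3, nat_lit 9]),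
  (nat_lit 0x1000001000101000000000000010000000000010001010001000001000001000000000100000100010000000001000001000000, nat_lit 99, [[nat_lit 4355, nat_lit 4402, nat_lit 4411, nat_lit 5276, nat_lit 5349, nat_lit 5481, nat_lit 5683, nat_lit 5815, nat_lit 12475, nat_lit 12522, nat_lit 12531, nat_lit 13396, nat_lit 13469, nat_lit 13601, nat_lit 13803, nat_lit 13935]], [nat_lit 45, nat_lit 51, nat_lit 29, nat_lit 21], [nat_lit 63, nat_lit 21, nat_lit 1, nat_lit 39, nat_lit 16, nat_lit 17, nat_lit 11, nat_lit 13, nat_lit 2, nat_lit 4, nat_lit 5, nat_lit 1896]),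
  (nat_lit 0x1000000000001010000010100000101000000010000000001000000000100000001000000010001000100000000000100000100000000, nat_lit 99, [[nat_lit 266, nat_lit 390, nat_lit 492, nat_lit 710, nat_lit 848, nat_lit 1056, nat_lit 1085, nat_lit 1193, nat_lit 8386, nat_lit 8510, nat_lit 8612, nat_lit 8830, nat_lit 8968, nat_lit 9176, nat_lit 9205, nat_lit 9313]], [nat_lit 25, nat_lit 35, nat_lit 54, nat_lit 17], [nat_lit 9, nat_lit 13, nat_lit 4, nat_lit 22, nat_lit 17, nat_lit 6, nat_lit 12, nat_lit 10, nat_lit 11, nat_lit 2, nat_lit 1, nat_lit 5]),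
  (nat_lit 0x1010101000101000001000100000000000000000000010100000101000000000000000000000000000000000001000101000001, nat_lit 0, [[nat_lit 60, nat_lit 6]], [], []),
  (nat_lit 0x101000000000101000001010000010101000100010000010000000000000000010001000001010000000000000000000000000000000000, nat_lit 0, [[nat_lit 25, nat_lit 14]], [], []),
  (nat_lit 0x100000001000000000100000100000000000100010001000000000001000101000100000101000000010000000001000000000100, nat_lit 99, [[nat_lit 6347, nat_lit 6348, nat_lit 6363, nat_lit 6364, nat_lit 7503, nat_lit 7504, nat_lit 7527, nat_lit 7528, nat_lit 14467, nat_lit 14468, nat_lit 14483, nat_lit 14484, nat_lit 15623, nat_lit 15624, nat_lit 15647, nat_lit 15648]], [nat_lit 30, nat_lit 15, nat_lit 48, nat_lit 40], [nat_lit 17, nat_lit 28, nat_lit 30, nat_lit 24, nat_lit 15, nat_lit 12, nat_lit 6, nat_lit 18, nat_lit 1, nat_lit 2, nat_lit 4, nat_lit 5816])]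

def BK4 : List Ent := [(nat_lit 0x10000010000000101000001010001000000010000000000000100010000000100000100000000000000000101000100000100000000, nat_lit 99, [[nat_lit 197, nat_lit 645, nat_lit 707, nat_lit 717, nat_lit 995, nat_lit 1017, nat_lit 1044, nat_lit 1068, nat_lit 8317, nat_lit 8765, nat_lit 8827, nat_lit 8837, nat_lit 9115, nat_lit 9137, nat_lit 9164, nat_lit 9188]], [nat_lit 45, nat_lit 19, nat_lit 35, nat_lit 10], [nat_lit 44, nat_lit 5, nat_lit 1, nat_lit 6, nat_lit 13, nat_lit 17, nat_lit 7, nat_lit 9, nat_lit 4, nat_lit 2, nat_lit 10, nat_lit 12]),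
  (nat_lit 0x10000010100010000000000000000000000000000000000010001000100000100010100010001000100010000010100, nat_lit 99, [[nat_lit 6076, nat_lit 6081, nat_lit 6561, nat_lit 6562, nat_lit 6694, nat_lit 6699, nat_lit 7038, nat_lit 7039, nat_lit 7046, nat_lit 7047, nat_lit 7174, nat_lit 7179, nat_lit 7767, nat_lit 7768, nat_lit 7930, nat_lit 7939, nat_lit 14196, nat_lit 14201, nat_lit 14681, nat_lit 14682, nat_lit 14814, nat_lit 14819, nat_lit 15158, nat_lit 15159, nat_lit 15166, nat_lit 15167, nat_lit 15294, nat_lit 15299, nat_lit 15887, nat_lit 15888, nat_lit 16050, nat_lit 16059]], [nat_lit 13, nat_lit 19, nat_lit 5, nat_lit 7, nat_lit 23], [nat_lit 78, nat_lit 15, nat_lit 17, nat_lit 4, nat_lit 8, nat_lit 7, nat_lit 1, nat_lit 5, nat_lit 2, nat_lit 3, nat_lit 5816]),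
  (nat_lit 0x1000100000000010100000000010001010001000000000100000100000100000000010000010000010000000001000100000000, nat_lit 99, [[nat_lit 49, nat_lit 72, nat_lit 156, nat_lit 375, nat_lit 658, nat_lit 1297, nat_lit 1410, nat_lit 1523, nat_lit 8169, nat_lit 8192, nat_lit 8276, nat_lit 8495, nat_lit 8778, nat_lit 9417, nat_lit 9530, nat_lit 9643]], [nat_lit 11, nat_lit 25, nat_lit 35, nat_lit 17], [nat_lit 8, nat_lit 37, nat_lit 41, nat_lit 77, nat_lit 7, nat_lit 5, nat_lit 9, nat_lit 11, nat_lit 1, nat_lit 2, nat_lit 3, nat_lit 13]),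
  (nat_lit 0x1000000010000000100000000010000010000010000000100010000000000010000010000000000000100000100000001000101000100, nat_lit 99, [[nat_lit 6727, nat_lit 6728, nat_lit 6729, nat_lit 6730, nat_lit 7989, nat_lit 7990, nat_lit 7991, nat_lit 7992, nat_lit 14847, nat_lit 14848, nat_lit 14849, nat_lit 14850, nat_lit 16109, nat_lit 16110, nat_lit 16111, nat_lit 16112]], [nat_lit 35, nat_lit 10, nat_lit 1, nat_lit 20], [nat_lit 2092, nat_lit 210, nat_lit 2225, nat_lit 5823, nat_lit 1897, nat_lit 1, nat_lit 2, nat_lit 14, nat_lit 7, nat_lit 4, nat_lit 5, nat_lit 6]),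
  (nat_lit 0x1010101000000000100000101000100000001010101000000000000000000000001000100010100, nat_lit 0, [[nat_lit 7, nat_lit 5]], [], []),
  (nat_lit 0x1010101000000000000000000000000000000000000010000010001000100010001010000010101010100000000, nat_lit 0, [[nat_lit 29, nat_lit 26]], [], []),
  (nat_lit 0x101010100000000000000000000000000000000000000000000010100000101010001000100000101000001000100010000000000000000, nat_lit 0, [[nat_lit 30, nat_lit 15]], [], []),
  (nat_lit 0x1000000010000000000010001000001000000000100000000000001000001000000000100010000010000000000010100000100010100, nat_lit 99, [[nat_lit 6061, nat_lit 6066, nat_lit 7143, nat_lit 7144, nat_lit 7145, nat_lit 7158, nat_lit 7159, nat_lit 7160, nat_lit 14181, nat_lit 14186, nat_lit 15263, nat_lit 15264, nat_lit 15265, nat_lit 15278, nat_lit 15279, nat_lit 15280]], [nat_lit 54, nat_lit 14, nat_lit 42, nat_lit 39], [nat_lit 79, nat_lit 5, nat_lit 4, nat_lit 16, nat_lit 7, nat_lit 14, nat_lit 1, nat_lit 13, nat_lit 3, nat_lit 2, nat_lit 6, nat_lit 5816]),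
  (nat_lit 0x1000101000100000100000001000000000100010000000000000100000001000100010000000001000001000000000000000101000000, nat_lit 99, [[nat_lit 4126, nat_lit 4144, nat_lit 4296, nat_lit 4315, nat_lit 4372, nat_lit 4965, nat_lit 5328, nat_lit 5673, nat_lit 12246, nat_lit 12264, nat_lit 12416, nat_lit 12435, nat_lit 12492, nat_lit 13085, nat_lit 13448, nat_lit 13793]], [nat_lit 35, nat_lit 24, nat_lit 3, nat_lit 54], [nat_lit 2, nat_lit 5, nat_lit 9, nat_lit 62, nat_lit 61, nat_lit 1896, nat_lit 1, nat_lit 3, nat_lit 4, nat_lit 6, nat_lit 8, nat_lit 12]),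
  (nat_lit 0x10000000100010001000000000001000001000000000001000000000001010000010100000101000000010000000001000000000100, nat_lit 99, [[nat_lit 7428, nat_lit 7429, nat_lit 7432, nat_lit 7433, nat_lit 7454, nat_lit 7455, nat_lit 7458, nat_lit 7459, nat_lit 15548, nat_lit 15549, nat_lit 15552, nat_lit 15553, nat_lit 15574, nat_lit 15575, nat_lit 15578, nat_lit 15579]], [nat_lit 11, nat_lit 24, nat_lit 36, nat_lit 16], [nat_lit 2, nat_lit 9, nat_lit 15, nat_lit 20, nat_lit 11, nat_lit 3, nat_lit 1, nat_lit 4, nat_lit 5, nat_lit 6, nat_lit 8, nat_lit 5816]),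
  (nat_lit 0x1010101000000000001010000010001000001010101000000000000000000000001000100010100, nat_lit 0, [[nat_lit 19, nat_lit 1]], [], []),
  (nat_lit 0x101010100000000010100000101000100010001010000000000000000000001000101000001, nat_lit 0, [[nat_lit 43, nat_lit 28]], [], []),
  (nat_lit 0x1010000000000000001000001000000010001000100010000000100000100000001000100000000000100000001000000000001000001, nat_lit 99, [[nat_lit 1949, nat_lit 1988, nat_lit 3021, nat_lit 3022, nat_lit 3023, nat_lit 3070, nat_lit 3071, nat_lit 3072, nat_lit 10069, nat_lit 10108, nat_lit 11141, nat_lit 11142, nat_lit 11143, nat_lit 11190, nat_lit 11191, nat_lit 11192]], [nat_lit 32, nat_lit 53, nat_lit 19, nat_lit 3], [nat_lit 9, nat_lit 10, nat_lit 21, nat_lit 7, nat_lit 11, nat_lit 23, nat_lit 27, nat_lit 1896, nat_lit 1756, nat_lit 2, nat_lit 3, nat_lit 1]),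
  (nat_lit 0x10001010000010101010100000000000101000001000100000000000000000000010100000101, nat_lit 0, [[nat_lit 40, nat_lit 17]], [], []),
  (nat_lit 0x10001010000010101010100000000010000010100010000000000000000000000010100000101, nat_lit 0, [[nat_lit 64, nat_lit 12]], [], []),
  (nat_lit 0x1000000000100010000000001000000000000010000010000000000010001000001000001000000010001000100010001000000010000, nat_lit 99, [[nat_lit 7, nat_lit 182, nat_lit 297, nat_lit 419, nat_lit 791, nat_lit 801, nat_lit 861, nat_lit 1573, nat_lit 8127, nat_lit 8302, nat_lit 8417, nat_lit 8539, nat_lit 8911, nat_lit 8921, nat_lit 8981, nat_lit 9693]], [nat_lit 6, nat_lit 8, nat_lit 35, nat_lit 18], [nat_lit 6, nat_lit 15, nat_lit 12, nat_lit 21, nat_lit 2, nat_lit 8, nat_lit 17, nat_lit 4, nat_lit 10, nat_lit 5, nat_lit 3, nat_lit 1]),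
  (nat_lit 0x1000100010000010100000100010001010001000001010000000000000000000100000101000100, nat_lit 0, [[nat_lit 14, nat_lit 12]], [], []),
  (nat_lit 0x1000100010000010100000100010001010001000001010000000000000000000001010000010001, nat_lit 99, [[nat_lit 1801, nat_lit 1802, nat_lit 2658, nat_lit 2659, nat_lit 2746, nat_lit 2749, nat_lit 2821, nat_lit 2822, nat_lit 2902, nat_lit 2903, nat_lit 2904, nat_lit 2905, nat_lit 3914, nat_lit 3915, nat_lit 4034, nat_lit 4037, nat_lit 9921, nat_lit 9922, nat_lit 10778, nat_lit 10779, nat_lit 10866, nat_lit 10869, nat_lit 10941, nat_lit 10942, nat_lit 11022, nat_lit 11023, nat_lit 11024, nat_lit 11025, nat_lit 12034, nat_lit 12035, nat_lit 12154, nat_lit 12157]], [nat_lit 5, nat_lit 17, nat_lit 0, nat_lit 18, nat_lit 28], [nat_lit 17, nat_lit 22, nat_lit 34, nat_lit 59, nat_lit 1756, nat_lit 4, nat_lit 3, nat_lit 5, nat_lit 2, nat_lit 1, nat_lit 6]),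
  (nat_lit 0x1000000000100000001000000010000000000010000010000000000010001000000010100000001000001010000010000000100000100, nat_lit 99, [[nat_lit 6172, nat_lit 6173, nat_lit 6174, nat_lit 6197, nat_lit 7284, nat_lit 7319, nat_lit 7320, nat_lit 7321, nat_lit 14292, nat_lit 14293, nat_lit 14294, nat_lit 14317, nat_lit 15404, nat_lit 15439, nat_lit 15440, nat_lit 15441]], [nat_lit 32, nat_lit 45, nat_lit 1, nat_lit 11], [nat_lit 294, nat_lit 2, nat_lit 15, nat_lit 25, nat_lit 44, nat_lit 8, nat_lit 12, nat_lit 5816, nat_lit 1, nat_lit 3, nat_lit 4, nat_lit 6]),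
  (nat_lit 0x101000001000100000000000000000000000000000000010001000100000100010100010001000100010000010100, nat_lit 0, [[nat_lit 29, nat_lit 6]], [], []),
  (nat_lit 0x101000000000101000100000101000000010000000100000000000001000001000000010001000100000000000000000000010001, nat_lit 99, [[nat_lit 2706, nat_lit 2707, nat_lit 3969, nat_lit 3970, nat_lit 3971, nat_lit 3972, nat_lit 3976, nat_lit 3977, nat_lit 10826, nat_lit 10827, nat_lit 12089, nat_lit 12090, nat_lit 12091, nat_lit 12092, nat_lit 12096, nat_lit 12097]], [nat_lit 0, nat_lit 45, nat_lit 17, nat_lit 31], [nat_lit 1756, nat_lit 9, nat_lit 25, nat_lit 1, nat_lit 5, nat_lit 7, nat_lit 2, nat_lit 23, nat_lit 13, nat_lit 4, nat_lit 8, nat_lit 10]),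
  (nat_lit 0x100000000000100010001000001000100010000000100000100000000000001010000000001000000000000010000010100000100000000, nat_lit 99, [[nat_lit 174, nat_lit 629, nat_lit 650, nat_lit 731, nat_lit 788, nat_lit 863, nat_lit 1008, nat_lit 1397, nat_lit 8294, nat_lit 8749, nat_lit 8770, nat_lit 8851, nat_lit 8908, nat_lit 8983, nat_lit 9128, nat_lit 9517]], [nat_lit 7, nat_lit 38, nat_lit 8, nat_lit 42], [nat_lit 42, nat_lit 22, nat_lit 12, nat_lit 41, nat_lit 2, nat_lit 8, nat_lit 14, nat_lit 15, nat_lit 5, nat_lit 6, nat_lit 4, nat_lit 1]),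
  (nat_lit 0x101000000010000010100000100000100000000010000000100010000000100000100000000000000010000010000000001000100, nat_lit 99, [[nat_lit 5870, nat_lit 5873, nat_lit 5912, nat_lit 5913, nat_lit 6898, nat_lit 6901, nat_lit 6946, nat_lit 6947, nat_lit 13990, nat_lit 13993, nat_lit 14032, nat_lit 14033, nat_lit 15018, nat_lit 15021, nat_lit 15066, nat_lit 15067]], [nat_lit 22, nat_lit 37, nat_lit 8, nat_lit 51], [nat_lit 17, nat_lit 20, nat_lit 6, nat_lit 9, nat_lit 10, nat_lit 7, nat_lit 1, nat_lit 3, nat_lit 2, nat_lit 4, nat_lit 1896, nat_lit 5816]),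
  (nat_lit 0x101000001010000010001000100000101000001000100010000000000000000000000000101010100000000000000000000000000000000, nat_lit 0, [[nat_lit 61, nat_lit 22]], [], []),
  (nat_lit 0x1010001000100000100010100000100000000010101010000000000000000000001010101000000000000000000000000000000000000, nat_lit 0, [[nat_lit 64, nat_lit 12]], [], []),
  (nat_lit 0x10100000000010100000101000001010100010001000001000000000000000001000100000101000000000000000000, nat_lit 0, [[nat_lit 47, nat_lit 18]], [], []),
  (nat_lit 0x1010000010100000001000000000101000000000000010000000100000001000000000001010000000000010001000000010000010000, nat_lit 99, [[nat_lit 222, nat_lit 245, nat_lit 286, nat_lit 333, nat_lit 353, nat_lit 673, nat_lit 1291, nat_lit 1477, nat_lit 8342, nat_lit 8365, nat_lit 8406, nat_lit 8453, nat_lit 8473, nat_lit 8793, nat_lit 9411, nat_lit 9597]], [nat_lit 9, nat_lit 40, nat_lit 32, nat_lit 50], [nat_lit 31, nat_lit 27, nat_lit 16, nat_lit 10, nat_lit 13, nat_lit 1, nat_lit 8, nat_lit 4, nat_lit 2, nat_lit 6, nat_lit 3, nat_lit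 9]),
  (nat_lit 0x100000000000001000001000000010000010001000000000001010000000000000001000001000000010100010000010000010000000001, nat_lit 99, [[nat_lit 2393, nat_lit 2436, nat_lit 3563, nat_lit 3564, nat_lit 3565, nat_lit 3620, nat_lit 3621, nat_lit 3622, nat_lit 10513, nat_lit 10556, nat_lit 11683, nat_lit 11684, nat_lit 11685, nat_lit 11740, nat_lit 11741, nat_lit 11742]], [nat_lit 36, nat_lit 13, nat_lit 18, nat_lit 48], [nat_lit 60, nat_lit 6, nat_lit 12, nat_lit 4, nat_lit 15, nat_lit 1, nat_lit 7, nat_lit 14, nat_lit 2, nat_lit 5, nat_lit 9, nat_lit 1756]),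
  (nat_lit 0x1000001010000010000000000000001010000000100000101000001010000000100000001000000000000010000000100000001, nat_lit 99, [[nat_lit 2446, nat_lit 2447, nat_lit 2495, nat_lit 2496, nat_lit 3632, nat_lit 3633, nat_lit 3695, nat_lit 3696, nat_lit 10566, nat_lit 10567, nat_lit 10615, nat_lit 10616, nat_lit 11752, nat_lit 11753, nat_lit 11815, nat_lit 11816]], [nat_lit 23, nat_lit 35, nat_lit 0, nat_lit 8], [nat_lit 85, nat_lit 1763, nat_lit 11, nat_lit 8, nat_lit 4, nat_lit 25, nat_lit 2, nat_lit 7, nat_lit 3, nat_lit 6, nat_lit 1, nat_lit 13]),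
  (nat_lit 0x10001000001000001000000010001000100010001000000010000000100000000010001000000000100000000000001000001, nat_lit 99, [[nat_lit 1952, nat_lit 1953, nat_lit 1957, nat_lit 1980, nat_lit 3033, nat_lit 3060, nat_lit 3062, nat_lit 3063, nat_lit 10072, nat_lit 10073, nat_lit 10077, nat_lit 10100, nat_lit 11153, nat_lit 11180, nat_lit 11182, nat_lit 11183]], [nat_lit 10, nat_lit 48, nat_lit 17, nat_lit 3], [nat_lit 103, nat_lit 21, nat_lit 9, nat_lit 18, nat_lit 37, nat_lit 1898, nat_lit 1757, nat_lit 1, nat_lit 2, nat_lit 5, nat_lit 4, nat_lit 3]),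
  (nat_lit 0x1000001000000000001000100010000000000010100000100010100010000000100000000010000000001000000000100000001, nat_lit 99, [[nat_lit 2042, nat_lit 2043, nat_lit 2077, nat_lit 2078, nat_lit 2079, nat_lit 2080, nat_lit 3156, nat_lit 3157, nat_lit 10162, nat_lit 10163, nat_lit 10197, nat_lit 10198, nat_lit 10199, nat_lit 10200, nat_lit 11276, nat_lit 11277]], [nat_lit 32, nat_lit 48, nat_lit 4, nat_lit 28], [nat_lit 56, nat_lit 15, nat_lit 2, nat_lit 6, nat_lit 5, nat_lit 9, nat_lit 7, nat_lit 3, nat_lit 12, nat_lit 4, nat_lit 1, nat_lit 1756])]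

def BK5 : List Ent := [(nat_lit 0x100000101000100000001010101000000000000000000000001000100010100000000000000000000000000000000000101010100000000, nat_lit 0, [[nat_lit 29, nat_lit 26]], [], []),
  (nat_lit 0x10100000101000000010001000101000001010001000100000000000000000000000000010101010000000000000000, nat_lit 0, [[nat_lit 25, nat_lit 14]], [], []),
  (nat_lit 0x1000101000100000000010000010000000001000100000000010000000100000000000100000100000000010001000100000000000100, nat_lit 99, [[nat_lit 6388, nat_lit 6392, nat_lit 6393, nat_lit 6442, nat_lit 7556, nat_lit 7606, nat_lit 7610, nat_lit 7611, nat_lit 14508, nat_lit 14512, nat_lit 14513, nat_lit 14562, nat_lit 15676, nat_lit 15726, nat_lit 15730, nat_lit 15731]], [nat_lit 49, nat_lit 29, nat_lit 7, nat_lit 34], [nat_lit 7, nat_lit 11, nat_lit 5, nat_lit 9, nat_lit 3, nat_lit 10, nat_lit 2, nat_lit 4, nat_lit 12, nat_lit 1, nat_lit 13, nat_lit 5816]),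
  (nat_lit 0x1010101000000000000000000000000000000000000000101000100010001000100000101000000000001010101, nat_lit 0, [[nat_lit 40, nat_lit 17]], [], []),
  (nat_lit 0x10001000001010000000000000000000000000000000000010100000000010101010000010100000001000100010100, nat_lit 0, [[nat_lit 45, nat_lit 20]], [], []),
  (nat_lit 0x100000100010100000000010000010000000100010000000001000001000000000100010000000001000001000000000000010000010000, nat_lit 99, [[nat_lit 381, nat_lit 738, nat_lit 755, nat_lit 921, nat_lit 1272, nat_lit 1340, nat_lit 1358, nat_lit 1435, nat_lit 8501, nat_lit 8858, nat_lit 8875, nat_lit 9041, nat_lit 9392, nat_lit 9460, nat_lit 9478, nat_lit 9555]], [nat_lit 41, nat_lit 35, nat_lit 50, nat_lit 12], [nat_lit 126, nat_lit 147, nat_lit 6, nat_lit 13, nat_lit 1, nat_lit 7, nat_lit 3, nat_lit 2, nat_lit 5, nat_lit 8, nat_lit 9, nat_lit 12]),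
  (nat_lit 0x1000100010000000000010000010001010001000000000100000100000000010001000000000100000001000000000001000001, nat_lit 99, [[nat_lit 2542, nat_lit 2583, nat_lit 2584, nat_lit 2585, nat_lit 3772, nat_lit 3773, nat_lit 3774, nat_lit 3819, nat_lit 10662, nat_lit 10703, nat_lit 10704, nat_lit 10705, nat_lit 11892, nat_lit 11893, nat_lit 11894, nat_lit 11939]], [nat_lit 20, nat_lit 0, nat_lit 28, nat_lit 13], [nat_lit 8, nat_lit 37, nat_lit 42, nat_lit 13, nat_lit 24, nat_lit 1756, nat_lit 4, nat_lit 1, nat_lit 2, nat_lit 3, nat_lit 6, nat_lit 1896]),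
  (nat_lit 0x1000100000001000001000001000100010001000100000001000000000000010001000000000001000000010000000001000001, nat_lit 99, [[nat_lit 1947, nat_lit 1992, nat_lit 1993, nat_lit 1994, nat_lit 3015, nat_lit 3016, nat_lit 3017, nat_lit 3074, nat_lit 10067, nat_lit 10112, nat_lit 10113, nat_lit 10114, nat_lit 11135, nat_lit 11136, nat_lit 11137, nat_lit 11194]], [nat_lit 51, nat_lit 27, nat_lit 18, nat_lit 3], [nat_lit 2, nat_lit 62, nat_lit 91, nat_lit 32, nat_lit 13, nat_lit 1899, nat_lit 1756, nat_lit 3, nat_lit 5, nat_lit 1, nat_lit 6, nat_lit 10]),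
  (nat_lit 0x10000010100010000000000000000000000000000000000000100010001010000010100010001000001000101000001, nat_lit 99, [[nat_lit 1911, nat_lit 1912, nat_lit 2017, nat_lit 2018, nat_lit 2503, nat_lit 2504, nat_lit 2983, nat_lit 2984, nat_lit 3117, nat_lit 3118, nat_lit 3701, nat_lit 3706, nat_lit 3872, nat_lit 3873, nat_lit 3874, nat_lit 3875, nat_lit 10031, nat_lit 10032, nat_lit 10137, nat_lit 10138, nat_lit 10623, nat_lit 10624, nat_lit 11103, nat_lit 11104, nat_lit 11237, nat_lit 11238, nat_lit 11821, nat_lit 11826, nat_lit 11992, nat_lit 11993, nat_lit 11994, nat_lit 11995]], [nat_lit 47, nat_lit 22, nat_lit 43, nat_lit 13, nat_lit 44], [nat_lit 16, nat_lit 19, nat_lit 10, nat_lit 4, nat_lit 2, nat_lit 7, nat_lit 3, nat_lit 1, nat_lit 6, nat_lit 1756, nat_lit 1896]),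
  (nat_lit 0x100000100000000010001000000000100000001000000000001000001000000000100010001000000000001000001000101000100, nat_lit 99, [[nat_lit 6722, nat_lit 6735, nat_lit 7982, nat_lit 7983, nat_lit 7984, nat_lit 7997, nat_lit 7998, nat_lit 7999, nat_lit 14842, nat_lit 14855, nat_lit 16102, nat_lit 16103, nat_lit 16104, nat_lit 16117, nat_lit 16118, nat_lit 16119]], [nat_lit 52, nat_lit 4, nat_lit 15, nat_lit 24], [nat_lit 2, nat_lit 4, nat_lit 24, nat_lit 7, nat_lit 8, nat_lit 10, nat_lit 9, nat_lit 12, nat_lit 1, nat_lit 3, nat_lit 1896, nat_lit 5816]),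
  (nat_lit 0x100000000000100010000010001010000010000000100000100000000000001000001000000010000000000000101000000000001000100, nat_lit 99, [[nat_lit 5864, nat_lit 5865, nat_lit 6888, nat_lit 6893, nat_lit 6954, nat_lit 6955, nat_lit 6958, nat_lit 6959, nat_lit 13984, nat_lit 13985, nat_lit 15008, nat_lit 15013, nat_lit 15074, nat_lit 15075, nat_lit 15078, nat_lit 15079]], [nat_lit 31, nat_lit 34, nat_lit 41, nat_lit 55], [nat_lit 4, nat_lit 15, nat_lit 2, nat_lit 8, nat_lit 11, nat_lit 14, nat_lit 5, nat_lit 6, nat_lit 3, nat_lit 1, nat_lit 1896, nat_lit 5816]),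
  (nat_lit 0x100000101000100000000000000000000000000000000000100010001000001000101000100010000010001010000010000000000000000, nat_lit 0, [[nat_lit 43, nat_lit 28]], [], []),
  (nat_lit 0x1000100010100000000000000000000010001010000010000000000000000000000000000000001010000000001010000010100000101, nat_lit 0, [[nat_lit 41, nat_lit 37]], [], []),
  (nat_lit 0x1010000000000000001000001000001000001010000010001000000010000000100000000010000000100000001000000000000010100, nat_lit 99, [[nat_lit 6004, nat_lit 6059, nat_lit 7068, nat_lit 7072, nat_lit 7073, nat_lit 7136, nat_lit 7137, nat_lit 7139, nat_lit 14124, nat_lit 14179, nat_lit 15188, nat_lit 15192, nat_lit 15193, nat_lit 15256, nat_lit 15257, nat_lit 15259]], [nat_lit 35, nat_lit 17, nat_lit 13, nat_lit 54], [nat_lit 145, nat_lit 26, nat_lit 20, nat_lit 11, nat_lit 17, nat_lit 1, nat_lit 5, nat_lit 6, nat_lit 3, nat_lit 7, nat_lit 2, nat_lit 5816]),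
  (nat_lit 0x1000000010000000001000100000000000001000000010001000100000000010000010000000000000001010000000100010000010001, nat_lit 99, [[nat_lit 2737, nat_lit 2738, nat_lit 2739, nat_lit 2740, nat_lit 4019, nat_lit 4020, nat_lit 4021, nat_lit 4022, nat_lit 10857, nat_lit 10858, nat_lit 10859, nat_lit 10860, nat_lit 12139, nat_lit 12140, nat_lit 12141, nat_lit 12142]], [nat_lit 50, nat_lit 30, nat_lit 32, nat_lit 7], [nat_lit 29, nat_lit 28, nat_lit 6, nat_lit 16, nat_lit 18, nat_lit 3, nat_lit 8, nat_lit 1, nat_lit 2, nat_lit 4, nat_lit 9, nat_lit 1756]),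
  (nat_lit 0x10101010000010100000101000001000100010000010000000000000000000100010100000100000000000000000000000000000000, nat_lit 0, [[nat_lit 25, nat_lit 12]], [], []),
  (nat_lit 0x1000001000000000100010000000000000000000100010100000000000100010000010100000100000001000001000000000100010000, nat_lit 99, [[nat_lit 13, nat_lit 36, nat_lit 592, nat_lit 830, nat_lit 1200, nat_lit 1354, nat_lit 1366, nat_lit 1605, nat_lit 8133, nat_lit 8156, nat_lit 8712, nat_lit 8950, nat_lit 9320, nat_lit 9474, nat_lit 9486, nat_lit 9725]], [nat_lit 44, nat_lit 16, nat_lit 25, nat_lit 12], [nat_lit 64, nat_lit 8, nat_lit 12, nat_lit 5, nat_lit 7, nat_lit 2, nat_lit 20, nat_lit 15, nat_lit 22, nat_lit 6, nat_lit 3, nat_lit 1]),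
  (nat_lit 0x101000001010100010001000001000101000100010000000000000000000101010100000000, nat_lit 0, [[nat_lit 31, nat_lit 18]], [], []),
  (nat_lit 0x1000001000100010001000101000001010101010000000000000000000000000000010101010000, nat_lit 0, [[nat_lit 17, nat_lit 9]], [], []),
  (nat_lit 0x100010000010100000000000101010100000000000000000000010101010000000000000000000000000000000000000100000100010001, nat_lit 0, [[nat_lit 13, nat_lit 1]], [], []),
  (nat_lit 0x101010101000001010001000000010101010000000000000000000001000100010000010000000000000000, nat_lit 0, [[nat_lit 35, nat_lit 34]], [], []),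
  (nat_lit 0x10000010001000100000000000000000000000000000000000101000001000100000101010100000101000001010000, nat_lit 0, [[nat_lit 32, nat_lit 30]], [], []),
  (nat_lit 0x10000010001000100000000000000000000000000000000010000010100010000000101010100000101000001010000, nat_lit 0, [[nat_lit 32, nat_lit 30]], [], []),
  (nat_lit 0x100000101000100010100000000010101010000010100000000000000000000010000010001000100000000000000000000000000000000, nat_lit 0, [[nat_lit 76, nat_lit 27]], [], []),
  (nat_lit 0x101000001000100000000000000000000000000000000000100010001010000010100010001000001000101000001, nat_lit 0, [[nat_lit 40, nat_lit 17]], [], []),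
  (nat_lit 0x101010100010100000100010000010101010000000000000000000001000100010000010000000000000000, nat_lit 0, [[nat_lit 23, nat_lit 1]], [], []),
  (nat_lit 0x1010000010001000001010101000000000000000000000001000100010100000000000000000000000000000000000101010100000000, nat_lit 0, [[nat_lit 29, nat_lit 26]], [], []),
  (nat_lit 0x100000001010001000000000000000000010001000000010000010000010001000001000100000001000001000000010001000000, nat_lit 99, [[nat_lit 4170, nat_lit 4215, nat_lit 4378, nat_lit 4538, nat_lit 5269, nat_lit 5428, nat_lit 5749, nat_lit 5786, nat_lit 12290, nat_lit 12335, nat_lit 12498, nat_lit 12658, nat_lit 13389, nat_lit 13548, nat_lit 13869, nat_lit 13906]], [nat_lit 35, nat_lit 9, nat_lit 48, nat_lit 18], [nat_lit 15, nat_lit 26, nat_lit 6, nat_lit 5, nat_lit 2, nat_lit 4, nat_lit 11, nat_lit 14, nat_lit 3, nat_lit 1, nat_lit 9, nat_lit 1896]),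
  (nat_lit 0x10001000001000001000000010001010001000000010000000001010000000000000101000000000100000100010000000000, nat_lit 99, [[nat_lit 4375, nat_lit 4557, nat_lit 4594, nat_lit 5001, nat_lit 5025, nat_lit 5305, nat_lit 5384, nat_lit 5453, nat_lit 12495, nat_lit 12677, nat_lit 12714, nat_lit 13121, nat_lit 13145, nat_lit 13425, nat_lit 13504, nat_lit 13573]], [nat_lit 42, nat_lit 15, nat_lit 48, nat_lit 36], [nat_lit 63, nat_lit 68, nat_lit 8, nat_lit 13, nat_lit 4, nat_lit 1, nat_lit 2, nat_lit 10, nat_lit 3, nat_lit 7, nat_lit 6, nat_lit 9]),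
  (nat_lit 0x1010000010001000000000000000000000000000000000100010001000001000101000100010000010001010000010000000000000000, nat_lit 99, [[nat_lit 41, nat_lit 107, nat_lit 244, nat_lit 323, nat_lit 436, nat_lit 542, nat_lit 563, nat_lit 642, nat_lit 764, nat_lit 903, nat_lit 1039, nat_lit 1110, nat_lit 1405, nat_lit 1413, nat_lit 1466, nat_lit 1740, nat_lit 8161, nat_lit 8227, nat_lit 8364, nat_lit 8443, nat_lit 8556, nat_lit 8662, nat_lit 8683, nat_lit 8762, nat_lit 8884, nat_lit 9023, nat_lit 9159, nat_lit 9230, nat_lit 9525, nat_lit 9533, nat_lit 9586, nat_lit 9860]], [nat_lit 31, nat_lit 14, nat_lit 8, nat_lit 27, nat_lit 53], [nat_lit 8, nat_lit 10, nat_lit 4, nat_lit 2, nat_lit 5, nat_lit 7, nat_lit 13, nat_lit 1756, nat_lit 6, nat_lit 1, nat_lit 12]),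
  (nat_lit 0x1000100010001000100000001000000000001000100000000000100000001000100010000000000000000000100010001000000000001, nat_lit 99, [[nat_lit 2329, nat_lit 2330, nat_lit 2331, nat_lit 2383, nat_lit 3497, nat_lit 3547, nat_lit 3548, nat_lit 3549, nat_lit 10449, nat_lit 10450, nat_lit 10451, nat_lit 10503, nat_lit 11617, nat_lit 11667, nat_lit 11668, nat_lit 11669]], [nat_lit 0, nat_lit 10, nat_lit 28, nat_lit 50], [nat_lit 2, nat_lit 18, nat_lit 19, nat_lit 9, nat_lit 32, nat_lit 24, nat_lit 1, nat_lit 1757, nat_lit 5, nat_lit 6, nat_lit 3, nat_lit 4]),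
  (nat_lit 0x1000001010000010000000000010000000000010001010001000001000000010000010001000000000000010000010000000100, nat_lit 99, [[nat_lit 6510, nat_lit 6517, nat_lit 6550, nat_lit 6551, nat_lit 7698, nat_lit 7705, nat_lit 7742, nat_lit 7743, nat_lit 14630, nat_lit 14637, nat_lit 14670, nat_lit 14671, nat_lit 15818, nat_lit 15825, nat_lit 15862, nat_lit 15863]], [nat_lit 29, nat_lit 5, nat_lit 8, nat_lit 17], [nat_lit 5, nat_lit 9, nat_lit 3, nat_lit 11, nat_lit 8, nat_lit 10, nat_lit 4, nat_lit 1, nat_lit 2, nat_lit 6, nat_lit 13, nat_lit 5816]),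
  (nat_lit 0x100000001000000000001010000000000000100010001000000000001000100010100010000000100000000010000010001000000, nat_lit 99, [[nat_lit 4646, nat_lit 5200, nat_lit 5271, nat_lit 5341, nat_lit 5382, nat_lit 5502, nat_lit 5568, nat_lit 5586, nat_lit 12766, nat_lit 13320, nat_lit 13391, nat_lit 13461, nat_lit 13502, nat_lit 13622, nat_lit 13688, nat_lit 13706]], [nat_lit 41, nat_lit 8, nat_lit 52, nat_lit 24], [nat_lit 3, nat_lit 7, nat_lit 2, nat_lit 4, nat_lit 5, nat_lit 12, nat_lit 15, nat_lit 6, nat_lit 13, nat_lit 1, nat_lit 9, nat_lit 1896]),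
  (nat_lit 0x10100000101010001000100000100010100010001000000000000000000000000000101010100000000000000000000000000000000, nat_lit 0, [[nat_lit 63, nat_lit 35]], [], []),
  (nat_lit 0x1010000010001010100000000010101010000010100000000000000000000010000010001000100000000000000000000000000000000, nat_lit 0, [[nat_lit 55, nat_lit 15]], [], []),
  (nat_lit 0x100010001000001010000010001000100010001010000010000000000000000000101000001000100000000000000000000000000000000, nat_lit 0, [[nat_lit 55, nat_lit 15]], [], []),
  (nat_lit 0x1010001000001000001000000000101000000000000010000010000000100000100010000000000010100000000000000010000010000, nat_lit 99, [[nat_lit 79, nat_lit 516, nat_lit 608, nat_lit 623, nat_lit 624, nat_lit 786, nat_lit 1059, nat_lit 1488, nat_lit 8199, nat_lit 8636, nat_lit 8728, nat_lit 8743, nat_lit 8744, nat_lit 8906, nat_lit 9179, nat_lit 9608]], [nat_lit 13, nat_lit 53, nat_lit 25, nat_lit 45], [nat_lit 31, nat_lit 19, nat_lit 1, nat_lit 2, nat_lit 8, nat_lit 15, nat_lit 14, nat_lit 6, nat_lit 13, nat_lit 4, nat_lit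 9, nat_lit 10]),
  (nat_lit 0x100010001000001010000010001000100010001010000010000000000000000010000010100010000000000000000000000000000000000, nat_lit 99, [[nat_lit 4080, nat_lit 4250, nat_lit 4255, nat_lit 4618, nat_lit 4687, nat_lit 5083, nat_lit 5120, nat_lit 5172, nat_lit 5209, nat_lit 5214, nat_lit 5312, nat_lit 5395, nat_lit 5417, nat_lit 5590, nat_lit 5766, nat_lit 5811, nat_lit 12200, nat_lit 12370, nat_lit 12375, nat_lit 12738, nat_lit 12807, nat_lit 13203, nat_lit 13240, nat_lit 13292, nat_lit 13329, nat_lit 13334, nat_lit 13432, nat_lit 13515, nat_lit 13537, nat_lit 13710, nat_lit 13886, nat_lit 13931]], [nat_lit 51, nat_lit 38, nat_lit 55, nat_lit 36, nat_lit 19], [nat_lit 19, nat_lit 23, nat_lit 38, nat_lit 14, nat_lit 2, nat_lit 16, nat_lit 4, nat_lit 1, nat_lit 8, nat_lit 3, nat_lit 6])]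

def BK6 : List Ent := [(nat_lit 0x100000100010100000100000001000000000100010000000001000001000000010001000000000000000000010001000000000101000000, nat_lit 99, [[nat_lit 4275, nat_lit 4400, nat_lit 4826, nat_lit 5062, nat_lit 5402, nat_lit 5450, nat_lit 5660, nat_lit 5774, nat_lit 12395, nat_lit 12520, nat_lit 12946, nat_lit 13182, nat_lit 13522, nat_lit 13570, nat_lit 13780, nat_lit 13894]], [nat_lit 37, nat_lit 42, nat_lit 27, nat_lit 52], [nat_lit 46, nat_lit 28, nat_lit 10, nat_lit 23, nat_lit 1, nat_lit 5, nat_lit 3, nat_lit 2, nat_lit 4, nat_lit 7, nat_lit 6, nat_lit 1896]),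
  (nat_lit 0x101010100000000000000000000000000000101010100000000000000000000000000000000000001000001000100010001000101000001, nat_lit 0, [[nat_lit 29, nat_lit 6]], [], []),
  (nat_lit 0x100010000000001000000010000000000000101000100000100000000000100000000000100010001010001000001000000010000, nat_lit 99, [[nat_lit 25, nat_lit 128, nat_lit 361, nat_lit 615, nat_lit 714, nat_lit 971, nat_lit 1590, nat_lit 1735, nat_lit 8145, nat_lit 8248, nat_lit 8481, nat_lit 8735, nat_lit 8834, nat_lit 9091, nat_lit 9710, nat_lit 9855]], [nat_lit 50, nat_lit 6, nat_lit 22, nat_lit 9], [nat_lit 6, nat_lit 18, nat_lit 3, nat_lit 26, nat_lit 9, nat_lit 22, nat_lit 2, nat_lit 8, nat_lit 4, nat_lit 5, nat_lit 7, nat_lit 1]),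
  (nat_lit 0x10001000000000001000000010001000100000000000000000001000100010000000000010001000100010001000100000001000000, nat_lit 99, [[nat_lit 4124, nat_lit 4147, nat_lit 4217, nat_lit 4309, nat_lit 4734, nat_lit 4898, nat_lit 5279, nat_lit 5397, nat_lit 12244, nat_lit 12267, nat_lit 12337, nat_lit 12429, nat_lit 12854, nat_lit 13018, nat_lit 13399, nat_lit 13517]], [nat_lit 39, nat_lit 9, nat_lit 53, nat_lit 23], [nat_lit 6, nat_lit 18, nat_lit 3, nat_lit 5, nat_lit 11, nat_lit 2, nat_lit 4, nat_lit 12, nat_lit 8, nat_lit 1, nat_lit 13, nat_lit 1896]),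
  (nat_lit 0x100000100000000000000010100000001000001000101000000000100000100000100000000010000000001000000010100010000000000, nat_lit 99, [[nat_lit 4186, nat_lit 4249, nat_lit 4464, nat_lit 4769, nat_lit 5183, nat_lit 5197, nat_lit 5266, nat_lit 5310, nat_lit 12306, nat_lit 12369, nat_lit 12584, nat_lit 12889, nat_lit 13303, nat_lit 13317, nat_lit 13386, nat_lit 13430]], [nat_lit 33, nat_lit 25, nat_lit 7, nat_lit 12], [nat_lit 5, nat_lit 7, nat_lit 13, nat_lit 33, nat_lit 4, nat_lit 3, nat_lit 2, nat_lit 10, nat_lit 15, nat_lit 12, nat_lit 1, nat_lit 9]),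
  (nat_lit 0x10001000001010000000000000000000000000000000000010100000000010100000101000001010100010001000001, nat_lit 0, [[nat_lit 14, nat_lit 5]], [], []),
  (nat_lit 0x100010000000001000000010001000100000000000001010000000000000001000001000000010001010001000100000001000000, nat_lit 99, [[nat_lit 4114, nat_lit 4392, nat_lit 4418, nat_lit 5048, nat_lit 5052, nat_lit 5321, nat_lit 5399, nat_lit 5522, nat_lit 12234, nat_lit 12512, nat_lit 12538, nat_lit 13168, nat_lit 13172, nat_lit 13441, nat_lit 13519, nat_lit 13642]], [nat_lit 9, nat_lit 18, nat_lit 30, nat_lit 7], [nat_lit 3, nat_lit 13, nat_lit 22, nat_lit 2, nat_lit 4, nat_lit 8, nat_lit 9, nat_lit 6, nat_lit 5, nat_lit 1, nat_lit 10, nat_lit 1896]),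
  (nat_lit 0x1000001010001000000010101010000000001010000010100000000000000000100000100010001, nat_lit 0, [[nat_lit 8, nat_lit 2]], [], []),
  (nat_lit 0x100000100000000010000000000010001000001000101000000000100000100000000010001000001000000000100000000000000010100, nat_lit 99, [[nat_lit 6023, nat_lit 6034, nat_lit 7099, nat_lit 7100, nat_lit 7101, nat_lit 7112, nat_lit 7113, nat_lit 7114, nat_lit 14143, nat_lit 14154, nat_lit 15219, nat_lit 15220, nat_lit 15221, nat_lit 15232, nat_lit 15233, nat_lit 15234]], [nat_lit 28, nat_lit 18, nat_lit 55, nat_lit 33], [nat_lit 27, nat_lit 6, nat_lit 15, nat_lit 2, nat_lit 9, nat_lit 3, nat_lit 5, nat_lit 4, nat_lit 1, nat_lit 8, nat_lit 10, nat_lit 5816]),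
  (nat_lit 0x100010000010100010101010000000000000000000000000101000000000101000000000000000000000000000000000001010001000100, nat_lit 0, [[nat_lit 29, nat_lit 7]], [], []),
  (nat_lit 0x1000101000100000000010000010001000000000000010100000000010000000000000001010000000000010001000001000000000001, nat_lit 99, [[nat_lit 2334, nat_lit 2335, nat_lit 2337, nat_lit 2381, nat_lit 3501, nat_lit 3540, nat_lit 3541, nat_lit 3545, nat_lit 10454, nat_lit 10455, nat_lit 10457, nat_lit 10501, nat_lit 11621, nat_lit 11660, nat_lit 11661, nat_lit 11665]], [nat_lit 11, nat_lit 0, nat_lit 52, nat_lit 31], [nat_lit 43, nat_lit 15, nat_lit 17, nat_lit 1, nat_lit 21, nat_lit 22, nat_lit 24, nat_lit 1757, nat_lit 4, nat_lit 2, nat_lit 3, nat_lit 10]),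
  (nat_lit 0x10100000100010000010101010000000001010000010100000000000000000100000100010001, nat_lit 0, [[nat_lit 18, nat_lit 3]], [], []),
  (nat_lit 0x1000000010000010000000000000100000100000001000000000000010100000000000100010001000000000001000001010001000001, nat_lit 99, [[nat_lit 1929, nat_lit 1930, nat_lit 1931, nat_lit 1940, nat_lit 2995, nat_lit 3004, nat_lit 3005, nat_lit 3006, nat_lit 10049, nat_lit 10050, nat_lit 10051, nat_lit 10060, nat_lit 11115, nat_lit 11124, nat_lit 11125, nat_lit 11126]], [nat_lit 19, nat_lit 0, nat_lit 26, nat_lit 50], [nat_lit 34, nat_lit 30, nat_lit 32, nat_lit 31, nat_lit 13, nat_lit 1756, nat_lit 4, nat_lit 5, nat_lit 3, nat_lit 1, nat_lit 9, nat_lit 1896]),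
  (nat_lit 0x10001000100000100000000000000000000000000000000010101010000000000010100000100010101000000000101, nat_lit 0, [[nat_lit 37, nat_lit 24]], [], []),
  (nat_lit 0x10001000100000100000000000000000000000000000000010101010000000001000001010001000101000000000101, nat_lit 0, [[nat_lit 23, nat_lit 19]], [], []),
  (nat_lit 0x10100000000010100000101000001010100010001000001000000000000000000010001010000010000000000000000, nat_lit 0, [[nat_lit 40, nat_lit 17]], [], []),
  (nat_lit 0x1000100010001000100000001000000000100010000000000010000000100000000000001010000000000000100010000000101000000, nat_lit 99, [[nat_lit 4122, nat_lit 4239, nat_lit 5008, nat_lit 5176, nat_lit 5179, nat_lit 5687, nat_lit 5741, nat_lit 5812, nat_lit 12242, nat_lit 12359, nat_lit 13128, nat_lit 13296, nat_lit 13299, nat_lit 13807, nat_lit 13861, nat_lit 13932]], [nat_lit 17, nat_lit 29, nat_lit 50, nat_lit 42], [nat_lit 12, nat_lit 32, nat_lit 24, nat_lit 38, nat_lit 3, nat_lit 5, nat_lit 7, nat_lit 6, nat_lit 9, nat_lit 1, nat_lit 4, nat_lit 1896]),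
  (nat_lit 0x10000000001010000000000000100000001000000010000000000010100000000000100010000000100000100000100000101000001, nat_lit 99, [[nat_lit 2626, nat_lit 2631, nat_lit 3854, nat_lit 3855, nat_lit 3856, nat_lit 3861, nat_lit 3862, nat_lit 3863, nat_lit 10746, nat_lit 10751, nat_lit 11974, nat_lit 11975, nat_lit 11976, nat_lit 11981, nat_lit 11982, nat_lit 11983]], [nat_lit 48, nat_lit 3, nat_lit 32, nat_lit 19], [nat_lit 22, nat_lit 41, nat_lit 45, nat_lit 62, nat_lit 65, nat_lit 1926, nat_lit 1756, nat_lit 1, nat_lit 6, nat_lit 2, nat_lit 5, nat_lit 3])]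

def BK7 : List Ent := [(nat_lit 0x1010101000000000000000000000000000000000000000101000100010000010001010000010000000001010101, nat_lit 0, [[nat_lit 10, nat_lit 6]], [], []),
  (nat_lit 0x100000001000000000001000100000000010000010000000000000000010100000000000001000101000000000001000100000100010100, nat_lit 99, [[nat_lit 6060, nat_lit 6067, nat_lit 6068, nat_lit 6069, nat_lit 7140, nat_lit 7141, nat_lit 7142, nat_lit 7161, nat_lit 14180, nat_lit 14187, nat_lit 14188, nat_lit 14189, nat_lit 15260, nat_lit 15261, nat_lit 15262, nat_lit 15281]], [nat_lit 7, nat_lit 43, nat_lit 26, nat_lit 18], [nat_lit 76, nat_lit 27, nat_lit 16, nat_lit 20, nat_lit 4, nat_lit 10, nat_lit 28, nat_lit 23, nat_lit 1, nat_lit 2, nat_lit 6, nat_lit 5816]),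
  (nat_lit 0x10100000000000100010000000100000100000100000101000001000001000000000101000000000000010000000100000001, nat_lit 99, [[nat_lit 2036, nat_lit 2037, nat_lit 2084, nat_lit 2091, nat_lit 3148, nat_lit 3149, nat_lit 3204, nat_lit 3211, nat_lit 10156, nat_lit 10157, nat_lit 10204, nat_lit 10211, nat_lit 11268, nat_lit 11269, nat_lit 11324, nat_lit 11331]], [nat_lit 37, nat_lit 24, nat_lit 43, nat_lit 49], [nat_lit 22, nat_lit 30, nat_lit 6, nat_lit 3, nat_lit 11, nat_lit 15, nat_lit 1, nat_lit 2, nat_lit 4, nat_lit 7, nat_lit 8, nat_lit 1756]),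
  (nat_lit 0x1000000010000000100000000010001000000000100000000000001000001000000000001000100000100000100000100010001000100, nat_lit 99, [[nat_lit 6815, nat_lit 6816, nat_lit 6817, nat_lit 6818, nat_lit 6819, nat_lit 6820, nat_lit 8109, nat_lit 8110, nat_lit 14935, nat_lit 14936, nat_lit 14937, nat_lit 14938, nat_lit 14939, nat_lit 14940, nat_lit 16229, nat_lit 16230]], [nat_lit 50, nat_lit 18, nat_lit 46, nat_lit 27], [nat_lit 27, nat_lit 30, nat_lit 6, nat_lit 12, nat_lit 2, nat_lit 3, nat_lit 7, nat_lit 4, nat_lit 9, nat_lit 10, nat_lit 1896, nat_lit 5816]),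
  (nat_lit 0x1000001000000010001000000000000010100000000000001000000000001000101000001010000010000000100000000000100010000, nat_lit 99, [[nat_lit 23, nat_lit 142, nat_lit 258, nat_lit 287, nat_lit 1014, nat_lit 1377, nat_lit 1434, nat_lit 1496, nat_lit 8143, nat_lit 8262, nat_lit 8378, nat_lit 8407, nat_lit 9134, nat_lit 9497, nat_lit 9554, nat_lit 9616]], [nat_lit 37, nat_lit 14, nat_lit 17, nat_lit 45], [nat_lit 44, nat_lit 25, nat_lit 27, nat_lit 11, nat_lit 21, nat_lit 8, nat_lit 20, nat_lit 4, nat_lit 1, nat_lit 2, nat_lit 3, nat_lit 13]),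
  (nat_lit 0x1000100010100000000000000000000010001010000010000000000000000000000000000000000000101010100000000010100000101, nat_lit 0, [[nat_lit 31, nat_lit 19]], [], []),
  (nat_lit 0x100010001000100010000000100000001000000000000010001000001000000000000000001010000000000010001000000000101000000, nat_lit 99, [[nat_lit 4149, nat_lit 4235, nat_lit 5248, nat_lit 5380, nat_lit 5480, nat_lit 5508, nat_lit 5572, nat_lit 5771, nat_lit 12269, nat_lit 12355, nat_lit 13368, nat_lit 13500, nat_lit 13600, nat_lit 13628, nat_lit 13692, nat_lit 13891]], [nat_lit 3, nat_lit 49, nat_lit 27, nat_lit 17], [nat_lit 78, nat_lit 30, nat_lit 5, nat_lit 9, nat_lit 8, nat_lit 12, nat_lit 14, nat_lit 1897, nat_lit 1, nat_lit 4, nat_lit 2, nat_lit 10]),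
  (nat_lit 0x100000000000100010000010001010000000100000000010001000000000100000000010000000100000000000101000001010000000000, nat_lit 99, [[nat_lit 4194, nat_lit 4229, nat_lit 4793, nat_lit 4919, nat_lit 5545, nat_lit 5571, nat_lit 5646, nat_lit 5657, nat_lit 12314, nat_lit 12349, nat_lit 12913, nat_lit 13039, nat_lit 13665, nat_lit 13691, nat_lit 13766, nat_lit 13777]], [nat_lit 20, nat_lit 47, nat_lit 37, nat_lit 10], [nat_lit 23, nat_lit 55, nat_lit 1, nat_lit 16, nat_lit 18, nat_lit 6, nat_lit 4, nat_lit 14, nat_lit 2, nat_lit 5, nat_lit 3, nat_lit 9]),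
  (nat_lit 0x100000100000000000001000001000001000001010000010100000001000000000000010001000000010000010000000000000000010100, nat_lit 99, [[nat_lit 6609, nat_lit 6638, nat_lit 7841, nat_lit 7842, nat_lit 7843, nat_lit 7868, nat_lit 7869, nat_lit 7870, nat_lit 14729, nat_lit 14758, nat_lit 15961, nat_lit 15962, nat_lit 15963, nat_lit 15988, nat_lit 15989, nat_lit 15990]], [nat_lit 52, nat_lit 14, nat_lit 2, nat_lit 42], [nat_lit 40, nat_lit 5, nat_lit 1, nat_lit 9, nat_lit 7, nat_lit 13, nat_lit 6, nat_lit 3, nat_lit 4, nat_lit 2, nat_lit 10, nat_lit 5816]),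
  (nat_lit 0x100000001000000000000010001000000000001000000010000000001000001000000000100010000000100000100000100010001000100, nat_lit 99, [[nat_lit 6709, nat_lit 6710, nat_lit 6711, nat_lit 6712, nat_lit 7959, nat_lit 7960, nat_lit 7961, nat_lit 7962, nat_lit 14829, nat_lit 14830, nat_lit 14831, nat_lit 14832, nat_lit 16079, nat_lit 16080, nat_lit 16081, nat_lit 16082]], [nat_lit 13, nat_lit 1, nat_lit 36, nat_lit 44], [nat_lit 4, nat_lit 5, nat_lit 6, nat_lit 7, nat_lit 10, nat_lit 5844, nat_lit 1897, nat_lit 2, nat_lit 15, nat_lit 13, nat_lit 1, nat_lit 9]),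
  (nat_lit 0x10000010000010000010100000101000000010000000000000100010000000100000100000000000000000101000100000100000000, nat_lit 99, [[nat_lit 18, nat_lit 317, nat_lit 387, nat_lit 701, nat_lit 946, nat_lit 1074, nat_lit 1510, nat_lit 1576, nat_lit 8138, nat_lit 8437, nat_lit 8507, nat_lit 8821, nat_lit 9066, nat_lit 9194, nat_lit 9630, nat_lit 9696]], [nat_lit 19, nat_lit 4, nat_lit 26, nat_lit 43], [nat_lit 218, nat_lit 1, nat_lit 5, nat_lit 7, nat_lit 13, nat_lit 6, nat_lit 9, nat_lit 10, nat_lit 11, nat_lit 2, nat_lit 4, nat_lit 12]),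
  (nat_lit 0x1010000010100010001000101000001010001000100000000000000000000000000010101010000000000000000, nat_lit 0, [[nat_lit 41, nat_lit 24]], [], []),
  (nat_lit 0x10100000000000001000101000000000001000001010001000001010000000100000000000100010000000001000001000000, nat_lit 99, [[nat_lit 4484, nat_lit 5178, nat_lit 5285, nat_lit 5334, nat_lit 5504, nat_lit 5549, nat_lit 5692, nat_lit 5696, nat_lit 12604, nat_lit 13298, nat_lit 13405, nat_lit 13454, nat_lit 13624, nat_lit 13669, nat_lit 13812, nat_lit 13816]], [nat_lit 49, nat_lit 19, nat_lit 29, nat_lit 6], [nat_lit 1, nat_lit 9, nat_lit 32, nat_lit 7, nat_lit 3, nat_lit 6, nat_lit 5, nat_lit 14, nat_lit 2, nat_lit 4, nat_lit 10, nat_lit 1896]),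
  (nat_lit 0x10001000000000000010000000100000000010000010001010000000000010000000000010001000100000100010100000001000000, nat_lit 99, [[nat_lit 4085, nat_lit 4188, nat_lit 4421, nat_lit 4675, nat_lit 4774, nat_lit 5031, nat_lit 5650, nat_lit 5795, nat_lit 12205, nat_lit 12308, nat_lit 12541, nat_lit 12795, nat_lit 12894, nat_lit 13151, nat_lit 13770, nat_lit 13915]], [nat_lit 13, nat_lit 32, nat_lit 23, nat_lit 40], [nat_lit 1, nat_lit 4, nat_lit 2, nat_lit 19, nat_lit 22, nat_lit 13, nat_lit 3, nat_lit 7, nat_lit 6, nat_lit 5, nat_lit 8, nat_lit 1896]),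
  (nat_lit 0x10101010000000001010000010101000100010000010000000000000000000100010100000100000000000000000000000000000000, nat_lit 0, [[nat_lit 44, nat_lit 5]], [], []),
  (nat_lit 0x100000001000000010000000000000100000001000000010000000001000001010000010000000000000001010000000100000101000001, nat_lit 99, [[nat_lit 1899, nat_lit 1900, nat_lit 1901, nat_lit 1902, nat_lit 2969, nat_lit 2970, nat_lit 2971, nat_lit 2972, nat_lit 10019, nat_lit 10020, nat_lit 10021, nat_lit 10022, nat_lit 11089, nat_lit 11090, nat_lit 11091, nat_lit 11092]], [nat_lit 51, nat_lit 11, nat_lit 27, nat_lit 0], [nat_lit 17, nat_lit 25, nat_lit 41, nat_lit 14, nat_lit 24, nat_lit 1757, nat_lit 1, nat_lit 6, nat_lit 3, nat_lit 2, nat_lit 4, nat_lit 1896]),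
  (nat_lit 0x10100000101000100010001010000000000000000000100010000010100000000000000000000000000000000000101000000000101, nat_lit 0, [[nat_lit 29, nat_lit 5]], [], []),
  (nat_lit 0x10001000000010100000001000100010001000001000000010000000001000100000000000100000001000000000000010100, nat_lit 99, [[nat_lit 6598, nat_lit 6651, nat_lit 7820, nat_lit 7821, nat_lit 7822, nat_lit 7887, nat_lit 7888, nat_lit 7889, nat_lit 14718, nat_lit 14771, nat_lit 15940, nat_lit 15941, nat_lit 15942, nat_lit 16007, nat_lit 16008, nat_lit 16009]], [nat_lit 35, nat_lit 43, nat_lit 26, nat_lit 21], [nat_lit 7, nat_lit 2, nat_lit 11, nat_lit 15, nat_lit 17, nat_lit 21, nat_lit 14, nat_lit 1, nat_lit 3, nat_lit 5, nat_lit 6, nat_lit 5816]),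
  (nat_lit 0x1010101000000000000000000000000000000000101000001010000010001000100000100010100010001000000000000000000, nat_lit 0, [[nat_lit 43, nat_lit 28]], [], []),
  (nat_lit 0x100000000000001000001000000010000010001000000000001010000000000000001000001000001000001000101000000010000000001, nat_lit 99, [[nat_lit 2122, nat_lit 2125, nat_lit 3238, nat_lit 3239, nat_lit 3240, nat_lit 3247, nat_lit 3248, nat_lit 3249, nat_lit 10242, nat_lit 10245, nat_lit 11358, nat_lit 11359, nat_lit 11360, nat_lit 11367, nat_lit 11368, nat_lit 11369]], [nat_lit 30, nat_lit 36, nat_lit 55, nat_lit 45], [nat_lit 4, nat_lit 19, nat_lit 2, nat_lit 8, nat_lit 10, nat_lit 12, nat_lit 3, nat_lit 5, nat_lit 6, nat_lit 1, nat_lit 9, nat_lit 1756]),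
  (nat_lit 0x101000000000101000000000000000000000000000000000100000100010001010001000001010000000000010101010000000000000000, nat_lit 0, [[nat_lit 60, nat_lit 6]], [], []),
  (nat_lit 0x1000101000001000000000000000000000000000000000101000000000101000001010000010101000100010000010000000000000000, nat_lit 0, [[nat_lit 60, nat_lit 6]], [], []),
  (nat_lit 0x100000001000000000100000100010100000000000100000000000100000100010100010001000000010000000000010001000000, nat_lit 99, [[nat_lit 4416, nat_lit 4519, nat_lit 4600, nat_lit 4877, nat_lit 5316, nat_lit 5463, nat_lit 5653, nat_lit 5729, nat_lit 12536, nat_lit 12639, nat_lit 12720, nat_lit 12997, nat_lit 13436, nat_lit 13583, nat_lit 13773, nat_lit 13849]], [nat_lit 48, nat_lit 15, nat_lit 20, nat_lit 40], [nat_lit 30, nat_lit 29, nat_lit 33, nat_lit 6, nat_lit 18, nat_lit 14, nat_lit 2, nat_lit 4, nat_lit 8, nat_lit 1, nat_lit 9, nat_lit 1896]),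
  (nat_lit 0x100010000010001000001000000000100000100010000000000000100000001000000000001010000000000000100010001000000000001, nat_lit 99, [[nat_lit 2328, nat_lit 2332, nat_lit 2333, nat_lit 2382, nat_lit 3496, nat_lit 3546, nat_lit 3550, nat_lit 3551, nat_lit 10448, nat_lit 10452, nat_lit 10453, nat_lit 10502, nat_lit 11616, nat_lit 11666, nat_lit 11670, nat_lit 11671]], [nat_lit 37, nat_lit 24, nat_lit 17, nat_lit 8], [nat_lit 32, nat_lit 31, nat_lit 34, nat_lit 10, nat_lit 12, nat_lit 4, nat_lit 2, nat_lit 3, nat_lit 5, nat_lit 1, nat_lit 6, nat_lit 1756])]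

def BK8 : List Ent := [(nat_lit 0x101000000000101000001010000000001000001000001000000000100000001000000010000000000010000010000000000010001, nat_lit 99, [[nat_lit 2682, nat_lit 2683, nat_lit 2727, nat_lit 2728, nat_lit 3944, nat_lit 3945, nat_lit 4003, nat_lit 4004, nat_lit 10802, nat_lit 10803, nat_lit 10847, nat_lit 10848, nat_lit 12064, nat_lit 12065, nat_lit 12123, nat_lit 12124]], [nat_lit 36, nat_lit 30, nat_lit 17, nat_lit 51], [nat_lit 6, nat_lit 26, nat_lit 27, nat_lit 29, nat_lit 3, nat_lit 30, nat_lit 5, nat_lit 2, nat_lit 4, nat_lit 1, nat_lit 7, nat_lit 1756]),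
  (nat_lit 0x100010000010100010101010000000001000001010001000000000000000000010100000101000000000000000000000000000000000000, nat_lit 0, [[nat_lit 8, nat_lit 2]], [], []),
  (nat_lit 0x100000101000100000000000000000000000101000001010000000000000000000000000000000001000100000101000000000001010101, nat_lit 0, [[nat_lit 43, nat_lit 28]], [], []),
  (nat_lit 0x100010000010100010101010000000000010100000100010000000000000000010100000101000000000000000000000000000000000000, nat_lit 0, [[nat_lit 64, nat_lit 12]], [], []),
  (nat_lit 0x10000000100000100010000000000000000000100010000000101000000000100010100010000000100000000010000000100010000, nat_lit 99, [[nat_lit 110, nat_lit 155, nat_lit 318, nat_lit 478, nat_lit 1209, nat_lit 1368, nat_lit 1689, nat_lit 1726, nat_lit 8230, nat_lit 8275, nat_lit 8438, nat_lit 8598, nat_lit 9329, nat_lit 9488, nat_lit 9809, nat_lit 9846]], [nat_lit 20, nat_lit 32, nat_lit 44, nat_lit 13], [nat_lit 6, nat_lit 43, nat_lit 60, nat_lit 16, nat_lit 82, nat_lit 3, nat_lit 4, nat_lit 5, nat_lit 2, nat_lit 9, nat_lit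 1, nat_lit 12]),
  (nat_lit 0x1000001000000000000000001010000000000000100010100000000000100010000010001010001000000010000000000010001000000, nat_lit 99, [[nat_lit 4260, nat_lit 4518, nat_lit 4690, nat_lit 4987, nat_lit 5090, nat_lit 5425, nat_lit 5510, nat_lit 5564, nat_lit 12380, nat_lit 12638, nat_lit 12810, nat_lit 13107, nat_lit 13210, nat_lit 13545, nat_lit 13630, nat_lit 13684]], [nat_lit 3, nat_lit 51, nat_lit 11, nat_lit 31], [nat_lit 12, nat_lit 15, nat_lit 6, nat_lit 24, nat_lit 21, nat_lit 1, nat_lit 23, nat_lit 1896, nat_lit 4, nat_lit 2, nat_lit 3, nat_lit 9]),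
  (nat_lit 0x1010000000001010000010100000101010001000100000100000000000000000001000101000001, nat_lit 0, [[nat_lit 30, nat_lit 15]], [], []),
  (nat_lit 0x10000010000000101000001010000000100000000010100000000000001000000010000000100000000000101000000000001000100, nat_lit 99, [[nat_lit 5918, nat_lit 5919, nat_lit 6889, nat_lit 6890, nat_lit 6891, nat_lit 6892, nat_lit 6956, nat_lit 6957, nat_lit 14038, nat_lit 14039, nat_lit 15009, nat_lit 15010, nat_lit 15011, nat_lit 15012, nat_lit 15076, nat_lit 15077]], [nat_lit 31, nat_lit 16, nat_lit 37, nat_lit 42], [nat_lit 8, nat_lit 17, nat_lit 4, nat_lit 10, nat_lit 7, nat_lit 2, nat_lit 3, nat_lit 1, nat_lit 9, nat_lit 6, nat_lit 1896, nat_lit 5816]),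
  (nat_lit 0x100010000010100000000000101010101000001010001000000000000000000000001010000010100000000000000000000000000000000, nat_lit 0, [[nat_lit 52, nat_lit 1]], [], []),
  (nat_lit 0x100000101000100010100000000010100000000000000000100010001000001000000000000000000000000000000000101010100000000, nat_lit 0, [[nat_lit 58, nat_lit 49]], [], []),
  (nat_lit 0x101000000000101000100000100000100000000010000000100010000010000000001000001000100000000000001010000000000, nat_lit 99, [[nat_lit 4293, nat_lit 4556, nat_lit 4580, nat_lit 4922, nat_lit 5231, nat_lit 5238, nat_lit 5730, nat_lit 5744, nat_lit 12413, nat_lit 12676, nat_lit 12700, nat_lit 13042, nat_lit 13351, nat_lit 13358, nat_lit 13850, nat_lit 13864]], [nat_lit 28, nat_lit 32, nat_lit 15, nat_lit 6], [nat_lit 69, nat_lit 29, nat_lit 2, nat_lit 6, nat_lit 5, nat_lit 7, nat_lit 3, nat_lit 10, nat_lit 1, nat_lit 8, nat_lit 4, nat_lit 9]),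
  (nat_lit 0x100010000000000000000000001000100010000000000010001010000010100000000010000010001000000000000010000000100000001, nat_lit 99, [[nat_lit 2038, nat_lit 2039, nat_lit 2085, nat_lit 2090, nat_lit 3146, nat_lit 3147, nat_lit 3205, nat_lit 3210, nat_lit 10158, nat_lit 10159, nat_lit 10205, nat_lit 10210, nat_lit 11266, nat_lit 11267, nat_lit 11325, nat_lit 11330]], [nat_lit 17, nat_lit 32, nat_lit 0, nat_lit 40], [nat_lit 222, nat_lit 62, nat_lit 2, nat_lit 65, nat_lit 22, nat_lit 1760, nat_lit 1, nat_lit 3, nat_lit 6, nat_lit 5, nat_lit 7, nat_lit 8]),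
  (nat_lit 0x100010000010100000000000101010100010100000100010000000000000000000001010000010100000000000000000000000000000000, nat_lit 0, [[nat_lit 11, nat_lit 3]], [], []),
  (nat_lit 0x1000001010000010000000001000000000001000001000101000100000100000001000001000000000000010100000000010000, nat_lit 99, [[nat_lit 46, nat_lit 327, nat_lit 500, nat_lit 639, nat_lit 844, nat_lit 980, nat_lit 1076, nat_lit 1562, nat_lit 8166, nat_lit 8447, nat_lit 8620, nat_lit 8759, nat_lit 8964, nat_lit 9100, nat_lit 9196, nat_lit 9682]], [nat_lit 27, nat_lit 47, nat_lit 15, nat_lit 22], [nat_lit 124, nat_lit 27, nat_lit 96, nat_lit 10, nat_lit 11, nat_lit 3, nat_lit 2, nat_lit 4, nat_lit 1, nat_lit 5, nat_lit 7, nat_lit 13]),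
  (nat_lit 0x100010000010001000100000001000000000001000100000000010000000100000000000001010001000001000000000001000000000001, nat_lit 99, [[nat_lit 2168, nat_lit 2188, nat_lit 2190, nat_lit 2191, nat_lit 3304, nat_lit 3306, nat_lit 3307, nat_lit 3324, nat_lit 10288, nat_lit 10308, nat_lit 10310, nat_lit 10311, nat_lit 11424, nat_lit 11426, nat_lit 11427, nat_lit 11444]], [nat_lit 46, nat_lit 50, nat_lit 15, nat_lit 0], [nat_lit 18, nat_lit 2, nat_lit 39, nat_lit 22, nat_lit 56, nat_lit 1760, nat_lit 7, nat_lit 3, nat_lit 6, nat_lit 5, nat_lit 4, nat_lit 1]),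
  (nat_lit 0x100000100010001000000000000000000000000000000000100000101000100000001010101000000000101000001010000000000000000, nat_lit 0, [[nat_lit 26, nat_lit 10]], [], []),
  (nat_lit 0x100000001010001000000000000010100000000000100000000000100000100010001000100000001000001000000000100010000, nat_lit 99, [[nat_lit 890, nat_lit 933, nat_lit 1238, nat_lit 1428, nat_lit 1542, nat_lit 1580, nat_lit 1648, nat_lit 1705, nat_lit 9010, nat_lit 9053, nat_lit 9358, nat_lit 9548, nat_lit 9662, nat_lit 9700, nat_lit 9768, nat_lit 9825]], [nat_lit 45, nat_lit 37, nat_lit 2, nat_lit 22], [nat_lit 1867, nat_lit 5, nat_lit 9, nat_lit 14, nat_lit 15, nat_lit 22, nat_lit 2, nat_lit 6, nat_lit 3, nat_lit 4, nat_lit 7, nat_lit 1]),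
  (nat_lit 0x10000000001000001000100000000010000010000000000000001000001000101000000000000010000000000010001010001000001, nat_lit 99, [[nat_lit 2520, nat_lit 2529, nat_lit 3728, nat_lit 3729, nat_lit 3730, nat_lit 3747, nat_lit 3748, nat_lit 3749, nat_lit 10640, nat_lit 10649, nat_lit 11848, nat_lit 11849, nat_lit 11850, nat_lit 11867, nat_lit 11868, nat_lit 11869]], [nat_lit 6, nat_lit 53, nat_lit 21, nat_lit 35], [nat_lit 63, nat_lit 18, nat_lit 10, nat_lit 8, nat_lit 9, nat_lit 20, nat_lit 5, nat_lit 4, nat_lit 1, nat_lit 2, nat_lit 1756, nat_lit 1896]),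
  (nat_lit 0x10001010000000000010000010001010001000000010000000001000100000000010000010000010000000000000001000001, nat_lit 99, [[nat_lit 1965, nat_lit 1966, nat_lit 1970, nat_lit 1971, nat_lit 3044, nat_lit 3045, nat_lit 3049, nat_lit 3050, nat_lit 10085, nat_lit 10086, nat_lit 10090, nat_lit 10091, nat_lit 11164, nat_lit 11165, nat_lit 11169, nat_lit 11170]], [nat_lit 17, nat_lit 38, nat_lit 11, nat_lit 50], [nat_lit 39, nat_lit 1, nat_lit 19, nat_lit 18, nat_lit 9, nat_lit 2, nat_lit 7, nat_lit 4, nat_lit 3, nat_lit 5, nat_lit 1756, nat_lit 1896]),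
  (nat_lit 0x100000100010001000000000000000000000000000000000001010000010001000001010101000000000101000001010000000000000000, nat_lit 0, [[nat_lit 43, nat_lit 28]], [], []),
  (nat_lit 0x1010000010001000000000000000000000101000001010000000000000000000000000000000001000100000101000000000001010101, nat_lit 0, [[nat_lit 35, nat_lit 30]], [], []),
  (nat_lit 0x100000000000001000000010000000100000000000101000000000001000100000001000001000000010100000101000000010000000001, nat_lit 99, [[nat_lit 2112, nat_lit 2113, nat_lit 2114, nat_lit 2137, nat_lit 3224, nat_lit 3259, nat_lit 3260, nat_lit 3261, nat_lit 10232, nat_lit 10233, nat_lit 10234, nat_lit 10257, nat_lit 11344, nat_lit 11379, nat_lit 11380, nat_lit 11381]], [nat_lit 18, nat_lit 5, nat_lit 13, nat_lit 27], [nat_lit 15, nat_lit 29, nat_lit 22, nat_lit 6, nat_lit 9, nat_lit 3, nat_lit 2, nat_lit 1, nat_lit 7, nat_lit 5, nat_lit 4, nat_lit 1756]),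
  (nat_lit 0x10100000101010001000100000100000000000000000001000101000001000000000000000000000000000000000000010101010000, nat_lit 0, [[nat_lit 63, nat_lit 13]], [], []),
  (nat_lit 0x1010000010001010100000000010100000000000000000100010001000001000000000000000000000000000000000101010100000000, nat_lit 0, [[nat_lit 58, nat_lit 48]], [], []),
  (nat_lit 0x1010001000001000001000000000100010000000001000000000100000001000000000001010000010100000000000100000000000100, nat_lit 99, [[nat_lit 6404, nat_lit 6408, nat_lit 6409, nat_lit 6426, nat_lit 7572, nat_lit 7590, nat_lit 7592, nat_lit 7593, nat_lit 14524, nat_lit 14528, nat_lit 14529, nat_lit 14546, nat_lit 15692, nat_lit 15710, nat_lit 15712, nat_lit 15713]], [nat_lit 38, nat_lit 14, nat_lit 45, nat_lit 48], [nat_lit 1, nat_lit 35, nat_lit 11, nat_lit 32, nat_lit 7, nat_lit 9, nat_lit 13, nat_lit 20, nat_lit 3, nat_lit 2, nat_lit 4, nat_lit 5816]),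
  (nat_lit 0x1000100010001000001000000000100000001000100000000000100000001000000000001010001000001000000000000000101000000, nat_lit 99, [[nat_lit 4572, nat_lit 4632, nat_lit 4863, nat_lit 4870, nat_lit 4933, nat_lit 4945, nat_lit 5150, nat_lit 5593, nat_lit 12692, nat_lit 12752, nat_lit 12983, nat_lit 12990, nat_lit 13053, nat_lit 13065, nat_lit 13270, nat_lit 13713]], [nat_lit 24, nat_lit 18, nat_lit 54, nat_lit 40], [nat_lit 2, nat_lit 7, nat_lit 22, nat_lit 24, nat_lit 17, nat_lit 9, nat_lit 18, nat_lit 1, nat_lit 3, nat_lit 4, nat_lit 8, nat_lit 1896]),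
  (nat_lit 0x1000001000000000001000100000001010000000100000101000001000000010000010000010000000001000000010000000100, nat_lit 99, [[nat_lit 6504, nat_lit 6505, nat_lit 6552, nat_lit 6559, nat_lit 7696, nat_lit 7697, nat_lit 7752, nat_lit 7759, nat_lit 14624, nat_lit 14625, nat_lit 14672, nat_lit 14679, nat_lit 15816, nat_lit 15817, nat_lit 15872, nat_lit 15879]], [nat_lit 31, nat_lit 48, nat_lit 9, nat_lit 1], [nat_lit 1, nat_lit 5, nat_lit 10, nat_lit 19, nat_lit 2, nat_lit 23, nat_lit 13, nat_lit 5816, nat_lit 9, nat_lit 6, nat_lit 3, nat_lit 4]),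
  (nat_lit 0x10001000100000000000100010001000100010001000000010000000000010001000000000001000000010001000100000000, nat_lit 99, [[nat_lit 33, nat_lit 93, nat_lit 94, nat_lit 471, nat_lit 579, nat_lit 823, nat_lit 854, nat_lit 909, nat_lit 8153, nat_lit 8213, nat_lit 8214, nat_lit 8591, nat_lit 8699, nat_lit 8943, nat_lit 8974, nat_lit 9029]], [nat_lit 50, nat_lit 40, nat_lit 6, nat_lit 8], [nat_lit 221, nat_lit 41, nat_lit 25, nat_lit 8, nat_lit 5, nat_lit 9, nat_lit 7, nat_lit 2, nat_lit 1, nat_lit 3, nat_lit 4, nat_lit 6])]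

def BK9 : List Ent := [(nat_lit 0x101010100000000010000010100010000000101010100000000000000000000010001000100000100000000000000000000000000000000, nat_lit 0, [[nat_lit 30, nat_lit 15]], [], []),
  (nat_lit 0x1000100000000000000000100010001000000000001000001010000010100000001000000000100010000000001000000010000000100, nat_lit 99, [[nat_lit 6508, nat_lit 6509, nat_lit 6553, nat_lit 6558, nat_lit 7688, nat_lit 7689, nat_lit 7753, nat_lit 7758, nat_lit 14628, nat_lit 14629, nat_lit 14673, nat_lit 14678, nat_lit 15808, nat_lit 15809, nat_lit 15873, nat_lit 15878]], [nat_lit 30, nat_lit 52, nat_lit 21, nat_lit 5], [nat_lit 19, nat_lit 8, nat_lit 1, nat_lit 12, nat_lit 13, nat_lit 4, nat_lit 9, nat_lit 2, nat_lit 3, nat_lit 5, nat_lit 10, nat_lit 5816]),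
  (nat_lit 0x1000100000000000101000000000000000100000100000001010001000001000001000000000101000000000000010000010000000100, nat_lit 99, [[nat_lit 6135, nat_lit 6142, nat_lit 7212, nat_lit 7213, nat_lit 7220, nat_lit 7221, nat_lit 7259, nat_lit 7262, nat_lit 14255, nat_lit 14262, nat_lit 15332, nat_lit 15333, nat_lit 15340, nat_lit 15341, nat_lit 15379, nat_lit 15382]], [nat_lit 5, nat_lit 37, nat_lit 30, nat_lit 8], [nat_lit 9, nat_lit 34, nat_lit 6, nat_lit 7, nat_lit 22, nat_lit 17, nat_lit 1, nat_lit 5, nat_lit 4, nat_lit 2, nat_lit 8, nat_lit 5816]),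
  (nat_lit 0x101000000010000010001010001000000010000000100000000000001000001000000010001000100000000000000000000010001, nat_lit 99, [[nat_lit 1826, nat_lit 1827, nat_lit 1837, nat_lit 1838, nat_lit 2856, nat_lit 2857, nat_lit 2869, nat_lit 2870, nat_lit 9946, nat_lit 9947, nat_lit 9957, nat_lit 9958, nat_lit 10976, nat_lit 10977, nat_lit 10989, nat_lit 10990]], [nat_lit 52, nat_lit 0, nat_lit 41, nat_lit 39], [nat_lit 20, nat_lit 129, nat_lit 11, nat_lit 45, nat_lit 58, nat_lit 47, nat_lit 3, nat_lit 1756, nat_lit 1, nat_lit 5, nat_lit 2, nat_lit 8]),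
  (nat_lit 0x1000100000000010100000000010100000101000000010000000001000000010001000000010000010000000000000001000001, nat_lit 99, [[nat_lit 1964, nat_lit 1967, nat_lit 1968, nat_lit 1969, nat_lit 3046, nat_lit 3047, nat_lit 3048, nat_lit 3051, nat_lit 10084, nat_lit 10087, nat_lit 10088, nat_lit 10089, nat_lit 11166, nat_lit 11167, nat_lit 11168, nat_lit 11171]], [nat_lit 18, nat_lit 44, nat_lit 24, nat_lit 38], [nat_lit 1, nat_lit 8, nat_lit 9, nat_lit 3, nat_lit 7, nat_lit 4, nat_lit 2, nat_lit 5, nat_lit 6, nat_lit 13, nat_lit 1756, nat_lit 1896]),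
  (nat_lit 0x101010100000000000000000000000001010000000001010000000000000000000000000000000000010100010001000100010000010100, nat_lit 0, [[nat_lit 41, nat_lit 37]], [], []),
  (nat_lit 0x101000100010000010001010000010101010100000000000000000000000001010000000001010000000000000000, nat_lit 0, [[nat_lit 92, nat_lit 81]], [], []),
  (nat_lit 0x100010000010000000001000000000000010000010000000001000100000100000000000100010100010000010001000000010000, nat_lit 99, [[nat_lit 557, nat_lit 606, nat_lit 781, nat_lit 1098, nat_lit 1453, nat_lit 1592, nat_lit 1628, nat_lit 1707, nat_lit 8677, nat_lit 8726, nat_lit 8901, nat_lit 9218, nat_lit 9573, nat_lit 9712, nat_lit 9748, nat_lit 9827]], [nat_lit 8, nat_lit 32, nat_lit 16, nat_lit 27], [nat_lit 10, nat_lit 33, nat_lit 32, nat_lit 9, nat_lit 6, nat_lit 2, nat_lit 5, nat_lit 4, nat_lit 8, nat_lit 3, nat_lit 1, nat_lit 12]),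
  (nat_lit 0x1000000010000000000010001000000000001000000010001000100000000000000000001000100010000000000010001000100010001, nat_lit 99, [[nat_lit 1756, nat_lit 1771, nat_lit 1772, nat_lit 1773, nat_lit 2780, nat_lit 2781, nat_lit 2782, nat_lit 2793, nat_lit 9876, nat_lit 9891, nat_lit 9892, nat_lit 9893, nat_lit 10900, nat_lit 10901, nat_lit 10902, nat_lit 10913]], [nat_lit 30, nat_lit 42, nat_lit 6, nat_lit 8], [nat_lit 14, nat_lit 1, nat_lit 42, nat_lit 11, nat_lit 5, nat_lit 7, nat_lit 16, nat_lit 15, nat_lit 2, nat_lit 3, nat_lit 6, nat_lit 1756]),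
  (nat_lit 0x1010101010101010101010101010101000000000000000000000000000000000000000000000000, nat_lit 0, [[nat_lit 1804, nat_lit 140]], [], []),
  (nat_lit 0x101010100000000000101000001000100000101010100000000000000000000010001000100000100000000000000000000000000000000, nat_lit 0, [[nat_lit 30, nat_lit 15]], [], []),
  (nat_lit 0x100010100000100000000000000000000000000000000000001010101000000000101000001010001000100010100, nat_lit 0, [[nat_lit 17, nat_lit 15]], [], []),
  (nat_lit 0x100000000000100010001000001000100000100000000010001000000000100000100000100000000000000010000010000000000010001, nat_lit 99, [[nat_lit 1807, nat_lit 1808, nat_lit 2835, nat_lit 2836, nat_lit 2888, nat_lit 2889, nat_lit 2890, nat_lit 2891, nat_lit 9927, nat_lit 9928, nat_lit 10955, nat_lit 10956, nat_lit 11008, nat_lit 11009, nat_lit 11010, nat_lit 11011]], [nat_lit 8, nat_lit 45, nat_lit 30, nat_lit 49], [nat_lit 5, nat_lit 9, nat_lit 10, nat_lit 20, nat_lit 15, nat_lit 2, nat_lit 11, nat_lit 3, nat_lit 12, nat_lit 4, nat_lit 1, nat_lit 1756]),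
  (nat_lit 0x1000100010100010000010001000100010001010000010000000000000000000101000001000100000000000000000000000000000000, nat_lit 99, [[nat_lit 65, nat_lit 139, nat_lit 292, nat_lit 515, nat_lit 702, nat_lit 726, nat_lit 768, nat_lit 883, nat_lit 1330, nat_lit 1385, nat_lit 1409, nat_lit 1456, nat_lit 1540, nat_lit 1653, nat_lit 1665, nat_lit 1688, nat_lit 8185, nat_lit 8259, nat_lit 8412, nat_lit 8635, nat_lit 8822, nat_lit 8846, nat_lit 8888, nat_lit 9003, nat_lit 9450, nat_lit 9505, nat_lit 9529, nat_lit 9576, nat_lit 9660, nat_lit 9773, nat_lit 9785, nat_lit 9808]], [nat_lit 50, nat_lit 36, nat_lit 42, nat_lit 40, nat_lit 32], [nat_lit 16, nat_lit 27, nat_lit 34, nat_lit 26, nat_lit 11, nat_lit 3, nat_lit 6, nat_lit 9, nat_lit 4, nat_lit 2, nat_lit 1]),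
  (nat_lit 0x1000100010100010000010001000100010001010000010000000000000000010000010100010000000000000000000000000000000000, nat_lit 0, [[nat_lit 55, nat_lit 15]], [], []),
  (nat_lit 0x100000100000000000100000000000100010001000100010000010000000001000001000100000000000100000001000001000100000000, nat_lit 99, [[nat_lit 274, nat_lit 279, nat_lit 319, nat_lit 394, nat_lit 527, nat_lit 880, nat_lit 1041, nat_lit 1559, nat_lit 8394, nat_lit 8399, nat_lit 8439, nat_lit 8514, nat_lit 8647, nat_lit 9000, nat_lit 9161, nat_lit 9679]], [nat_lit 29, nat_lit 21, nat_lit 13, nat_lit 40], [nat_lit 79, nat_lit 39, nat_lit 8, nat_lit 16, nat_lit 38, nat_lit 20, nat_lit 11, nat_lit 3, nat_lit 5, nat_lit 4, nat_lit 1, nat_lit 2]),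
  (nat_lit 0x100000100010001010001000001010000000000000000000100000101000100000000000000000000000000000000000100010001000001, nat_lit 0, [[nat_lit 14, nat_lit 5]], [], []),
  (nat_lit 0x100000101000001000000010000010000000100010000000100000000010000000000000001010000000000000100010000010000010000, nat_lit 99, [[nat_lit 122, nat_lit 232, nat_lit 253, nat_lit 612, nat_lit 826, nat_lit 945, nat_lit 1202, nat_lit 1309, nat_lit 8242, nat_lit 8352, nat_lit 8373, nat_lit 8732, nat_lit 8946, nat_lit 9065, nat_lit 9322, nat_lit 9429]], [nat_lit 18, nat_lit 51, nat_lit 8, nat_lit 44], [nat_lit 31, nat_lit 28, nat_lit 20, nat_lit 42, nat_lit 5, nat_lit 8, nat_lit 2, nat_lit 3, nat_lit 7, nat_lit 6, nat_lit 1, nat_lit 9]),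
  (nat_lit 0x100000100010001010001000001010000000000000000000001010000010001000000000000000000000000000000000100010001000001, nat_lit 99, [[nat_lit 1917, nat_lit 1918, nat_lit 2011, nat_lit 2012, nat_lit 2534, nat_lit 2535, nat_lit 2592, nat_lit 2593, nat_lit 2991, nat_lit 2992, nat_lit 3109, nat_lit 3110, nat_lit 3750, nat_lit 3751, nat_lit 3836, nat_lit 3837, nat_lit 10037, nat_lit 10038, nat_lit 10131, nat_lit 10132, nat_lit 10654, nat_lit 10655, nat_lit 10712, nat_lit 10713, nat_lit 11111, nat_lit 11112, nat_lit 11229, nat_lit 11230, nat_lit 11870, nat_lit 11871, nat_lit 11956, nat_lit 11957]], [nat_lit 47, nat_lit 50, nat_lit 29, nat_lit 42, nat_lit 45], [nat_lit 16, nat_lit 7, nat_lit 6, nat_lit 1, nat_lit 14, nat_lit 5, nat_lit 9, nat_lit 15, nat_lit 2, nat_lit 1756, nat_lit 1896]),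
  (nat_lit 0x100010000010001010000000100000000000100010000000000000100000001000000000100000100010100000000000100000000000100, nat_lit 99, [[nat_lit 6402, nat_lit 6430, nat_lit 6432, nat_lit 6433, nat_lit 7566, nat_lit 7570, nat_lit 7571, nat_lit 7594, nat_lit 14522, nat_lit 14550, nat_lit 14552, nat_lit 14553, nat_lit 15686, nat_lit 15690, nat_lit 15691, nat_lit 15714]], [nat_lit 7, nat_lit 14, nat_lit 47, nat_lit 35], [nat_lit 5, nat_lit 7, nat_lit 11, nat_lit 3, nat_lit 15, nat_lit 16, nat_lit 6, nat_lit 12, nat_lit 2, nat_lit 8, nat_lit 1, nat_lit 5816]),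
  (nat_lit 0x100010001000001000000000000000000000000000000000000000001010101000101000001000101010000000001010000000000000000, nat_lit 0, [[nat_lit 43, nat_lit 28]], [], []),
  (nat_lit 0x100010001000001000000000000000000000000000000000000000001010101010000010100010001010000000001010000000000000000, nat_lit 0, [[nat_lit 25, nat_lit 5]], [], []),
  (nat_lit 0x1000000000001000101000100000100000001000001000100000000000001000001000000010000000000010000010100000100000000, nat_lit 99, [[nat_lit 134, nat_lit 169, nat_lit 733, nat_lit 859, nat_lit 1485, nat_lit 1511, nat_lit 1586, nat_lit 1597, nat_lit 8254, nat_lit 8289, nat_lit 8853, nat_lit 8979, nat_lit 9605, nat_lit 9631, nat_lit 9706, nat_lit 9717]], [nat_lit 4, nat_lit 36, nat_lit 24, nat_lit 45], [nat_lit 29, nat_lit 35, nat_lit 77, nat_lit 12, nat_lit 14, nat_lit 3, nat_lit 11, nat_lit 4, nat_lit 5, nat_lit 1, nat_lit 2, nat_lit 7])]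

def BK10 : List Ent := [(nat_lit 0x1000000000100000001000000010001000100000000000100000100000000000100000000000101000001010000010100000001000000, nat_lit 99, [[nat_lit 4232, nat_lit 4532, nat_lit 5011, nat_lit 5356, nat_lit 5422, nat_lit 5435, nat_lit 5458, nat_lit 5649, nat_lit 12352, nat_lit 12652, nat_lit 13131, nat_lit 13476, nat_lit 13542, nat_lit 13555, nat_lit 13578, nat_lit 13769]], [nat_lit 45, nat_lit 15, nat_lit 49, nat_lit 3], [nat_lit 21, nat_lit 14, nat_lit 5, nat_lit 44, nat_lit 7, nat_lit 1899, nat_lit 3, nat_lit 4, nat_lit 2, nat_lit 1, nat_lit 10, nat_lit 12]),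
  (nat_lit 0x100000100000000000000010100000000010100000101000100000001000000010000000000000100000001000000010000000001000001, nat_lit 99, [[nat_lit 1944, nat_lit 1999, nat_lit 3008, nat_lit 3012, nat_lit 3013, nat_lit 3076, nat_lit 3077, nat_lit 3079, nat_lit 10064, nat_lit 10119, nat_lit 11128, nat_lit 11132, nat_lit 11133, nat_lit 11196, nat_lit 11197, nat_lit 11199]], [nat_lit 27, nat_lit 44, nat_lit 23, nat_lit 37], [nat_lit 15, nat_lit 9, nat_lit 7, nat_lit 11, nat_lit 3, nat_lit 5, nat_lit 8, nat_lit 4, nat_lit 1, nat_lit 2, nat_lit 1756, nat_lit 1896]),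
  (nat_lit 0x100010000000000000101000000000000000001010000000100000100010100000001000000000100000001000100000100000000010000, nat_lit 99, [[nat_lit 154, nat_lit 486, nat_lit 621, nat_lit 802, nat_lit 874, nat_lit 940, nat_lit 1128, nat_lit 1532, nat_lit 8274, nat_lit 8606, nat_lit 8741, nat_lit 8922, nat_lit 8994, nat_lit 9060, nat_lit 9248, nat_lit 9652]], [nat_lit 53, nat_lit 35, nat_lit 46, nat_lit 10], [nat_lit 6, nat_lit 26, nat_lit 10, nat_lit 34, nat_lit 9, nat_lit 14, nat_lit 5, nat_lit 7, nat_lit 1, nat_lit 4, nat_lit 15, nat_lit 2]),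
  (nat_lit 0x100000100000000000001000001000000010001010001000001000000010000000100000000010000010000010000000100010000000000, nat_lit 99, [[nat_lit 4070, nat_lit 4222, nat_lit 4489, nat_lit 4807, nat_lit 5091, nat_lit 5295, nat_lit 5406, nat_lit 5509, nat_lit 12190, nat_lit 12342, nat_lit 12609, nat_lit 12927, nat_lit 13211, nat_lit 13415, nat_lit 13526, nat_lit 13629]], [nat_lit 5, nat_lit 22, nat_lit 45, nat_lit 35], [nat_lit 56, nat_lit 74, nat_lit 20, nat_lit 5, nat_lit 25, nat_lit 14, nat_lit 7, nat_lit 9, nat_lit 1, nat_lit 4, nat_lit 15, nat_lit 2]),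
  (nat_lit 0x1010001000100010001000001010001010101000000000000000000000000000001010101000000000000000000000000000000000000, nat_lit 0, [[nat_lit 19, nat_lit 1]], [], []),
  (nat_lit 0x100010000010000000001000000010001000000000000000000010001000001000001000000010100010000010100000001000000, nat_lit 99, [[nat_lit 4163, nat_lit 4785, nat_lit 5155, nat_lit 5166, nat_lit 5190, nat_lit 5240, nat_lit 5611, nat_lit 5776, nat_lit 12283, nat_lit 12905, nat_lit 13275, nat_lit 13286, nat_lit 13310, nat_lit 13360, nat_lit 13731, nat_lit 13896]], [nat_lit 7, nat_lit 42, nat_lit 21, nat_lit 50], [nat_lit 8, nat_lit 39, nat_lit 9, nat_lit 11, nat_lit 5, nat_lit 18, nat_lit 3, nat_lit 7, nat_lit 6, nat_lit 1, nat_lit 2, nat_lit 1896]),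
  (nat_lit 0x1010000010100000100010001000001010000010001000100000000000000000101010100000000, nat_lit 0, [[nat_lit 40, nat_lit 17]], [], []),
  (nat_lit 0x1000001000000000100010000000000010100000000000001000000000001000100010001000100000001000001000100000000000001, nat_lit 99, [[nat_lit 2222, nat_lit 2223, nat_lit 2256, nat_lit 2257, nat_lit 3356, nat_lit 3357, nat_lit 3410, nat_lit 3411, nat_lit 10342, nat_lit 10343, nat_lit 10376, nat_lit 10377, nat_lit 11476, nat_lit 11477, nat_lit 11530, nat_lit 11531]], [nat_lit 30, nat_lit 51, nat_lit 37, nat_lit 44], [nat_lit 48, nat_lit 49, nat_lit 19, nat_lit 8, nat_lit 2, nat_lit 10, nat_lit 4, nat_lit 9, nat_lit 3, nat_lit 1, nat_lit 6, nat_lit 1756]),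
  (nat_lit 0x1000100000000010100000000010100010000010001000000010000000001000100000000010000010000000100010000000000, nat_lit 99, [[nat_lit 4399, nat_lit 4407, nat_lit 4648, nat_lit 5191, nat_lit 5204, nat_lit 5296, nat_lit 5342, nat_lit 5559, nat_lit 12519, nat_lit 12527, nat_lit 12768, nat_lit 13311, nat_lit 13324, nat_lit 13416, nat_lit 13462, nat_lit 13679]], [nat_lit 49, nat_lit 5, nat_lit 37, nat_lit 19], [nat_lit 71, nat_lit 1, nat_lit 20, nat_lit 38, nat_lit 39, nat_lit 10, nat_lit 3, nat_lit 2, nat_lit 4, nat_lit 5, nat_lit 6, nat_lit 13]),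
  (nat_lit 0x10000010100010001010000000001010101000001010000000000000000000000010100010001000000000000000000, nat_lit 0, [[nat_lit 41, nat_lit 24]], [], []),
  (nat_lit 0x100000101000100000000000000000000000101000001010000000000000000000000000000000000010001010000010000000001010101, nat_lit 0, [[nat_lit 55, nat_lit 15]], [], []),
  (nat_lit 0x1000001000000010001000000000000000000000100010100000000000100000100010001000100010000000100000100000000000001, nat_lit 99, [[nat_lit 2280, nat_lit 2281, nat_lit 2284, nat_lit 2285, nat_lit 2306, nat_lit 2307, nat_lit 2310, nat_lit 2311, nat_lit 10400, nat_lit 10401, nat_lit 10404, nat_lit 10405, nat_lit 10426, nat_lit 10427, nat_lit 10430, nat_lit 10431]], [nat_lit 51, nat_lit 7, nat_lit 31, nat_lit 16], [nat_lit 2, nat_lit 12, nat_lit 26, nat_lit 18, nat_lit 3, nat_lit 6, nat_lit 9, nat_lit 7, nat_lit 10, nat_lit 4, nat_lit 1, nat_lit 1756]),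
  (nat_lit 0x10101010101010100000000000000000000000000000000000000000000000000000000000000000101010101010101, nat_lit 0, [[nat_lit 23, nat_lit 1]], [], []),
  (nat_lit 0x1000000010000010000000000000100000100000001000000000000010100000000000100010001000000000001000100000100010100, nat_lit 99, [[nat_lit 5986, nat_lit 5987, nat_lit 5988, nat_lit 6001, nat_lit 6002, nat_lit 6003, nat_lit 7054, nat_lit 7067, nat_lit 14106, nat_lit 14107, nat_lit 14108, nat_lit 14121, nat_lit 14122, nat_lit 14123, nat_lit 15174, nat_lit 15187]], [nat_lit 9, nat_lit 1, nat_lit 25, nat_lit 40], [nat_lit 1948, nat_lit 1944, nat_lit 106, nat_lit 16, nat_lit 1954, nat_lit 5820, nat_lit 2, nat_lit 3, nat_lit 4, nat_lit 6, nat_lit 9, nat_lit 1]),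
  (nat_lit 0x1000100000000000000000001000101000000000001000001010000010100000000010000010000000001000100000001000001000000, nat_lit 99, [[nat_lit 4062, nat_lit 4328, nat_lit 4579, nat_lit 4985, nat_lit 5362, nat_lit 5379, nat_lit 5554, nat_lit 5659, nat_lit 12182, nat_lit 12448, nat_lit 12699, nat_lit 13105, nat_lit 13482, nat_lit 13499, nat_lit 13674, nat_lit 13779]], [nat_lit 26, nat_lit 10, nat_lit 33, nat_lit 6], [nat_lit 3, nat_lit 14, nat_lit 6, nat_lit 22, nat_lit 5, nat_lit 7, nat_lit 9, nat_lit 10, nat_lit 13, nat_lit 1, nat_lit 4, nat_lit 1896]),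
  (nat_lit 0x101000001000101010000000001010101000001010000000000000000000000010100010001000000000000000000, nat_lit 0, [[nat_lit 40, nat_lit 17]], [], []),
  (nat_lit 0x1000100010001000000010000010000000100010000000000010000000100000000000100000100010100000000000000010000010000, nat_lit 99, [[nat_lit 321, nat_lit 482, nat_lit 603, nat_lit 677, nat_lit 942, nat_lit 1126, nat_lit 1293, nat_lit 1387, nat_lit 8441, nat_lit 8602, nat_lit 8723, nat_lit 8797, nat_lit 9062, nat_lit 9246, nat_lit 9413, nat_lit 9507]], [nat_lit 54, nat_lit 5, nat_lit 14, nat_lit 29], [nat_lit 47, nat_lit 22, nat_lit 7, nat_lit 11, nat_lit 3, nat_lit 5, nat_lit 2, nat_lit 4, nat_lit 6, nat_lit 8, nat_lit 12, nat_lit 1]),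
  (nat_lit 0x101000000000101000000000000000000000000000000000001010001000100000100010100000101010101000000000000000000000000, nat_lit 0, [[nat_lit 43, nat_lit 28]], [], []),
  (nat_lit 0x101000000000101000000000000000001000100010000010000000000000000000000000000000000000000010101010100000101000100, nat_lit 0, [[nat_lit 14, nat_lit 12]], [], []),
  (nat_lit 0x101000000000101000000000000000001000100010000010000000000000000000000000000000000000000010101010001010000010001, nat_lit 0, [[nat_lit 25, nat_lit 12]], [], []),
  (nat_lit 0x1010000010001000000000000000000000101000001010000000000000000000000000000000000010001010000010000000001010101, nat_lit 0, [[nat_lit 43, nat_lit 3]], [], []),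
  (nat_lit 0x100000001000000000100000101000001000000000000000101000000000101000001010001000000010000000100000000000001, nat_lit 99, [[nat_lit 2294, nat_lit 2295, nat_lit 2296, nat_lit 2297, nat_lit 3452, nat_lit 3453, nat_lit 3458, nat_lit 3459, nat_lit 10414, nat_lit 10415, nat_lit 10416, nat_lit 10417, nat_lit 11572, nat_lit 11573, nat_lit 11578, nat_lit 11579]], [nat_lit 48, nat_lit 17, nat_lit 36, nat_lit 7], [nat_lit 9, nat_lit 3, nat_lit 5, nat_lit 1, nat_lit 6, nat_lit 23, nat_lit 19, nat_lit 2, nat_lit 4, nat_lit 8, nat_lit 10, nat_lit 1756]),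
  (nat_lit 0x100000100010001000100010100000100000000010101010000000000000000000001010101000000000000000000000000000000000000, nat_lit 0, [[nat_lit 55, nat_lit 15]], [], [])]

def BK11 : List Ent := [(nat_lit 0x10000000100000100010000000000010100000000000000010000010000000101000100000100000100000000010100000000000001, nat_lit 99, [[nat_lit 2218, nat_lit 2219, nat_lit 2260, nat_lit 2261, nat_lit 3352, nat_lit 3353, nat_lit 3414, nat_lit 3415, nat_lit 10338, nat_lit 10339, nat_lit 10380, nat_lit 10381, nat_lit 11472, nat_lit 11473, nat_lit 11534, nat_lit 11535]], [nat_lit 22, nat_lit 38, nat_lit 29, nat_lit 8], [nat_lit 25, nat_lit 24, nat_lit 29, nat_lit 5, nat_lit 6, nat_lit 7, nat_lit 3, nat_lit 2, nat_lit 4, nat_lit 8, nat_lit 1, nat_lit 1756]),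
  (nat_lit 0x100000001000000000100000000010001000000000100000001000100000000000000000100010000010000000000010100010001000100, nat_lit 99, [[nat_lit 5947, nat_lit 5948, nat_lit 5949, nat_lit 5954, nat_lit 7001, nat_lit 7014, nat_lit 7015, nat_lit 7016, nat_lit 14067, nat_lit 14068, nat_lit 14069, nat_lit 14074, nat_lit 15121, nat_lit 15134, nat_lit 15135, nat_lit 15136]], [nat_lit 39, nat_lit 14, nat_lit 46, nat_lit 19], [nat_lit 1, nat_lit 7, nat_lit 10, nat_lit 4, nat_lit 13, nat_lit 14, nat_lit 5, nat_lit 9, nat_lit 15, nat_lit 2, nat_lit 1896, nat_lit 5816]),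
  (nat_lit 0x10001000000000001000000010001000100000000000000000001000100010000000000010000010001000100010100000001000000, nat_lit 99, [[nat_lit 4072, nat_lit 4248, nat_lit 4408, nat_lit 4647, nat_lit 4677, nat_lit 4784, nat_lit 4948, nat_lit 4971, nat_lit 12192, nat_lit 12368, nat_lit 12528, nat_lit 12767, nat_lit 12797, nat_lit 12904, nat_lit 13068, nat_lit 13091]], [nat_lit 51, nat_lit 27, nat_lit 41, nat_lit 17], [nat_lit 21, nat_lit 22, nat_lit 2, nat_lit 3, nat_lit 14, nat_lit 5, nat_lit 4, nat_lit 13, nat_lit 1, nat_lit 7, nat_lit 10, nat_lit 1896]),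
  (nat_lit 0x100000100000001000100000001000000000100000000000000010100000000000001000100000100000100000001010000010100, nat_lit 99, [[nat_lit 6571, nat_lit 6572, nat_lit 6573, nat_lit 6574, nat_lit 7777, nat_lit 7778, nat_lit 7779, nat_lit 7780, nat_lit 14691, nat_lit 14692, nat_lit 14693, nat_lit 14694, nat_lit 15897, nat_lit 15898, nat_lit 15899, nat_lit 15900]], [nat_lit 2, nat_lit 43, nat_lit 39, nat_lit 13], [nat_lit 2, nat_lit 19, nat_lit 15, nat_lit 6, nat_lit 11, nat_lit 22, nat_lit 23, nat_lit 3, nat_lit 5, nat_lit 4, nat_lit 1, nat_lit 5816]),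
  (nat_lit 0x10000000100000100010000000000000000010001000100000000000100000101000001010000000100000000010001000000000100, nat_lit 99, [[nat_lit 7414, nat_lit 7415, nat_lit 7418, nat_lit 7419, nat_lit 7468, nat_lit 7469, nat_lit 7472, nat_lit 7473, nat_lit 15534, nat_lit 15535, nat_lit 15538, nat_lit 15539, nat_lit 15588, nat_lit 15589, nat_lit 15592, nat_lit 15593]], [nat_lit 31, nat_lit 46, nat_lit 35, nat_lit 18], [nat_lit 11, nat_lit 24, nat_lit 30, nat_lit 33, nat_lit 7, nat_lit 1, nat_lit 4, nat_lit 2, nat_lit 5, nat_lit 3, nat_lit 12, nat_lit 5816]),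
  (nat_lit 0x10101010000000000000000000000000000000000000001010001000100010001000001010001010101000000000000000000000000, nat_lit 0, [[nat_lit 43, nat_lit 28]], [], []),
  (nat_lit 0x10100010001000100010000010100010101010000000000000000000000000000010101010000, nat_lit 0, [[nat_lit 23, nat_lit 19]], [], []),
  (nat_lit 0x100000000010000000100010000000001000001000000000100000000000100010000010100000101000000010000000000010001000000, nat_lit 99, [[nat_lit 4083, nat_lit 4202, nat_lit 4318, nat_lit 4347, nat_lit 5074, nat_lit 5437, nat_lit 5494, nat_lit 5556, nat_lit 12203, nat_lit 12322, nat_lit 12438, nat_lit 12467, nat_lit 13194, nat_lit 13557, nat_lit 13614, nat_lit 13676]], [nat_lit 36, nat_lit 15, nat_lit 31, nat_lit 20], [nat_lit 29, nat_lit 16, nat_lit 26, nat_lit 15, nat_lit 14, nat_lit 1, nat_lit 4, nat_lit 2, nat_lit 3, nat_lit 6, nat_lit 9, nat_lit 1896]),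
  (nat_lit 0x1000100000000000000000100010000000100000100000001010001000001000100000001000000010000000001000000000100000001, nat_lit 99, [[nat_lit 2076, nat_lit 2081, nat_lit 3154, nat_lit 3155, nat_lit 3158, nat_lit 3159, nat_lit 3200, nat_lit 3201, nat_lit 10196, nat_lit 10201, nat_lit 11274, nat_lit 11275, nat_lit 11278, nat_lit 11279, nat_lit 11320, nat_lit 11321]], [nat_lit 52, nat_lit 37, nat_lit 41, nat_lit 0], [nat_lit 89, nat_lit 9, nat_lit 65, nat_lit 45, nat_lit 20, nat_lit 1763, nat_lit 1, nat_lit 4, nat_lit 7, nat_lit 2, nat_lit 6, nat_lit 5]),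
  (nat_lit 0x10100000101000000000000000100000100000100000101000001000100000001000000010000000001000000010000000100, nat_lit 99, [[nat_lit 6146, nat_lit 6147, nat_lit 7201, nat_lit 7202, nat_lit 7203, nat_lit 7204, nat_lit 7268, nat_lit 7269, nat_lit 14266, nat_lit 14267, nat_lit 15321, nat_lit 15322, nat_lit 15323, nat_lit 15324, nat_lit 15388, nat_lit 15389]], [nat_lit 37, nat_lit 22, nat_lit 9, nat_lit 28], [nat_lit 18, nat_lit 12, nat_lit 6, nat_lit 3, nat_lit 7, nat_lit 23, nat_lit 1, nat_lit 2, nat_lit 5, nat_lit 4, nat_lit 9, nat_lit 5816]),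
  (nat_lit 0x10101010000000000000000000000000000000000000100000100010001000100010100000100000000010101010000000000000000, nat_lit 0, [[nat_lit 31, nat_lit 27]], [], []),
  (nat_lit 0x101000100010000010001010000010101010100000000000000000000000000000101010100000000000000000000, nat_lit 0, [[nat_lit 40, nat_lit 17]], [], []),
  (nat_lit 0x10001000000010000000001000000000000010000010001010000000000000000010100000001000001010000010001000000010000, nat_lit 99, [[nat_lit 69, nat_lit 83, nat_lit 229, nat_lit 528, nat_lit 973, nat_lit 1507, nat_lit 1596, nat_lit 1635, nat_lit 8189, nat_lit 8203, nat_lit 8349, nat_lit 8648, nat_lit 9093, nat_lit 9627, nat_lit 9716, nat_lit 9755]], [nat_lit 35, nat_lit 6, nat_lit 20, nat_lit 12], [nat_lit 6, nat_lit 11, nat_lit 3, nat_lit 35, nat_lit 1, nat_lit 5, nat_lit 17, nat_lit 13, nat_lit 7, nat_lit 9, nat_lit 2, nat_lit 8]),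
  (nat_lit 0x100000101000100000001010101000000000101000001010000000000000000010000010001000100000000000000000000000000000000, nat_lit 0, [[nat_lit 31, nat_lit 18]], [], []),
  (nat_lit 0x1000001000100010001000101000001000000000101010100000000000000000000010101010000, nat_lit 0, [[nat_lit 43, nat_lit 28]], [], []),
  (nat_lit 0x101000000010000010100000100000001000001000001000000000100000001000000010000000000010000010000000000010001, nat_lit 99, [[nat_lit 1858, nat_lit 1859, nat_lit 2829, nat_lit 2830, nat_lit 2831, nat_lit 2832, nat_lit 2896, nat_lit 2897, nat_lit 9978, nat_lit 9979, nat_lit 10949, nat_lit 10950, nat_lit 10951, nat_lit 10952, nat_lit 11016, nat_lit 11017]], [nat_lit 44, nat_lit 8, nat_lit 33, nat_lit 17], [nat_lit 9, nat_lit 10, nat_lit 6, nat_lit 3, nat_lit 7, nat_lit 2, nat_lit 5, nat_lit 14, nat_lit 13, nat_lit 1, nat_lit 4, nat_lit 1756]),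
  (nat_lit 0x1000100000000000000000001000100000100000100000001010001000001010000000100000000000001000100000100000000010000, nat_lit 99, [[nat_lit 209, nat_lit 237, nat_lit 405, nat_lit 808, nat_lit 1273, nat_lit 1323, nat_lit 1430, nat_lit 1708, nat_lit 8329, nat_lit 8357, nat_lit 8525, nat_lit 8928, nat_lit 9393, nat_lit 9443, nat_lit 9550, nat_lit 9828]], [nat_lit 10, nat_lit 24, nat_lit 40, nat_lit 2], [nat_lit 6, nat_lit 12, nat_lit 16, nat_lit 14, nat_lit 17, nat_lit 18, nat_lit 2, nat_lit 3, nat_lit 4, nat_lit 5, nat_lit 7, nat_lit 1]),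
  (nat_lit 0x100000000010000000000000100000100000000000100010000010000010000010001000100010000010000000100000001000000000100, nat_lit 99, [[nat_lit 7435, nat_lit 7436, nat_lit 7437, nat_lit 7438, nat_lit 7449, nat_lit 7450, nat_lit 7451, nat_lit 7452, nat_lit 15555, nat_lit 15556, nat_lit 15557, nat_lit 15558, nat_lit 15569, nat_lit 15570, nat_lit 15571, nat_lit 15572]], [nat_lit 1, nat_lit 26, nat_lit 14, nat_lit 55], [nat_lit 55, nat_lit 11, nat_lit 3, nat_lit 17, nat_lit 9, nat_lit 23, nat_lit 1, nat_lit 5816, nat_lit 2, nat_lit 6, nat_lit 5, nat_lit 4]),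
  (nat_lit 0x10000010000010000010100000100000100000000010100000000000001000000010000000100000000000101000000000001000100, nat_lit 99, [[nat_lit 6742, nat_lit 6743, nat_lit 6787, nat_lit 6788, nat_lit 8004, nat_lit 8005, nat_lit 8063, nat_lit 8064, nat_lit 14862, nat_lit 14863, nat_lit 14907, nat_lit 14908, nat_lit 16124, nat_lit 16125, nat_lit 16183, nat_lit 16184]], [nat_lit 3, nat_lit 20, nat_lit 9, nat_lit 53], [nat_lit 5, nat_lit 14, nat_lit 15, nat_lit 24, nat_lit 25, nat_lit 1896, nat_lit 2, nat_lit 4, nat_lit 6, nat_lit 3, nat_lit 1, nat_lit 5816]),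
  (nat_lit 0x100010001000001000000000000000000000000000000000000000001010101000101000001000100000101010100000000000000000000, nat_lit 0, [[nat_lit 32, nat_lit 30]], [], []),
  (nat_lit 0x1000001000101000000000000000100000100000001000100010001000000010000010000000100010000000000010000000100, nat_lit 99, [[nat_lit 6106, nat_lit 6107, nat_lit 6126, nat_lit 6133, nat_lit 7230, nat_lit 7231, nat_lit 7250, nat_lit 7257, nat_lit 14226, nat_lit 14227, nat_lit 14246, nat_lit 14253, nat_lit 15350, nat_lit 15351, nat_lit 15370, nat_lit 15377]], [nat_lit 24, nat_lit 13, nat_lit 45, nat_lit 1], [nat_lit 7, nat_lit 3, nat_lit 2, nat_lit 11, nat_lit 4, nat_lit 5, nat_lit 8, nat_lit 5817, nat_lit 9, nat_lit 1, nat_lit 6, nat_lit 13]),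
  (nat_lit 0x100010001000001000000000000000000000000000000000000000001010101010000010100010000000101010100000000000000000000, nat_lit 0, [[nat_lit 32, nat_lit 30]], [], []),
  (nat_lit 0x1010000010001000001010101000000000101000001010000000000000000010000010001000100000000000000000000000000000000, nat_lit 0, [[nat_lit 31, nat_lit 18]], [], []),
  (nat_lit 0x1000001000000000001000100000100000100000001000100010001000100000001000000010000000001000100000000010000, nat_lit 99, [[nat_lit 669, nat_lit 718, nat_lit 820, nat_lit 957, nat_lit 1383, nat_lit 1528, nat_lit 1546, nat_lit 1639, nat_lit 8789, nat_lit 8838, nat_lit 8940, nat_lit 9077, nat_lit 9503, nat_lit 9648, nat_lit 9666, nat_lit 9759]], [nat_lit 51, nat_lit 30, nat_lit 34, nat_lit 40], [nat_lit 10, nat_lit 26, nat_lit 20, nat_lit 31, nat_lit 27, nat_lit 4, nat_lit 11, nat_lit 8, nat_lit 2, nat_lit 5, nat_lit 1, nat_lit 3])]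

def BK12 : List Ent := [(nat_lit 0x100010000010100010101010000000000000000000000000000010101010000000000000000000000000000000000000100000100010001, nat_lit 0, [[nat_lit 23, nat_lit 1]], [], []),
  (nat_lit 0x10101010000000001000001010001000000010101010000000000000000000001000100010000010000000000000000, nat_lit 0, [[nat_lit 41, nat_lit 24]], [], []),
  (nat_lit 0x100000100000000010000000000010000010100000101000100000001000000000001000100000001000000000100000001000100000000, nat_lit 99, [[nat_lit 124, nat_lit 225, nat_lit 335, nat_lit 380, nat_lit 789, nat_lit 793, nat_lit 1054, nat_lit 1694, nat_lit 8244, nat_lit 8345, nat_lit 8455, nat_lit 8500, nat_lit 8909, nat_lit 8913, nat_lit 9174, nat_lit 9814]], [nat_lit 37, nat_lit 31, nat_lit 4, nat_lit 41], [nat_lit 9, nat_lit 15, nat_lit 11, nat_lit 24, nat_lit 34, nat_lit 13, nat_lit 16, nat_lit 3, nat_lit 17, nat_lit 1, nat_lit 4, nat_lit 8]),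
  (nat_lit 0x1000000000100000100000100000001000100000000000100000100000000000001000001000000010001010001000001000000010000, nat_lit 99, [[nat_lit 95, nat_lit 101, nat_lit 256, nat_lit 822, nat_lit 855, nat_lit 944, nat_lit 1327, nat_lit 1736, nat_lit 8215, nat_lit 8221, nat_lit 8376, nat_lit 8942, nat_lit 8975, nat_lit 9064, nat_lit 9447, nat_lit 9856]], [nat_lit 2, nat_lit 12, nat_lit 46, nat_lit 37], [nat_lit 31, nat_lit 27, nat_lit 17, nat_lit 33, nat_lit 6, nat_lit 12, nat_lit 21, nat_lit 1, nat_lit 2, nat_lit 3, nat_lit 4, nat_lit 10]),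
  (nat_lit 0x100010000010000000001000001000100000000000001010000000000000000010100000000010100010000010000010000000001, nat_lit 99, [[nat_lit 2096, nat_lit 2097, nat_lit 2098, nat_lit 2145, nat_lit 3216, nat_lit 3275, nat_lit 3276, nat_lit 3277, nat_lit 10216, nat_lit 10217, nat_lit 10218, nat_lit 10265, nat_lit 11336, nat_lit 11395, nat_lit 11396, nat_lit 11397]], [nat_lit 13, nat_lit 52, nat_lit 0, nat_lit 30], [nat_lit 2, nat_lit 4, nat_lit 5, nat_lit 12, nat_lit 6, nat_lit 13, nat_lit 24, nat_lit 1756, nat_lit 3, nat_lit 1, nat_lit 9, nat_lit 10]),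
  (nat_lit 0x1000000010000000000010001000000000100000001000000000000010100010000010000000000010000000000010100010000010001, nat_lit 99, [[nat_lit 1866, nat_lit 1877, nat_lit 1878, nat_lit 1879, nat_lit 2910, nat_lit 2911, nat_lit 2912, nat_lit 2927, nat_lit 9986, nat_lit 9997, nat_lit 9998, nat_lit 9999, nat_lit 11030, nat_lit 11031, nat_lit 11032, nat_lit 11047]], [nat_lit 25, nat_lit 44, nat_lit 14, nat_lit 23], [nat_lit 4, nat_lit 10, nat_lit 1, nat_lit 2, nat_lit 5, nat_lit 11, nat_lit 3, nat_lit 7, nat_lit 12, nat_lit 6, nat_lit 9, nat_lit 1756]),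
  (nat_lit 0x100010001000100010000000100000000010000000001000100000000010000000100010000000000000000010001000001000000000001, nat_lit 99, [[nat_lit 2336, nat_lit 2380, nat_lit 3498, nat_lit 3499, nat_lit 3500, nat_lit 3542, nat_lit 3543, nat_lit 3544, nat_lit 10456, nat_lit 10500, nat_lit 11618, nat_lit 11619, nat_lit 11620, nat_lit 11662, nat_lit 11663, nat_lit 11664]], [nat_lit 51, nat_lit 31, nat_lit 0, nat_lit 11], [nat_lit 15, nat_lit 41, nat_lit 8, nat_lit 11, nat_lit 9, nat_lit 24, nat_lit 13, nat_lit 1756, nat_lit 4, nat_lit 1, nat_lit 2, nat_lit 3]),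
  (nat_lit 0x1000001000000000000000001010000000000010001000000000101000000000100010001000101000000010000000100000000000001, nat_lit 99, [[nat_lit 3375, nat_lit 3376, nat_lit 3377, nat_lit 3378, nat_lit 3389, nat_lit 3390, nat_lit 3391, nat_lit 3392, nat_lit 11495, nat_lit 11496, nat_lit 11497, nat_lit 11498, nat_lit 11509, nat_lit 11510, nat_lit 11511, nat_lit 11512]], [nat_lit 28, nat_lit 15, nat_lit 7, nat_lit 35], [nat_lit 18, nat_lit 30, nat_lit 31, nat_lit 29, nat_lit 33, nat_lit 6, nat_lit 3, nat_lit 5, nat_lit 11, nat_lit 8, nat_lit 2, nat_lit 1756]),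
  (nat_lit 0x1000100000000010000010000000001000000000001000100000101000001010000000100000000000100010000000100000000010000, nat_lit 99, [[nat_lit 81, nat_lit 230, nat_lit 559, nat_lit 836, nat_lit 999, nat_lit 1129, nat_lit 1215, nat_lit 1491, nat_lit 8201, nat_lit 8350, nat_lit 8679, nat_lit 8956, nat_lit 9119, nat_lit 9249, nat_lit 9335, nat_lit 9611]], [nat_lit 47, nat_lit 11, nat_lit 54, nat_lit 2], [nat_lit 7, nat_lit 63, nat_lit 29, nat_lit 5, nat_lit 6, nat_lit 9, nat_lit 12, nat_lit 14, nat_lit 1, nat_lit 4, nat_lit 3, nat_lit 2]),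
  (nat_lit 0x10100010001000001000101000001010101010000000000000000000000000101000000000101, nat_lit 0, [[nat_lit 40, nat_lit 17]], [], []),
  (nat_lit 0x101010101010101010101010101010100000000000000000000000000000000, nat_lit 0, [[nat_lit 1896, nat_lit 1757]], [], []),
  (nat_lit 0x10101010000000000010100000100010000010101010000000000000000000001000100010000010000000000000000, nat_lit 0, [[nat_lit 23, nat_lit 1]], [], []),
  (nat_lit 0x100010000010000000001000000000000010000010000000001000100000100000000000101000001000101000001000000010000, nat_lit 99, [[nat_lit 522, nat_lit 743, nat_lit 858, nat_lit 1070, nat_lit 1115, nat_lit 1205, nat_lit 1483, nat_lit 1571, nat_lit 8642, nat_lit 8863, nat_lit 8978, nat_lit 9190, nat_lit 9235, nat_lit 9325, nat_lit 9603, nat_lit 9691]], [nat_lit 9, nat_lit 25, nat_lit 35, nat_lit 22], [nat_lit 49, nat_lit 6, nat_lit 30, nat_lit 5, nat_lit 14, nat_lit 15, nat_lit 18, nat_lit 3, nat_lit 8, nat_lit 2, nat_lit 7, nat_lit 1]),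
  (nat_lit 0x100000001000000000001000100000000000001000000010000000001000001000101000000000001000000000001000001000101000100, nat_lit 99, [[nat_lit 5926, nat_lit 5937, nat_lit 5938, nat_lit 5939, nat_lit 6970, nat_lit 6971, nat_lit 6972, nat_lit 6987, nat_lit 14046, nat_lit 14057, nat_lit 14058, nat_lit 14059, nat_lit 15090, nat_lit 15091, nat_lit 15092, nat_lit 15107]], [nat_lit 43, nat_lit 21, nat_lit 3, nat_lit 32], [nat_lit 262, nat_lit 17, nat_lit 39, nat_lit 16, nat_lit 20, nat_lit 1896, nat_lit 1, nat_lit 4, nat_lit 6, nat_lit 2, nat_lit 8, nat_lit 5816]),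
  (nat_lit 0x100010001010001000001000100010001000101000001000000000000000000010100000100010000000000000000, nat_lit 99, [[nat_lit 59, nat_lit 165, nat_lit 349, nat_lit 377, nat_lit 379, nat_lit 590, nat_lit 698, nat_lit 712, nat_lit 821, nat_lit 918, nat_lit 998, nat_lit 1083, nat_lit 1134, nat_lit 1146, nat_lit 1480, nat_lit 1722, nat_lit 8179, nat_lit 8285, nat_lit 8469, nat_lit 8497, nat_lit 8499, nat_lit 8710, nat_lit 8818, nat_lit 8832, nat_lit 8941, nat_lit 9038, nat_lit 9118, nat_lit 9203, nat_lit 9254, nat_lit 9266, nat_lit 9600, nat_lit 9842]], [nat_lit 39, nat_lit 36, nat_lit 14, nat_lit 28, nat_lit 24], [nat_lit 49, nat_lit 6, nat_lit 18, nat_lit 23, nat_lit 30, nat_lit 15, nat_lit 17, nat_lit 3, nat_lit 2, nat_lit 4, nat_lit 7]),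
  (nat_lit 0x100010001010001000001000100010001000101000001000000000000000001000001010001000000000000000000, nat_lit 0, [[nat_lit 40, nat_lit 17]], [], []),
  (nat_lit 0x100010000000000000101000000000000010000000000010100000101000001000100000001000000000001000100000001000001000000, nat_lit 99, [[nat_lit 4256, nat_lit 4480, nat_lit 4754, nat_lit 4854, nat_lit 4894, nat_lit 5375, nat_lit 5560, nat_lit 5792, nat_lit 12376, nat_lit 12600, nat_lit 12874, nat_lit 12974, nat_lit 13014, nat_lit 13495, nat_lit 13680, nat_lit 13912]], [nat_lit 46, nat_lit 24, nat_lit 6, nat_lit 38], [nat_lit 6, nat_lit 12, nat_lit 17, nat_lit 20, nat_lit 5, nat_lit 3, nat_lit 14, nat_lit 4, nat_lit 7, nat_lit 1, nat_lit 2, nat_lit 1896]),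
  (nat_lit 0x1000000010000010000000000000100010000010000000100010000000000000000000001000101000000000001000100010001000100, nat_lit 99, [[nat_lit 5946, nat_lit 5955, nat_lit 6998, nat_lit 6999, nat_lit 7000, nat_lit 7017, nat_lit 7018, nat_lit 7019, nat_lit 14066, nat_lit 14075, nat_lit 15118, nat_lit 15119, nat_lit 15120, nat_lit 15137, nat_lit 15138, nat_lit 15139]], [nat_lit 47, nat_lit 16, nat_lit 15, nat_lit 29], [nat_lit 14, nat_lit 28, nat_lit 3, nat_lit 5, nat_lit 7, nat_lit 8, nat_lit 4, nat_lit 1, nat_lit 6, nat_lit 9, nat_lit 1896, nat_lit 5816]),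
  (nat_lit 0x10001000100000100000000000000000000000000000000000000000101010100010100000100010101000000000101, nat_lit 0, [[nat_lit 37, nat_lit 24]], [], []),
  (nat_lit 0x10001000100000100000000000000000000000000000000000000000101010101000001010001000101000000000101, nat_lit 0, [[nat_lit 17, nat_lit 9]], [], []),
  (nat_lit 0x101010101010101000000000000000000000000000000000000000000000000000000000000000000000000000000000101010101010101, nat_lit 0, [[nat_lit 25, nat_lit 12]], [], []),
  (nat_lit 0x1000101000001000000000000000001000001010001000000000000000000000000000000000001000100010000010001010001000100, nat_lit 0, [[nat_lit 43, nat_lit 28]], [], []),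
  (nat_lit 0x1000001000101000000000000000100000100000100010001000100000000010000010000000100010000000000010000000100, nat_lit 99, [[nat_lit 6518, nat_lit 6519, nat_lit 6536, nat_lit 6545, nat_lit 7716, nat_lit 7717, nat_lit 7736, nat_lit 7741, nat_lit 14638, nat_lit 14639, nat_lit 14656, nat_lit 14665, nat_lit 15836, nat_lit 15837, nat_lit 15856, nat_lit 15861]], [nat_lit 13, nat_lit 37, nat_lit 5, nat_lit 31], [nat_lit 9, nat_lit 12, nat_lit 2, nat_lit 10, nat_lit 8, nat_lit 4, nat_lit 19, nat_lit 1, nat_lit 5, nat_lit 6, nat_lit 13, nat_lit 5816]),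
  (nat_lit 0x10000000001000001000100000000010000010000000000000001000001000101000000000000010000000000010100000100010100, nat_lit 99, [[nat_lit 6581, nat_lit 6588, nat_lit 7791, nat_lit 7792, nat_lit 7793, nat_lit 7804, nat_lit 7805, nat_lit 7806, nat_lit 14701, nat_lit 14708, nat_lit 15911, nat_lit 15912, nat_lit 15913, nat_lit 15924, nat_lit 15925, nat_lit 15926]], [nat_lit 1, nat_lit 14, nat_lit 38, nat_lit 21], [nat_lit 2093, nat_lit 99, nat_lit 65, nat_lit 5817, nat_lit 3, nat_lit 4, nat_lit 9, nat_lit 5, nat_lit 1, nat_lit 7, nat_lit 6, nat_lit 2]),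
  (nat_lit 0x1000101000001000000000000000000010100000100010000000000000000000000000000000001000100010000010001010001000100, nat_lit 99, [[nat_lit 5838, nat_lit 5839, nat_lit 5942, nat_lit 5943, nat_lit 6703, nat_lit 6704, nat_lit 6833, nat_lit 6834, nat_lit 6856, nat_lit 6857, nat_lit 6992, nat_lit 6993, nat_lit 7943, nat_lit 7944, nat_lit 8117, nat_lit 8118, nat_lit 13958, nat_lit 13959, nat_lit 14062, nat_lit 14063, nat_lit 14823, nat_lit 14824, nat_lit 14953, nat_lit 14954, nat_lit 14976, nat_lit 14977, nat_lit 15112, nat_lit 15113, nat_lit 16063, nat_lit 16064, nat_lit 16237, nat_lit 16238]], [nat_lit 32, nat_lit 38, nat_lit 37, nat_lit 51, nat_lit 1], [nat_lit 23, nat_lit 13, nat_lit 20, nat_lit 1, nat_lit 5858, nat_lit 1896, nat_lit 7, nat_lit 4, nat_lit 2, nat_lit 8, nat_lit 9]),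
  (nat_lit 0x1000001000000000001000100000100000100000100010001000100000100000001000000010000000001000100000000010000, nat_lit 99, [[nat_lit 451, nat_lit 509, nat_lit 600, nat_lit 601, nat_lit 869, nat_lit 1382, nat_lit 1498, nat_lit 1698, nat_lit 8571, nat_lit 8629, nat_lit 8720, nat_lit 8721, nat_lit 8989, nat_lit 9502, nat_lit 9618, nat_lit 9818]], [nat_lit 34, nat_lit 25, nat_lit 51, nat_lit 14], [nat_lit 4, nat_lit 43, nat_lit 28, nat_lit 31, nat_lit 18, nat_lit 3, nat_lit 7, nat_lit 5, nat_lit 6, nat_lit 11, nat_lit 2, nat_lit 1]),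
  (nat_lit 0x1000100010001000001000000000100000100010000000000010000000100000100010000000001000001000000000001000000000001, nat_lit 99, [[nat_lit 2169, nat_lit 2170, nat_lit 2171, nat_lit 2189, nat_lit 3305, nat_lit 3325, nat_lit 3326, nat_lit 3327, nat_lit 10289, nat_lit 10290, nat_lit 10291, nat_lit 10309, nat_lit 11425, nat_lit 11445, nat_lit 11446, nat_lit 11447]], [nat_lit 22, nat_lit 35, nat_lit 48, nat_lit 29], [nat_lit 15, nat_lit 11, nat_lit 29, nat_lit 5, nat_lit 22, nat_lit 6, nat_lit 9, nat_lit 10, nat_lit 13, nat_lit 1, nat_lit 4, nat_lit 1756]),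
  (nat_lit 0x10001000100000000000100010001010001000000010000000001000001000100000000000001000000010000000000010100, nat_lit 99, [[nat_lit 6010, nat_lit 6045, nat_lit 7088, nat_lit 7089, nat_lit 7090, nat_lit 7125, nat_lit 7126, nat_lit 7127, nat_lit 14130, nat_lit 14165, nat_lit 15208, nat_lit 15209, nat_lit 15210, nat_lit 15245, nat_lit 15246, nat_lit 15247]], [nat_lit 48, nat_lit 29, nat_lit 2, nat_lit 19], [nat_lit 75, nat_lit 79, nat_lit 47, nat_lit 1, nat_lit 2, nat_lit 5, nat_lit 3, nat_lit 4, nat_lit 8, nat_lit 7, nat_lit 6, nat_lit 5816]),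
  (nat_lit 0x1000000000001010001000001000100000100000000010000010001000000000000010000000100000000000101000000000000010001, nat_lit 99, [[nat_lit 2686, nat_lit 2687, nat_lit 2720, nat_lit 2725, nat_lit 3948, nat_lit 3949, nat_lit 4000, nat_lit 4001, nat_lit 10806, nat_lit 10807, nat_lit 10840, nat_lit 10845, nat_lit 12068, nat_lit 12069, nat_lit 12120, nat_lit 12121]], [nat_lit 29, nat_lit 2, nat_lit 37, nat_lit 45], [nat_lit 55, nat_lit 15, nat_lit 11, nat_lit 21, nat_lit 8, nat_lit 2, nat_lit 4, nat_lit 9, nat_lit 5, nat_lit 1, nat_lit 6, nat_lit 1756])]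

def BK13 : List Ent := [(nat_lit 0x1000000010000000000010001000000010000010000000100010000000000000101000000000000010000000000010100000101000001, nat_lit 99, [[nat_lit 2620, nat_lit 2621, nat_lit 2622, nat_lit 2633, nat_lit 3852, nat_lit 3867, nat_lit 3868, nat_lit 3869, nat_lit 10740, nat_lit 10741, nat_lit 10742, nat_lit 10753, nat_lit 11972, nat_lit 11987, nat_lit 11988, nat_lit 11989]], [nat_lit 29, nat_lit 38, nat_lit 8, nat_lit 50], [nat_lit 33, nat_lit 42, nat_lit 4, nat_lit 5, nat_lit 1, nat_lit 2, nat_lit 8, nat_lit 3, nat_lit 6, nat_lit 12, nat_lit 1756, nat_lit 1896]),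
  (nat_lit 0x100010000010100000000000000000001000001010001000000000000000000000000000000000000010001000101000100000100010001, nat_lit 99, [[nat_lit 1778, nat_lit 1779, nat_lit 1882, nat_lit 1883, nat_lit 2643, nat_lit 2644, nat_lit 2773, nat_lit 2774, nat_lit 2796, nat_lit 2797, nat_lit 2932, nat_lit 2933, nat_lit 3883, nat_lit 3884, nat_lit 4057, nat_lit 4058, nat_lit 9898, nat_lit 9899, nat_lit 10002, nat_lit 10003, nat_lit 10763, nat_lit 10764, nat_lit 10893, nat_lit 10894, nat_lit 10916, nat_lit 10917, nat_lit 11052, nat_lit 11053, nat_lit 12003, nat_lit 12004, nat_lit 12177, nat_lit 12178]], [nat_lit 0, nat_lit 4, nat_lit 39, nat_lit 50, nat_lit 36], [nat_lit 33, nat_lit 60, nat_lit 1, nat_lit 19, nat_lit 1756, nat_lit 4, nat_lit 2, nat_lit 10, nat_lit 14, nat_lit 3, nat_lit 6]),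
  (nat_lit 0x101010100000101000001010000010001000100000100000000000000000100010000010100, nat_lit 0, [[nat_lit 40, nat_lit 17]], [], []),
  (nat_lit 0x100000001000000000001000100000000000100000001000100010000000000000000000100010001000000000001000001000100010001, nat_lit 99, [[nat_lit 1757, nat_lit 1758, nat_lit 1759, nat_lit 1768, nat_lit 1769, nat_lit 1770, nat_lit 2783, nat_lit 2792, nat_lit 9877, nat_lit 9878, nat_lit 9879, nat_lit 9888, nat_lit 9889, nat_lit 9890, nat_lit 10903, nat_lit 10912]], [nat_lit 31, nat_lit 17, nat_lit 45, nat_lit 55], [nat_lit 39, nat_lit 2, nat_lit 7, nat_lit 4, nat_lit 9, nat_lit 8, nat_lit 11, nat_lit 12, nat_lit 1, nat_lit 3, nat_lit 13, nat_lit 1756]),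
  (nat_lit 0x1000000000100000001000000010000010001000000000000000001000100010000000000010001000001010000010000010000000001, nat_lit 99, [[nat_lit 2099, nat_lit 2100, nat_lit 2101, nat_lit 2144, nat_lit 3217, nat_lit 3272, nat_lit 3273, nat_lit 3274, nat_lit 10219, nat_lit 10220, nat_lit 10221, nat_lit 10264, nat_lit 11337, nat_lit 11392, nat_lit 11393, nat_lit 11394]], [nat_lit 41, nat_lit 17, nat_lit 15, nat_lit 38], [nat_lit 6, nat_lit 12, nat_lit 2, nat_lit 14, nat_lit 19, nat_lit 8, nat_lit 17, nat_lit 21, nat_lit 1, nat_lit 3, nat_lit 4, nat_lit 1756]),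
  (nat_lit 0x101000001010000000100010001010000010100010001000000000000000000010101010000000000000000000000000000000000000000, nat_lit 0, [[nat_lit 55, nat_lit 15]], [], []),
  (nat_lit 0x1010001000100000000000000000000000000000000000100000101000100000001010101000001010000010100000000000000000000, nat_lit 0, [[nat_lit 7, nat_lit 5]], [], []),
  (nat_lit 0x1010000010100000100010001000001000101000100010000000000000000000000000001010101, nat_lit 0, [[nat_lit 22, nat_lit 12]], [], []),
  (nat_lit 0x100010000010000000001000000010001000000000000000000010001000001000001000001000001000101000100000001000000, nat_lit 99, [[nat_lit 4102, nat_lit 4233, nat_lit 4597, nat_lit 4708, nat_lit 4744, nat_lit 5141, nat_lit 5210, nat_lit 5327, nat_lit 12222, nat_lit 12353, nat_lit 12717, nat_lit 12828, nat_lit 12864, nat_lit 13261, nat_lit 13330, nat_lit 13447]], [nat_lit 47, nat_lit 50, nat_lit 21, nat_lit 12], [nat_lit 13, nat_lit 19, nat_lit 1, nat_lit 4, nat_lit 20, nat_lit 5, nat_lit 6, nat_lit 2, nat_lit 9, nat_lit 3, nat_lit 8, nat_lit 1896]),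
  (nat_lit 0x1000100010100000000000000000000000000000000000000000001010101000101000001000101010000000001010000000000000000, nat_lit 0, [[nat_lit 67, nat_lit 25]], [], []),
  (nat_lit 0x100000000010000010001000000000000000000010001000001000000000001000101000001010000000100000000010000010001000000, nat_lit 99, [[nat_lit 4073, nat_lit 4096, nat_lit 4652, nat_lit 4890, nat_lit 5260, nat_lit 5414, nat_lit 5426, nat_lit 5665, nat_lit 12193, nat_lit 12216, nat_lit 12772, nat_lit 13010, nat_lit 13380, nat_lit 13534, nat_lit 13546, nat_lit 13785]], [nat_lit 50, nat_lit 18, nat_lit 30, nat_lit 33], [nat_lit 33, nat_lit 42, nat_lit 28, nat_lit 3, nat_lit 8, nat_lit 2, nat_lit 5, nat_lit 1, nat_lit 6, nat_lit 9, nat_lit 12, nat_lit 1896]),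
  (nat_lit 0x100010000000001000000010000010001000000000000000000010001000000010100000001000100000100010000010000000001, nat_lit 99, [[nat_lit 2389, nat_lit 2390, nat_lit 2391, nat_lit 2440, nat_lit 3559, nat_lit 3624, nat_lit 3625, nat_lit 3626, nat_lit 10509, nat_lit 10510, nat_lit 10511, nat_lit 10560, nat_lit 11679, nat_lit 11744, nat_lit 11745, nat_lit 11746]], [nat_lit 36, nat_lit 0, nat_lit 45, nat_lit 15], [nat_lit 4, nat_lit 8, nat_lit 10, nat_lit 11, nat_lit 3, nat_lit 5, nat_lit 2, nat_lit 1756, nat_lit 6, nat_lit 9, nat_lit 12, nat_lit 1]),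
  (nat_lit 0x1000100010100000000000000000000000000000000000000000001010101010000010100010001010000000001010000000000000000, nat_lit 0, [[nat_lit 43, nat_lit 28]], [], []),
  (nat_lit 0x1010001000100000000000000000000000000000000000001010000010001000001010101000001010000010100000000000000000000, nat_lit 0, [[nat_lit 43, nat_lit 28]], [], []),
  (nat_lit 0x100010000010100000000000000000000010100000100010000000000000000000000000000000000010001000101000100000100010001, nat_lit 0, [[nat_lit 43, nat_lit 28]], [], []),
  (nat_lit 0x1010101010101010000000000000000000000000000000001010101010101010000000000000000, nat_lit 0, [[nat_lit 1896, nat_lit 1886]], [], []),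
  (nat_lit 0x100000000000100010001000100010000000100000000010001000000000100010000000001000001000100000000000100000100000000, nat_lit 99, [[nat_lit 426, nat_lit 430, nat_lit 792, nat_lit 845, nat_lit 1029, nat_lit 1101, nat_lit 1529, nat_lit 1647, nat_lit 8546, nat_lit 8550, nat_lit 8912, nat_lit 8965, nat_lit 9149, nat_lit 9221, nat_lit 9649, nat_lit 9767]], [nat_lit 30, nat_lit 47, nat_lit 15, nat_lit 18], [nat_lit 12, nat_lit 69, nat_lit 7, nat_lit 33, nat_lit 6, nat_lit 18, nat_lit 15, nat_lit 5, nat_lit 2, nat_lit 3, nat_lit 4, nat_lit 1]),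
  (nat_lit 0x101000000010000010001010000000100000000010000000100010000010000000001000001000100000000000001010000000000, nat_lit 99, [[nat_lit 4087, nat_lit 4208, nat_lit 4810, nat_lit 4888, nat_lit 4930, nat_lit 4937, nat_lit 5616, nat_lit 5623, nat_lit 12207, nat_lit 12328, nat_lit 12930, nat_lit 13008, nat_lit 13050, nat_lit 13057, nat_lit 13736, nat_lit 13743]], [nat_lit 26, nat_lit 41, nat_lit 18, nat_lit 32], [nat_lit 30, nat_lit 2, nat_lit 5, nat_lit 4, nat_lit 6, nat_lit 11, nat_lit 3, nat_lit 13, nat_lit 14, nat_lit 8, nat_lit 1, nat_lit 9]),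
  (nat_lit 0x100000000010000000000000001010000000000000100010000010000010000000101000001010000000001000001000000010001000000, nat_lit 99, [[nat_lit 4331, nat_lit 4461, nat_lit 4763, nat_lit 4787, nat_lit 4920, nat_lit 5015, nat_lit 5201, nat_lit 5456, nat_lit 12451, nat_lit 12581, nat_lit 12883, nat_lit 12907, nat_lit 13040, nat_lit 13135, nat_lit 13321, nat_lit 13576]], [nat_lit 12, nat_lit 17, nat_lit 29, nat_lit 32], [nat_lit 4, nat_lit 13, nat_lit 1, nat_lit 16, nat_lit 14, nat_lit 2, nat_lit 5, nat_lit 3, nat_lit 6, nat_lit 9, nat_lit 12, nat_lit 1896]),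
  (nat_lit 0x1010000010100000000010000010001000000000000010000000100000001010001000000000000000000000100010001000000000001, nat_lit 99, [[nat_lit 2326, nat_lit 2384, nat_lit 2385, nat_lit 2386, nat_lit 3492, nat_lit 3493, nat_lit 3494, nat_lit 3554, nat_lit 10446, nat_lit 10504, nat_lit 10505, nat_lit 10506, nat_lit 11612, nat_lit 11613, nat_lit 11614, nat_lit 11674]], [nat_lit 8, nat_lit 28, nat_lit 44, nat_lit 6], [nat_lit 15, nat_lit 6, nat_lit 19, nat_lit 1, nat_lit 8, nat_lit 14, nat_lit 2, nat_lit 4, nat_lit 23, nat_lit 3, nat_lit 10, nat_lit 1756]),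
  (nat_lit 0x10001010000010000000001010101000101000001000100000000000000000101000001010000, nat_lit 0, [[nat_lit 40, nat_lit 17]], [], []),
  (nat_lit 0x10001010000010000000001010101010000010100010000000000000000000101000001010000, nat_lit 0, [[nat_lit 25, nat_lit 5]], [], []),
  (nat_lit 0x1000100000000010100000001000001010000010000010000000001000000010001000000010000010000000000000001000001, nat_lit 99, [[nat_lit 2554, nat_lit 2555, nat_lit 2556, nat_lit 2567, nat_lit 2568, nat_lit 2569, nat_lit 3792, nat_lit 3803, nat_lit 10674, nat_lit 10675, nat_lit 10676, nat_lit 10687, nat_lit 10688, nat_lit 10689, nat_lit 11912, nat_lit 11923]], [nat_lit 39, nat_lit 14, nat_lit 29, nat_lit 49], [nat_lit 5, nat_lit 11, nat_lit 9, nat_lit 3, nat_lit 17, nat_lit 18, nat_lit 10, nat_lit 4, nat_lit 2, nat_lit 6, nat_lit 1756, nat_lit 1896]),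
  (nat_lit 0x101000001010000010001000100000100000000000000000100010000010100000000000000000000000000000000000000010101010000, nat_lit 0, [[nat_lit 68, nat_lit 34]], [], []),
  (nat_lit 0x10000000100000000000100000101000001000000000001000000000001010000010001010000000001000001000100000000000001, nat_lit 99, [[nat_lit 2225, nat_lit 2226, nat_lit 2253, nat_lit 2254, nat_lit 3361, nat_lit 3362, nat_lit 3405, nat_lit 3406, nat_lit 10345, nat_lit 10346, nat_lit 10373, nat_lit 10374, nat_lit 11481, nat_lit 11482, nat_lit 11525, nat_lit 11526]], [nat_lit 9, nat_lit 0, nat_lit 23, nat_lit 24], [nat_lit 25, nat_lit 1, nat_lit 13, nat_lit 14, nat_lit 17, nat_lit 7, nat_lit 5, nat_lit 1756, nat_lit 3, nat_lit 2, nat_lit 4, nat_lit 10]),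
  (nat_lit 0x1000000010000010000000000000100000001000000010001000100000000000101000000000001000000000001000100000101000001, nat_lit 99, [[nat_lit 2509, nat_lit 2516, nat_lit 2517, nat_lit 2518, nat_lit 3711, nat_lit 3712, nat_lit 3713, nat_lit 3724, nat_lit 10629, nat_lit 10636, nat_lit 10637, nat_lit 10638, nat_lit 11831, nat_lit 11832, nat_lit 11833, nat_lit 11844]], [nat_lit 36, nat_lit 3, nat_lit 9, nat_lit 40], [nat_lit 14, nat_lit 54, nat_lit 62, nat_lit 16, nat_lit 59, nat_lit 1926, nat_lit 1757, nat_lit 1, nat_lit 2, nat_lit 4, nat_lit 6, nat_lit 12]),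
  (nat_lit 0x101000000010001000001000100000100000000010000000100010000000001000000010000010001000000000000000000010001, nat_lit 99, [[nat_lit 1817, nat_lit 1818, nat_lit 1819, nat_lit 1820, nat_lit 1846, nat_lit 1847, nat_lit 2876, nat_lit 2877, nat_lit 9937, nat_lit 9938, nat_lit 9939, nat_lit 9940, nat_lit 9966, nat_lit 9967, nat_lit 10996, nat_lit 10997]], [nat_lit 26, nat_lit 14, nat_lit 42, nat_lit 52], [nat_lit 89, nat_lit 12, nat_lit 34, nat_lit 9, nat_lit 10, nat_lit 4, nat_lit 2, nat_lit 3, nat_lit 5, nat_lit 1, nat_lit 13, nat_lit 1756]),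
  (nat_lit 0x1010101010000010100010000000000000000000101000001010000000000000000000000000000000000000001000101000001, nat_lit 0, [[nat_lit 22, nat_lit 17]], [], []),
  (nat_lit 0x10000000001000000010001000001000000000100000100010000000000000101000000000000000001010000000001010001000001, nat_lit 99, [[nat_lit 1935, nat_lit 1936, nat_lit 1937, nat_lit 1938, nat_lit 2997, nat_lit 2998, nat_lit 2999, nat_lit 3000, nat_lit 10055, nat_lit 10056, nat_lit 10057, nat_lit 10058, nat_lit 11117, nat_lit 11118, nat_lit 11119, nat_lit 11120]], [nat_lit 31, nat_lit 34, nat_lit 53, nat_lit 6], [nat_lit 4, nat_lit 2, nat_lit 5, nat_lit 8, nat_lit 3, nat_lit 6, nat_lit 1, nat_lit 9, nat_lit 10, nat_lit 12, nat_lit 1756, nat_lit 1896]),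
  (nat_lit 0x100000101000001000000010000010000010000000001000000010000000100000000000100000100000000000100010000000101000000, nat_lit 99, [[nat_lit 4282, nat_lit 4305, nat_lit 4346, nat_lit 4393, nat_lit 4413, nat_lit 4733, nat_lit 5351, nat_lit 5537, nat_lit 12402, nat_lit 12425, nat_lit 12466, nat_lit 12513, nat_lit 12533, nat_lit 12853, nat_lit 13471, nat_lit 13657]], [nat_lit 3, nat_lit 29, nat_lit 55, nat_lit 8], [nat_lit 7, nat_lit 16, nat_lit 8, nat_lit 37, nat_lit 15, nat_lit 24, nat_lit 41, nat_lit 1896, nat_lit 1, nat_lit 2, nat_lit 5, nat_lit 3]),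
  (nat_lit 0x10001000000010100000000010100000101000000000100000100000100000000010000000100000001000000000001000001, nat_lit 99, [[nat_lit 2543, nat_lit 2582, nat_lit 2586, nat_lit 2587, nat_lit 3770, nat_lit 3771, nat_lit 3775, nat_lit 3818, nat_lit 10663, nat_lit 10702, nat_lit 10706, nat_lit 10707, nat_lit 11890, nat_lit 11891, nat_lit 11895, nat_lit 11938]], [nat_lit 25, nat_lit 50, nat_lit 44, nat_lit 33], [nat_lit 28, nat_lit 39, nat_lit 37, nat_lit 3, nat_lit 5, nat_lit 4, nat_lit 2, nat_lit 8, nat_lit 1, nat_lit 12, nat_lit 1756, nat_lit 1896]),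
  (nat_lit 0x100000101000001010000000100000000000100010000000100000000010000000100010000000001000001000000000100000000000100, nat_lit 99, [[nat_lit 6417, nat_lit 6421, nat_lit 6422, nat_lit 6423, nat_lit 7577, nat_lit 7578, nat_lit 7579, nat_lit 7581, nat_lit 14537, nat_lit 14541, nat_lit 14542, nat_lit 14543, nat_lit 15697, nat_lit 15698, nat_lit 15699, nat_lit 15701]], [nat_lit 37, nat_lit 1, nat_lit 47, nat_lit 48], [nat_lit 44, nat_lit 19, nat_lit 23, nat_lit 17, nat_lit 20, nat_lit 22, nat_lit 6, nat_lit 5817, nat_lit 2, nat_lit 1, nat_lit 3, nat_lit 8]),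
  (nat_lit 0x101000000000101010100000101000000010001000101000000000000000000000100010100000100000000000000000000000000000000, nat_lit 0, [[nat_lit 55, nat_lit 15]], [], []),
  (nat_lit 0x100000000000001010000000001000001000100000000000000000000010001000001000001000001000100000100010000010000000001, nat_lit 99, [[nat_lit 2092, nat_lit 2147, nat_lit 3212, nat_lit 3213, nat_lit 3214, nat_lit 3281, nat_lit 3282, nat_lit 3283, nat_lit 10212, nat_lit 10267, nat_lit 11332, nat_lit 11333, nat_lit 11334, nat_lit 11401, nat_lit 11402, nat_lit 11403]], [nat_lit 37, nat_lit 13, nat_lit 18, nat_lit 47], [nat_lit 31, nat_lit 28, nat_lit 40, nat_lit 56, nat_lit 1, nat_lit 5, nat_lit 6, nat_lit 2, nat_lit 3, nat_lit 7, nat_lit 10, nat_lit 1756]),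
  (nat_lit 0x1010101000101000001000100000000000000000101000001010000000000000000000000000000000000000001000101000001, nat_lit 0, [[nat_lit 22, nat_lit 17]], [], [])]

def BK14 : List Ent := [(nat_lit 0x1000000010000000100000000010000000100000001000000000000010100000101000000000000000100000100000100000101000001, nat_lit 99, [[nat_lit 1898, nat_lit 1903, nat_lit 1904, nat_lit 1905, nat_lit 2966, nat_lit 2967, nat_lit 2968, nat_lit 2973, nat_lit 10018, nat_lit 10023, nat_lit 10024, nat_lit 10025, nat_lit 11086, nat_lit 11087, nat_lit 11088, nat_lit 11093]], [nat_lit 3, nat_lit 54, nat_lit 22, nat_lit 13], [nat_lit 54, nat_lit 74, nat_lit 12, nat_lit 7, nat_lit 16, nat_lit 1932, nat_lit 1756, nat_lit 1, nat_lit 4, nat_lit 6, nat_lit 5, nat_lit 2]),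
  (nat_lit 0x10100000101000000000001000000000001000100000100010100000001000000000100010000000001000000000100000001, nat_lit 99, [[nat_lit 2450, nat_lit 2457, nat_lit 2490, nat_lit 2491, nat_lit 3638, nat_lit 3645, nat_lit 3682, nat_lit 3683, nat_lit 10570, nat_lit 10577, nat_lit 10610, nat_lit 10611, nat_lit 11758, nat_lit 11765, nat_lit 11802, nat_lit 11803]], [nat_lit 45, nat_lit 0, nat_lit 28, nat_lit 16], [nat_lit 54, nat_lit 2, nat_lit 8, nat_lit 15, nat_lit 55, nat_lit 1760, nat_lit 1, nat_lit 4, nat_lit 7, nat_lit 3, nat_lit 6, nat_lit 10]),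
  (nat_lit 0x101010100000000000000000000000000000000000000000101000001010000010001000100000101000001000100010000000000000000, nat_lit 0, [[nat_lit 43, nat_lit 28]], [], []),
  (nat_lit 0x101000000010001000100010000000001000001000001000000000100010000000001000000000000000101000001010000000000, nat_lit 99, [[nat_lit 4136, nat_lit 4279, nat_lit 4608, nat_lit 4982, nat_lit 5147, nat_lit 5455, nat_lit 5735, nat_lit 5751, nat_lit 12256, nat_lit 12399, nat_lit 12728, nat_lit 13102, nat_lit 13267, nat_lit 13575, nat_lit 13855, nat_lit 13871]], [nat_lit 51, nat_lit 33, nat_lit 6, nat_lit 41], [nat_lit 2, nat_lit 26, nat_lit 10, nat_lit 21, nat_lit 24, nat_lit 7, nat_lit 9, nat_lit 11, nat_lit 14, nat_lit 1, nat_lit 3, nat_lit 5]),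
  (nat_lit 0x10101010000010100000101000000010001000101000000000000000000010001000001010000000000000000000000000000000000, nat_lit 0, [[nat_lit 55, nat_lit 15]], [], []),
  (nat_lit 0x100000001000000000001000100000001000000000100000001000100000000010000010000000001000000000001000001010000010100, nat_lit 99, [[nat_lit 6680, nat_lit 6681, nat_lit 6682, nat_lit 6693, nat_lit 7912, nat_lit 7927, nat_lit 7928, nat_lit 7929, nat_lit 14800, nat_lit 14801, nat_lit 14802, nat_lit 14813, nat_lit 16032, nat_lit 16047, nat_lit 16048, nat_lit 16049]], [nat_lit 43, nat_lit 55, nat_lit 39, nat_lit 5], [nat_lit 9, nat_lit 2, nat_lit 7, nat_lit 17, nat_lit 15, nat_lit 11, nat_lit 1, nat_lit 4, nat_lit 5, nat_lit 6, nat_lit 8, nat_lit 5816]),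
  (nat_lit 0x100010001010000000000000000000000000000000000010101010000000000010100000100010000010101010000, nat_lit 0, [[nat_lit 37, nat_lit 24]], [], []),
  (nat_lit 0x100010001010000000000000000000000000000000000010101010000000001000001010001000000010101010000, nat_lit 0, [[nat_lit 37, nat_lit 24]], [], []),
  (nat_lit 0x1010000000000010000000000010001000100010001000000000100000100000000010001000000000001000000010100010000000000, nat_lit 99, [[nat_lit 4334, nat_lit 4339, nat_lit 4379, nat_lit 4454, nat_lit 4587, nat_lit 4940, nat_lit 5101, nat_lit 5619, nat_lit 12454, nat_lit 12459, nat_lit 12499, nat_lit 12574, nat_lit 12707, nat_lit 13060, nat_lit 13221, nat_lit 13739]], [nat_lit 18, nat_lit 37, nat_lit 41, nat_lit 5], [nat_lit 67, nat_lit 60, nat_lit 34, nat_lit 10, nat_lit 5, nat_lit 6, nat_lit 9, nat_lit 17, nat_lit 4, nat_lit 2, nat_lit 3, nat_lit 1]),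
  (nat_lit 0x101010100000101000001010000000100010001010000000000000000000001000101000001, nat_lit 0, [[nat_lit 40, nat_lit 17]], [], []),
  (nat_lit 0x100000100000100000000010000000100000001000000000001000001000000000001000100000001010000000001010000010100, nat_lit 99, [[nat_lit 6686, nat_lit 6691, nat_lit 7914, nat_lit 7915, nat_lit 7916, nat_lit 7921, nat_lit 7922, nat_lit 7923, nat_lit 14806, nat_lit 14811, nat_lit 16034, nat_lit 16035, nat_lit 16036, nat_lit 16041, nat_lit 16042, nat_lit 16043]], [nat_lit 24, nat_lit 1, nat_lit 16, nat_lit 49], [nat_lit 2052, nat_lit 145, nat_lit 65, nat_lit 37, nat_lit 24, nat_lit 5817, nat_lit 38, nat_lit 1, nat_lit 2, nat_lit 3, nat_lit 5, nat_lit 4]),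
  (nat_lit 0x100010001000100000100000001000000000001000100000000000100000001000100010000000000000000000100010001000000000001, nat_lit 99, [[nat_lit 2150, nat_lit 2151, nat_lit 2152, nat_lit 2208, nat_lit 2209, nat_lit 2210, nat_lit 3284, nat_lit 3346, nat_lit 10270, nat_lit 10271, nat_lit 10272, nat_lit 10328, nat_lit 10329, nat_lit 10330, nat_lit 11404, nat_lit 11466]], [nat_lit 28, nat_lit 36, nat_lit 42, nat_lit 55], [nat_lit 35, nat_lit 28, nat_lit 17, nat_lit 11, nat_lit 3, nat_lit 13, nat_lit 5, nat_lit 4, nat_lit 2, nat_lit 7, nat_lit 12, nat_lit 1756]),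
  (nat_lit 0x1000001000000000000000001010000010100000000000001000000000001000100010100010001000000010000000001000000000100, nat_lit 99, [[nat_lit 6346, nat_lit 6349, nat_lit 6362, nat_lit 6365, nat_lit 7502, nat_lit 7505, nat_lit 7526, nat_lit 7529, nat_lit 14466, nat_lit 14469, nat_lit 14482, nat_lit 14485, nat_lit 15622, nat_lit 15625, nat_lit 15646, nat_lit 15649]], [nat_lit 15, nat_lit 42, nat_lit 22, nat_lit 38], [nat_lit 3, nat_lit 18, nat_lit 19, nat_lit 1, nat_lit 8, nat_lit 9, nat_lit 5, nat_lit 4, nat_lit 2, nat_lit 6, nat_lit 13, nat_lit 5816]),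
  (nat_lit 0x100000100000000000000010100000001000001010000010100000001000000010000000000000100000001000000010000000001000001, nat_lit 99, [[nat_lit 2541, nat_lit 2588, nat_lit 3764, nat_lit 3765, nat_lit 3769, nat_lit 3820, nat_lit 3824, nat_lit 3825, nat_lit 10661, nat_lit 10708, nat_lit 11884, nat_lit 11885, nat_lit 11889, nat_lit 11940, nat_lit 11944, nat_lit 11945]], [nat_lit 43, nat_lit 27, nat_lit 23, nat_lit 55], [nat_lit 17, nat_lit 21, nat_lit 30, nat_lit 3, nat_lit 12, nat_lit 4, nat_lit 2, nat_lit 1, nat_lit 7, nat_lit 10, nat_lit 1756, nat_lit 1896]),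
  (nat_lit 0x1000100000000000101000000000000010000000000010001000100010001000000010000010001000000000000010001000001000000, nat_lit 99, [[nat_lit 4528, nat_lit 4592, nat_lit 4659, nat_lit 5107, nat_lit 5348, nat_lit 5625, nat_lit 5675, nat_lit 5750, nat_lit 12648, nat_lit 12712, nat_lit 12779, nat_lit 13227, nat_lit 13468, nat_lit 13745, nat_lit 13795, nat_lit 13870]], [nat_lit 38, nat_lit 52, nat_lit 17, nat_lit 3], [nat_lit 1, nat_lit 11, nat_lit 20, nat_lit 35, nat_lit 13, nat_lit 1896, nat_lit 9, nat_lit 3, nat_lit 2, nat_lit 4, nat_lit 5, nat_lit 8]),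
  (nat_lit 0x10000010000010001000001000100010000000100000001000000000100000100000100000001000100000000000100000100000000, nat_lit 99, [[nat_lit 184, nat_lit 544, nat_lit 596, nat_lit 913, nat_lit 1040, nat_lit 1069, nat_lit 1326, nat_lit 1609, nat_lit 8304, nat_lit 8664, nat_lit 8716, nat_lit 9033, nat_lit 9160, nat_lit 9189, nat_lit 9446, nat_lit 9729]], [nat_lit 45, nat_lit 13, nat_lit 7, nat_lit 50], [nat_lit 9, nat_lit 2, nat_lit 6, nat_lit 11, nat_lit 3, nat_lit 15, nat_lit 17, nat_lit 1, nat_lit 13, nat_lit 4, nat_lit 5, nat_lit 8]),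
  (nat_lit 0x100010100000101010101000000000100000101000100000000000000000001010000010100000000000000000000, nat_lit 0, [[nat_lit 40, nat_lit 17]], [], []),
  (nat_lit 0x101000001010000010001000100000100000000000000000001000101000001000000000000000000000000000000000101000000000101, nat_lit 0, [[nat_lit 52, nat_lit 34]], [], []),
  (nat_lit 0x100010100000101010101000000000001010000010001000000000000000001010000010100000000000000000000, nat_lit 0, [[nat_lit 41, nat_lit 24]], [], []),
  (nat_lit 0x100000000010000000000000100000100000000010001000001000000000001000101000100000100010000000100000000000100010000, nat_lit 99, [[nat_lit 200, nat_lit 458, nat_lit 630, nat_lit 927, nat_lit 1030, nat_lit 1365, nat_lit 1450, nat_lit 1504, nat_lit 8320, nat_lit 8578, nat_lit 8750, nat_lit 9047, nat_lit 9150, nat_lit 9485, nat_lit 9570, nat_lit 9624]], [nat_lit 50, nat_lit 10, nat_lit 21, nat_lit 35], [nat_lit 9, nat_lit 61, nat_lit 7, nat_lit 15, nat_lit 22, nat_lit 5, nat_lit 14, nat_lit 1, nat_lit 3, nat_lit 6, nat_lit 2, nat_lit 4]),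
  (nat_lit 0x100010000000000000000000001000101000000000001000001000100010001000100000001000001000000000000010001000001000000, nat_lit 99, [[nat_lit 4135, nat_lit 4178, nat_lit 4277, nat_lit 4344, nat_lit 4603, nat_lit 4823, nat_lit 5557, nat_lit 5731, nat_lit 12255, nat_lit 12298, nat_lit 12397, nat_lit 12464, nat_lit 12723, nat_lit 12943, nat_lit 13677, nat_lit 13851]], [nat_lit 39, nat_lit 18, nat_lit 30, nat_lit 42], [nat_lit 11, nat_lit 17, nat_lit 5, nat_lit 6, nat_lit 20, nat_lit 15, nat_lit 2, nat_lit 3, nat_lit 4, nat_lit 7, nat_lit 8, nat_lit 1896]),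
  (nat_lit 0x100010100000100000000010101010100000101000100000000000000000000000101000001010000000000000000, nat_lit 0, [[nat_lit 35, nat_lit 1]], [], []),
  (nat_lit 0x100010100000100000000010101010001010000010001000000000000000000000101000001010000000000000000, nat_lit 0, [[nat_lit 41, nat_lit 24]], [], []),
  (nat_lit 0x100000001000000000001010000000000010001000000010000010000000101000001010000000100000000010100000000000001, nat_lit 99, [[nat_lit 2212, nat_lit 2217, nat_lit 2262, nat_lit 2267, nat_lit 3348, nat_lit 3349, nat_lit 3418, nat_lit 3419, nat_lit 10332, nat_lit 10337, nat_lit 10382, nat_lit 10387, nat_lit 11468, nat_lit 11469, nat_lit 11538, nat_lit 11539]], [nat_lit 0, nat_lit 48, nat_lit 21, nat_lit 29], [nat_lit 66, nat_lit 42, nat_lit 16, nat_lit 19, nat_lit 12, nat_lit 1, nat_lit 23, nat_lit 1756, nat_lit 7, nat_lit 6, nat_lit 5, nat_lit 2]),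
  (nat_lit 0x1010101000000000000000000000000000000000000010100000101010001000100000101000001000100010000000000000000, nat_lit 0, [[nat_lit 38, nat_lit 9]], [], []),
  (nat_lit 0x1000000000001010000010001010000000001000001000100000000000001000001000000010000000000010000010100000100000000, nat_lit 99, [[nat_lit 291, nat_lit 364, nat_lit 388, nat_lit 494, nat_lit 533, nat_lit 1025, nat_lit 1036, nat_lit 1300, nat_lit 8411, nat_lit 8484, nat_lit 8508, nat_lit 8614, nat_lit 8653, nat_lit 9145, nat_lit 9156, nat_lit 9420]], [nat_lit 17, nat_lit 33, nat_lit 42, nat_lit 7], [nat_lit 17, nat_lit 40, nat_lit 73, nat_lit 5, nat_lit 8, nat_lit 11, nat_lit 19, nat_lit 1, nat_lit 7, nat_lit 2, nat_lit 4, nat_lit 3]),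
  (nat_lit 0x1000001000000000100010001000000000001000100010000010001000000010000010000000001000100000000010000000100, nat_lit 99, [[nat_lit 6526, nat_lit 6527, nat_lit 6528, nat_lit 6535, nat_lit 7718, nat_lit 7719, nat_lit 7728, nat_lit 7735, nat_lit 14646, nat_lit 14647, nat_lit 14648, nat_lit 14655, nat_lit 15838, nat_lit 15839, nat_lit 15848, nat_lit 15855]], [nat_lit 33, nat_lit 41, nat_lit 17, nat_lit 12], [nat_lit 25, nat_lit 1, nat_lit 31, nat_lit 2, nat_lit 12, nat_lit 3, nat_lit 5, nat_lit 6, nat_lit 9, nat_lit 10, nat_lit 13, nat_lit 5816]),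
  (nat_lit 0x100000001000000000001010000000000000100010001000000000001010001000001000100000100000000010000010001000000, nat_lit 99, [[nat_lit 4210, nat_lit 4428, nat_lit 4468, nat_lit 4540, nat_lit 4794, nat_lit 5211, nat_lit 5254, nat_lit 5724, nat_lit 12330, nat_lit 12548, nat_lit 12588, nat_lit 12660, nat_lit 12914, nat_lit 13331, nat_lit 13374, nat_lit 13844]], [nat_lit 52, nat_lit 8, nat_lit 41, nat_lit 21], [nat_lit 42, nat_lit 19, nat_lit 12, nat_lit 2, nat_lit 14, nat_lit 4, nat_lit 1, nat_lit 6, nat_lit 3, nat_lit 5, nat_lit 9, nat_lit 1896]),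
  (nat_lit 0x10001000100000000000101000001000101000100000001000000000100000000010000000001000000010000000001000001, nat_lit 99, [[nat_lit 2536, nat_lit 2537, nat_lit 2539, nat_lit 2590, nat_lit 3763, nat_lit 3826, nat_lit 3830, nat_lit 3831, nat_lit 10656, nat_lit 10657, nat_lit 10659, nat_lit 10710, nat_lit 11883, nat_lit 11946, nat_lit 11950, nat_lit 11951]], [nat_lit 31, nat_lit 39, nat_lit 12, nat_lit 22], [nat_lit 2, nat_lit 7, nat_lit 10, nat_lit 5, nat_lit 3, nat_lit 8, nat_lit 4, nat_lit 12, nat_lit 6, nat_lit 1, nat_lit 1756, nat_lit 1896]),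
  (nat_lit 0x1000101000001000000000101010100000000000000000101000000000101000000000000000000000000000000000100000100010001, nat_lit 0, [[nat_lit 11, nat_lit 3]], [], [])]

def BK15 : List Ent := [(nat_lit 0x100000101000100000000000000000001010000010100000000000000000000000000000000000001000100000101000101010100000000, nat_lit 0, [[nat_lit 43, nat_lit 28]], [], []),
  (nat_lit 0x10101010000000000000000000000010001000101000000000000000000000000000000000001010101000000000100000101000100, nat_lit 0, [[nat_lit 39, nat_lit 9]], [], []),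
  (nat_lit 0x10101010000000000000000000000010001000101000000000000000000000000000000000001010101000000000001010000010001, nat_lit 0, [[nat_lit 39, nat_lit 9]], [], []),
  (nat_lit 0x1000000000100000100000100000000000000000101000001010000000000000100000000000101000100000100010100000001000000, nat_lit 99, [[nat_lit 4227, nat_lit 4365, nat_lit 4483, nat_lit 4548, nat_lit 4642, nat_lit 4909, nat_lit 5288, nat_lit 5330, nat_lit 12347, nat_lit 12485, nat_lit 12603, nat_lit 12668, nat_lit 12762, nat_lit 13029, nat_lit 13408, nat_lit 13450]], [nat_lit 33, nat_lit 8, nat_lit 54, nat_lit 46], [nat_lit 22, nat_lit 39, nat_lit 7, nat_lit 3, nat_lit 11, nat_lit 15, nat_lit 6, nat_lit 2, nat_lit 4, nat_lit 5, nat_lit 8, nat_lit 1896]),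
  (nat_lit 0x1000101000100010000000100000000010000000001000001000001000000000000000001010000010100000000000001000000000001, nat_lit 99, [[nat_lit 2174, nat_lit 2178, nat_lit 2179, nat_lit 2180, nat_lit 3314, nat_lit 3316, nat_lit 3318, nat_lit 3319, nat_lit 10294, nat_lit 10298, nat_lit 10299, nat_lit 10300, nat_lit 11434, nat_lit 11436, nat_lit 11438, nat_lit 11439]], [nat_lit 0, nat_lit 43, nat_lit 30, nat_lit 18], [nat_lit 8, nat_lit 18, nat_lit 35, nat_lit 1787, nat_lit 9, nat_lit 3, nat_lit 10, nat_lit 7, nat_lit 4, nat_lit 1, nat_lit 2, nat_lit 13]),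
  (nat_lit 0x100010001000100000100000001000000000100010000000000010000000100000000000001010000000000000100010000000101000000, nat_lit 99, [[nat_lit 4201, nat_lit 4298, nat_lit 4631, nat_lit 4732, nat_lit 4895, nat_lit 4995, nat_lit 5046, nat_lit 5462, nat_lit 12321, nat_lit 12418, nat_lit 12751, nat_lit 12852, nat_lit 13015, nat_lit 13115, nat_lit 13166, nat_lit 13582]], [nat_lit 25, nat_lit 49, nat_lit 3, nat_lit 37], [nat_lit 75, nat_lit 77, nat_lit 2, nat_lit 14, nat_lit 56, nat_lit 1899, nat_lit 1, nat_lit 4, nat_lit 6, nat_lit 5, nat_lit 3, nat_lit 7]),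
  (nat_lit 0x100000100010100000000010000010000000001000100000100000000010000000000000001010001000001000000000100000000000100, nat_lit 99, [[nat_lit 6416, nat_lit 6418, nat_lit 6419, nat_lit 6420, nat_lit 7576, nat_lit 7580, nat_lit 7582, nat_lit 7583, nat_lit 14536, nat_lit 14538, nat_lit 14539, nat_lit 14540, nat_lit 15696, nat_lit 15700, nat_lit 15702, nat_lit 15703]], [nat_lit 26, nat_lit 18, nat_lit 15, nat_lit 7], [nat_lit 23, nat_lit 21, nat_lit 17, nat_lit 8, nat_lit 4, nat_lit 14, nat_lit 2, nat_lit 1, nat_lit 5, nat_lit 3, nat_lit 6, nat_lit 5816]),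
  (nat_lit 0x100010000010000000001000001000100000000000001010000000000000000010100000001000001000101000000010000000001, nat_lit 99, [[nat_lit 2411, nat_lit 2412, nat_lit 2413, nat_lit 2414, nat_lit 3593, nat_lit 3594, nat_lit 3595, nat_lit 3596, nat_lit 10531, nat_lit 10532, nat_lit 10533, nat_lit 10534, nat_lit 11713, nat_lit 11714, nat_lit 11715, nat_lit 11716]], [nat_lit 20, nat_lit 10, nat_lit 50, nat_lit 47], [nat_lit 110, nat_lit 19, nat_lit 9, nat_lit 23, nat_lit 30, nat_lit 3, nat_lit 5, nat_lit 7, nat_lit 1, nat_lit 8, nat_lit 10, nat_lit 1756]),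
  (nat_lit 0x100010000010100010101010000000001000001010001000000000000000000000001010000010100000000000000000000000000000000, nat_lit 0, [[nat_lit 8, nat_lit 2]], [], []),
  (nat_lit 0x100010000000000000000000100010001000000000001000001000100010001010000000100000000000100010000000000010000000100, nat_lit 99, [[nat_lit 6108, nat_lit 6111, nat_lit 6128, nat_lit 6129, nat_lit 7224, nat_lit 7227, nat_lit 7254, nat_lit 7255, nat_lit 14228, nat_lit 14231, nat_lit 14248, nat_lit 14249, nat_lit 15344, nat_lit 15347, nat_lit 15374, nat_lit 15375]], [nat_lit 24, nat_lit 39, nat_lit 41, nat_lit 55], [nat_lit 7, nat_lit 11, nat_lit 1, nat_lit 23, nat_lit 24, nat_lit 12, nat_lit 5, nat_lit 3, nat_lit 4, nat_lit 2, nat_lit 9, nat_lit 5816]),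
  (nat_lit 0x100000100000000010000000000010001000100010001000000010000000001000100000000010001000000000100000100010000000000, nat_lit 99, [[nat_lit 4064, nat_lit 4191, nat_lit 4314, nat_lit 4574, nat_lit 4728, nat_lit 5212, nat_lit 5350, nat_lit 5756, nat_lit 12184, nat_lit 12311, nat_lit 12434, nat_lit 12694, nat_lit 12848, nat_lit 13332, nat_lit 13470, nat_lit 13876]], [nat_lit 39, nat_lit 55, nat_lit 10, nat_lit 22], [nat_lit 39, nat_lit 42, nat_lit 10, nat_lit 8, nat_lit 19, nat_lit 16, nat_lit 18, nat_lit 7, nat_lit 2, nat_lit 3, nat_lit 9, nat_lit 1]),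
  (nat_lit 0x1000100010100000000000000000000000000000000000000000001010101000101000001000100000101010100000000000000000000, nat_lit 0, [[nat_lit 32, nat_lit 30]], [], []),
  (nat_lit 0x1000100010100000000000000000000000000000000000000000001010101010000010100010000000101010100000000000000000000, nat_lit 0, [[nat_lit 32, nat_lit 30]], [], []),
  (nat_lit 0x100000000010000000100010000000000000000010001000001000000000001000100010001000101000000010000000001000000000100, nat_lit 99, [[nat_lit 6292, nat_lit 6293, nat_lit 6306, nat_lit 6307, nat_lit 7430, nat_lit 7431, nat_lit 7456, nat_lit 7457, nat_lit 14412, nat_lit 14413, nat_lit 14426, nat_lit 14427, nat_lit 15550, nat_lit 15551, nat_lit 15576, nat_lit 15577]], [nat_lit 35, nat_lit 24, nat_lit 50, nat_lit 46], [nat_lit 39, nat_lit 11, nat_lit 7, nat_lit 9, nat_lit 3, nat_lit 5, nat_lit 6, nat_lit 13, nat_lit 2, nat_lit 8, nat_lit 12, nat_lit 5816]),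
  (nat_lit 0x1000100010000010001010001000100000100010100000100000000000000000100000101000100, nat_lit 0, [[nat_lit 25, nat_lit 12]], [], []),
  (nat_lit 0x1000100010000010001010001000100000100010100000100000000000000000001010000010001, nat_lit 99, [[nat_lit 1798, nat_lit 1799, nat_lit 1860, nat_lit 1865, nat_lit 2657, nat_lit 2660, nat_lit 2826, nat_lit 2827, nat_lit 2900, nat_lit 2909, nat_lit 3913, nat_lit 3920, nat_lit 4032, nat_lit 4033, nat_lit 4038, nat_lit 4039, nat_lit 9918, nat_lit 9919, nat_lit 9980, nat_lit 9985, nat_lit 10777, nat_lit 10780, nat_lit 10946, nat_lit 10947, nat_lit 11020, nat_lit 11029, nat_lit 12033, nat_lit 12040, nat_lit 12152, nat_lit 12153, nat_lit 12158, nat_lit 12159]], [nat_lit 6, nat_lit 2, nat_lit 37, nat_lit 19, nat_lit 0], [nat_lit 1, nat_lit 14, nat_lit 35, nat_lit 42, nat_lit 1757, nat_lit 5, nat_lit 6, nat_lit 7, nat_lit 2, nat_lit 9, nat_lit 12]),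
  (nat_lit 0x1000100000000000101000000000000010000000000010100010001000100000000010000010001000000000000010001000001000000, nat_lit 99, [[nat_lit 4263, nat_lit 4329, nat_lit 4425, nat_lit 4788, nat_lit 4961, nat_lit 5111, nat_lit 5512, nat_lit 5577, nat_lit 12383, nat_lit 12449, nat_lit 12545, nat_lit 12908, nat_lit 13081, nat_lit 13231, nat_lit 13632, nat_lit 13697]], [nat_lit 38, nat_lit 45, nat_lit 3, nat_lit 15], [nat_lit 180, nat_lit 31, nat_lit 45, nat_lit 55, nat_lit 11, nat_lit 2, nat_lit 8, nat_lit 1896, nat_lit 1, nat_lit 9, nat_lit 4, nat_lit 6]),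
  (nat_lit 0x100010000010100010101010000000000010100000100010000000000000000000001010000010100000000000000000000000000000000, nat_lit 0, [[nat_lit 23, nat_lit 1]], [], []),
  (nat_lit 0x10101010100000101000100000001010101000000000000000000000001000100010100, nat_lit 0, [[nat_lit 60, nat_lit 33]], [], []),
  (nat_lit 0x1000100000000000000000100010000010000000000010001000100010001010000000100000000010000000001000100000000010000, nat_lit 99, [[nat_lit 102, nat_lit 186, nat_lit 575, nat_lit 576, nat_lit 900, nat_lit 1212, nat_lit 1230, nat_lit 1543, nat_lit 8222, nat_lit 8306, nat_lit 8695, nat_lit 8696, nat_lit 9020, nat_lit 9332, nat_lit 9350, nat_lit 9663]], [nat_lit 43, nat_lit 7, nat_lit 23, nat_lit 54], [nat_lit 10, nat_lit 82, nat_lit 43, nat_lit 20, nat_lit 11, nat_lit 16, nat_lit 9, nat_lit 5, nat_lit 3, nat_lit 4, nat_lit 1, nat_lit 2]),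
  (nat_lit 0x10101010001010000010001000001010101000000000000000000000001000100010100, nat_lit 0, [[nat_lit 10, nat_lit 4]], [], []),
  (nat_lit 0x100000000000100000101000100000101000000010000000000010001000000000100000100000000000000000101000000000000010001, nat_lit 99, [[nat_lit 2690, nat_lit 2691, nat_lit 2717, nat_lit 2718, nat_lit 3952, nat_lit 3953, nat_lit 3997, nat_lit 3998, nat_lit 10810, nat_lit 10811, nat_lit 10837, nat_lit 10838, nat_lit 12072, nat_lit 12073, nat_lit 12117, nat_lit 12118]], [nat_lit 45, nat_lit 9, nat_lit 19, nat_lit 27], [nat_lit 1, nat_lit 13, nat_lit 4, nat_lit 8, nat_lit 2, nat_lit 12, nat_lit 15, nat_lit 6, nat_lit 23, nat_lit 3, nat_lit 10, nat_lit 1756]),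
  (nat_lit 0x1000001000000000000000100000101000001000000000000010000010000010001000100010000000100000000010100000000000001, nat_lit 99, [[nat_lit 2213, nat_lit 2214, nat_lit 2215, nat_lit 2216, nat_lit 2263, nat_lit 2264, nat_lit 2265, nat_lit 2266, nat_lit 10333, nat_lit 10334, nat_lit 10335, nat_lit 10336, nat_lit 10383, nat_lit 10384, nat_lit 10385, nat_lit 10386]], [nat_lit 40, nat_lit 36, nat_lit 19, nat_lit 26], [nat_lit 12, nat_lit 14, nat_lit 15, nat_lit 3, nat_lit 4, nat_lit 30, nat_lit 1, nat_lit 2, nat_lit 5, nat_lit 7, nat_lit 10, nat_lit 1756]),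
  (nat_lit 0x10000000100000000000100000100010100000000000000010000010000010001000100010000000001000001000000010001000000, nat_lit 99, [[nat_lit 4128, nat_lit 4456, nat_lit 4759, nat_lit 4955, nat_lit 5065, nat_lit 5582, nat_lit 5618, nat_lit 5727, nat_lit 12248, nat_lit 12576, nat_lit 12879, nat_lit 13075, nat_lit 13185, nat_lit 13702, nat_lit 13738, nat_lit 13847]], [nat_lit 26, nat_lit 38, nat_lit 49, nat_lit 23], [nat_lit 3, nat_lit 12, nat_lit 4, nat_lit 14, nat_lit 13, nat_lit 7, nat_lit 2, nat_lit 5, nat_lit 8, nat_lit 1, nat_lit 9, nat_lit 1896]),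
  (nat_lit 0x100010000000000000000000001000101000000000001000100010001000100000100000001000001000000000000010001000001000000, nat_lit 99, [[nat_lit 4162, nat_lit 4246, nat_lit 4635, nat_lit 4636, nat_lit 4960, nat_lit 5272, nat_lit 5290, nat_lit 5603, nat_lit 12282, nat_lit 12366, nat_lit 12755, nat_lit 12756, nat_lit 13080, nat_lit 13392, nat_lit 13410, nat_lit 13723]], [nat_lit 42, nat_lit 3, nat_lit 33, nat_lit 8], [nat_lit 47, nat_lit 89, nat_lit 1, nat_lit 28, nat_lit 21, nat_lit 16, nat_lit 59, nat_lit 1896, nat_lit 2, nat_lit 3, nat_lit 4, nat_lit 12]),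
  (nat_lit 0x100010000010001010000000100000000000001000100000000010000000100010001000000000000010100000000000000010000010000, nat_lit 99, [[nat_lit 66, nat_lit 84, nat_lit 236, nat_lit 255, nat_lit 312, nat_lit 905, nat_lit 1268, nat_lit 1613, nat_lit 8186, nat_lit 8204, nat_lit 8356, nat_lit 8375, nat_lit 8432, nat_lit 9025, nat_lit 9388, nat_lit 9733]], [nat_lit 25, nat_lit 34, nat_lit 13, nat_lit 2], [nat_lit 13, nat_lit 14, nat_lit 10, nat_lit 31, nat_lit 9, nat_lit 12, nat_lit 4, nat_lit 15, nat_lit 6, nat_lit 5, nat_lit 1, nat_lit 2]),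
  (nat_lit 0x1010000010001000000000000000001010000010100000000000000000000000000000000000001000100000101000101010100000000, nat_lit 0, [[nat_lit 55, nat_lit 15]], [], []),
  (nat_lit 0x1000101000001000000000000000000000000000000000000010101010000010100000101000000010001000101000000000000000000, nat_lit 0, [[nat_lit 43, nat_lit 28]], [], []),
  (nat_lit 0x101000000000101010100000101000000000000000000000100000100010001000000000000000000000000000000000100000101000100, nat_lit 0, [[nat_lit 14, nat_lit 12]], [], []),
  (nat_lit 0x101000000000101010100000101000000000000000000000100000100010001000000000000000000000000000000000001010000010001, nat_lit 0, [[nat_lit 31, nat_lit 27]], [], []),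
  (nat_lit 0x10100000101000100010001010001000001000100010000000000000000010101010000000000000000000000000000000000000000, nat_lit 0, [[nat_lit 55, nat_lit 15]], [], []),
  (nat_lit 0x101000000000101000001010000010100010001000101000000000000000000000100010100000100000000000000000000000000000000, nat_lit 0, [[nat_lit 64, nat_lit 12]], [], [])]

def BK16 : List Ent := [(nat_lit 0x100010000000000000000000100010001000000000001000100010001000100010000000100000000000100010000000000010000000100, nat_lit 99, [[nat_lit 6538, nat_lit 6543, nat_lit 7708, nat_lit 7709, nat_lit 7712, nat_lit 7713, nat_lit 7738, nat_lit 7739, nat_lit 14658, nat_lit 14663, nat_lit 15828, nat_lit 15829, nat_lit 15832, nat_lit 15833, nat_lit 15858, nat_lit 15859]], [nat_lit 1, nat_lit 41, nat_lit 55, nat_lit 11], [nat_lit 12, nat_lit 149, nat_lit 45, nat_lit 5817, nat_lit 9, nat_lit 2, nat_lit 8, nat_lit 4, nat_lit 1, nat_lit 3, nat_lit 5, nat_lit 10]),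
  (nat_lit 0x1000001000000000000000001010001000001000000000000010000010000000101000001010001000000010000000000000100010000, nat_lit 99, [[nat_lit 63, nat_lit 241, nat_lit 583, nat_lit 783, nat_lit 799, nat_lit 912, nat_lit 1032, nat_lit 1094, nat_lit 8183, nat_lit 8361, nat_lit 8703, nat_lit 8903, nat_lit 8919, nat_lit 9032, nat_lit 9152, nat_lit 9214]], [nat_lit 39, nat_lit 2, nat_lit 51, nat_lit 29], [nat_lit 42, nat_lit 24, nat_lit 60, nat_lit 6, nat_lit 4, nat_lit 10, nat_lit 15, nat_lit 12, nat_lit 14, nat_lit 2, nat_lit 1, nat_lit 3]),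
  (nat_lit 0x1010101000000000100000101000100000001010101000000000000000000000100010001000001, nat_lit 0, [[nat_lit 26, nat_lit 10]], [], []),
  (nat_lit 0x10101010101010101010101010101010000000000000000, nat_lit 0, [[nat_lit 1804, nat_lit 136]], [], []),
  (nat_lit 0x100000100010100010000000100000000010000000001000000000100000001000000000100000100000000000100010001000000000001, nat_lit 99, [[nat_lit 2154, nat_lit 2204, nat_lit 2206, nat_lit 2207, nat_lit 3286, nat_lit 3290, nat_lit 3291, nat_lit 3340, nat_lit 10274, nat_lit 10324, nat_lit 10326, nat_lit 10327, nat_lit 11406, nat_lit 11410, nat_lit 11411, nat_lit 11460]], [nat_lit 10, nat_lit 16, nat_lit 0, nat_lit 24], [nat_lit 13, nat_lit 15, nat_lit 34, nat_lit 11, nat_lit 8, nat_lit 9, nat_lit 24, nat_lit 1756, nat_lit 4, nat_lit 1, nat_lit 2, nat_lit 3]),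
  (nat_lit 0x10001000101000100000100010001000100010100000100000000000000000100000101000100, nat_lit 0, [[nat_lit 40, nat_lit 17]], [], []),
  (nat_lit 0x10001000101000100000100010001000100010100000100000000000000000001010000010001, nat_lit 99, [[nat_lit 1861, nat_lit 1864, nat_lit 2656, nat_lit 2661, nat_lit 2750, nat_lit 2751, nat_lit 2818, nat_lit 2819, nat_lit 2824, nat_lit 2825, nat_lit 2901, nat_lit 2908, nat_lit 3912, nat_lit 3921, nat_lit 4030, nat_lit 4031, nat_lit 9981, nat_lit 9984, nat_lit 10776, nat_lit 10781, nat_lit 10870, nat_lit 10871, nat_lit 10938, nat_lit 10939, nat_lit 10944, nat_lit 10945, nat_lit 11021, nat_lit 11028, nat_lit 12032, nat_lit 12041, nat_lit 12150, nat_lit 12151]], [nat_lit 36, nat_lit 22, nat_lit 16, nat_lit 2, nat_lit 5], [nat_lit 45, nat_lit 17, nat_lit 20, nat_lit 5, nat_lit 4, nat_lit 3, nat_lit 7, nat_lit 2, nat_lit 1, nat_lit 6, nat_lit 1756]),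
  (nat_lit 0x1010101000000000001010000010001000001010101000000000000000000000100010001000001, nat_lit 0, [[nat_lit 40, nat_lit 17]], [], []),
  (nat_lit 0x1000100000000000000000100010000010000000000010100010001000100010000000100000000010000000001000100000000010000, nat_lit 99, [[nat_lit 75, nat_lit 118, nat_lit 217, nat_lit 284, nat_lit 543, nat_lit 763, nat_lit 1497, nat_lit 1671, nat_lit 8195, nat_lit 8238, nat_lit 8337, nat_lit 8404, nat_lit 8663, nat_lit 8883, nat_lit 9617, nat_lit 9791]], [nat_lit 54, nat_lit 29, nat_lit 38, nat_lit 19], [nat_lit 33, nat_lit 65, nat_lit 69, nat_lit 7, nat_lit 12, nat_lit 5, nat_lit 6, nat_lit 9, nat_lit 16, nat_lit 1, nat_lit 3, nat_lit 2]),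
  (nat_lit 0x100000100000000010000000000010001000001010000010100000001000000000001000100000001000000000100000001000100000000, nat_lit 99, [[nat_lit 246, nat_lit 530, nat_lit 616, nat_lit 967, nat_lit 1018, nat_lit 1198, nat_lit 1451, nat_lit 1610, nat_lit 8366, nat_lit 8650, nat_lit 8736, nat_lit 9087, nat_lit 9138, nat_lit 9318, nat_lit 9571, nat_lit 9730]], [nat_lit 10, nat_lit 27, nat_lit 19, nat_lit 4], [nat_lit 27, nat_lit 30, nat_lit 6, nat_lit 4, nat_lit 13, nat_lit 9, nat_lit 5, nat_lit 2, nat_lit 3, nat_lit 1, nat_lit 8, nat_lit 10]),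
  (nat_lit 0x1000100000000010100000000010001000100010100000001000000010000000000000100010000010000000000000000010100, nat_lit 99, [[nat_lit 6612, nat_lit 6632, nat_lit 6633, nat_lit 6637, nat_lit 7844, nat_lit 7848, nat_lit 7849, nat_lit 7865, nat_lit 14732, nat_lit 14752, nat_lit 14753, nat_lit 14757, nat_lit 15964, nat_lit 15968, nat_lit 15969, nat_lit 15985]], [nat_lit 14, nat_lit 38, nat_lit 44, nat_lit 51], [nat_lit 17, nat_lit 18, nat_lit 6, nat_lit 22, nat_lit 12, nat_lit 14, nat_lit 5, nat_lit 3, nat_lit 1, nat_lit 4, nat_lit 2, nat_lit 5816]),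
  (nat_lit 0x100000000000100000101000001010000000100000000010001000000000100000001000000010000010001000000000000000001000100, nat_lit 99, [[nat_lit 6764, nat_lit 6765, nat_lit 8028, nat_lit 8033, nat_lit 8034, nat_lit 8035, nat_lit 8038, nat_lit 8039, nat_lit 14884, nat_lit 14885, nat_lit 16148, nat_lit 16153, nat_lit 16154, nat_lit 16155, nat_lit 16158, nat_lit 16159]], [nat_lit 46, nat_lit 55, nat_lit 14, nat_lit 32], [nat_lit 4, nat_lit 10, nat_lit 13, nat_lit 15, nat_lit 14, nat_lit 2, nat_lit 1, nat_lit 9, nat_lit 3, nat_lit 5, nat_lit 1896, nat_lit 5816]),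
  (nat_lit 0x10000010000000100010001000100000001000001000000010001000000000001000000010000000000010000010001010000000000, nat_lit 99, [[nat_lit 4368, nat_lit 4431, nat_lit 4764, nat_lit 4917, nat_lit 4957, nat_lit 5084, nat_lit 5643, nat_lit 5655, nat_lit 12488, nat_lit 12551, nat_lit 12884, nat_lit 13037, nat_lit 13077, nat_lit 13204, nat_lit 13763, nat_lit 13775]], [nat_lit 50, nat_lit 6, nat_lit 33, nat_lit 46], [nat_lit 13, nat_lit 20, nat_lit 1, nat_lit 5, nat_lit 6, nat_lit 3, nat_lit 7, nat_lit 11, nat_lit 10, nat_lit 2, nat_lit 4, nat_lit 9]),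
  (nat_lit 0x10101010000000001010000010100010001000101000000000000000000010001000001010000000000000000000000000000000000, nat_lit 0, [[nat_lit 64, nat_lit 12]], [], []),
  (nat_lit 0x10001000000000000010000000100010001000000000100000100000000000000010100000000010001010001000001000000010000, nat_lit 99, [[nat_lit 402, nat_lit 690, nat_lit 796, nat_lit 947, nat_lit 1311, nat_lit 1341, nat_lit 1380, nat_lit 1436, nat_lit 8522, nat_lit 8810, nat_lit 8916, nat_lit 9067, nat_lit 9431, nat_lit 9461, nat_lit 9500, nat_lit 9556]], [nat_lit 9, nat_lit 38, nat_lit 19, nat_lit 28], [nat_lit 19, nat_lit 47, nat_lit 8, nat_lit 18, nat_lit 3, nat_lit 9, nat_lit 1, nat_lit 2, nat_lit 10, nat_lit 4, nat_lit 6, nat_lit 13]),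
  (nat_lit 0x100010001000001000101000100010000000000000000000101010100000000000000000000000000000000000000000101000001010000, nat_lit 0, [[nat_lit 12, nat_lit 7]], [], []),
  (nat_lit 0x1010101000000000000000000000101010100000000000000000000000000000000000001000001000100010001000101000001, nat_lit 0, [[nat_lit 22, nat_lit 17]], [], []),
  (nat_lit 0x10000000001000100000000010000000100000001000001000100000000000000000100010001000000000001000001010000010100, nat_lit 99, [[nat_lit 6082, nat_lit 6095, nat_lit 7182, nat_lit 7183, nat_lit 7184, nat_lit 7197, nat_lit 7198, nat_lit 7199, nat_lit 14202, nat_lit 14215, nat_lit 15302, nat_lit 15303, nat_lit 15304, nat_lit 15317, nat_lit 15318, nat_lit 15319]], [nat_lit 48, nat_lit 5, nat_lit 15, nat_lit 19], [nat_lit 38, nat_lit 7, nat_lit 12, nat_lit 6, nat_lit 13, nat_lit 11, nat_lit 3, nat_lit 2, nat_lit 5, nat_lit 8, nat_lit 1, nat_lit 5816]),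
  (nat_lit 0x100000100010001010001000001010001010101000000000000000000000000000001010101000000000000000000000000000000000000, nat_lit 0, [[nat_lit 55, nat_lit 15]], [], []),
  (nat_lit 0x100010001000001000101000100010000000000000000000000000001010101000000000000000000000000000000000000010100000101, nat_lit 0, [[nat_lit 12, nat_lit 7]], [], []),
  (nat_lit 0x100000001010001000000000000000000000100010001000000000001010000010100000100000001000001000100000000000001, nat_lit 99, [[nat_lit 3354, nat_lit 3355, nat_lit 3358, nat_lit 3359, nat_lit 3408, nat_lit 3409, nat_lit 3412, nat_lit 3413, nat_lit 11474, nat_lit 11475, nat_lit 11478, nat_lit 11479, nat_lit 11528, nat_lit 11529, nat_lit 11532, nat_lit 11533]], [nat_lit 9, nat_lit 0, nat_lit 47, nat_lit 52], [nat_lit 17, nat_lit 95, nat_lit 1763, nat_lit 38, nat_lit 6, nat_lit 7, nat_lit 12, nat_lit 2, nat_lit 3, nat_lit 8, nat_lit 5, nat_lit 1]),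
  (nat_lit 0x100000101000001000001000000000100000100010000000100000000010000010001000000000000000000010001000001000000000001, nat_lit 99, [[nat_lit 2338, nat_lit 2339, nat_lit 2340, nat_lit 2376, nat_lit 2377, nat_lit 2378, nat_lit 3504, nat_lit 3538, nat_lit 10458, nat_lit 10459, nat_lit 10460, nat_lit 10496, nat_lit 10497, nat_lit 10498, nat_lit 11624, nat_lit 11658]], [nat_lit 9, nat_lit 26, nat_lit 35, nat_lit 48], [nat_lit 6, nat_lit 7, nat_lit 5, nat_lit 18, nat_lit 16, nat_lit 9, nat_lit 8, nat_lit 2, nat_lit 3, nat_lit 1, nat_lit 13, nat_lit 1756]),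
  (nat_lit 0x100000001000000000100000100010100000000000100000000000100010001000001000101000000010000000000010001000000, nat_lit 99, [[nat_lit 4094, nat_lit 4523, nat_lit 4562, nat_lit 4875, nat_lit 5086, nat_lit 5291, nat_lit 5329, nat_lit 5515, nat_lit 12214, nat_lit 12643, nat_lit 12682, nat_lit 12995, nat_lit 13206, nat_lit 13411, nat_lit 13449, nat_lit 13635]], [nat_lit 15, nat_lit 16, nat_lit 37, nat_lit 52], [nat_lit 14, nat_lit 25, nat_lit 26, nat_lit 12, nat_lit 18, nat_lit 2, nat_lit 5, nat_lit 3, nat_lit 4, nat_lit 1, nat_lit 9, nat_lit 1896])]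

def BK17 : List Ent := [(nat_lit 0x100000101000100000000000000000001010000010100000000000000000000000000000000000000010001010000010101010100000000, nat_lit 0, [[nat_lit 55, nat_lit 15]], [], []),
  (nat_lit 0x100000100000000010000000000010000010001010001000001000000010000010000000000000101000000000100000000000001000001, nat_lit 99, [[nat_lit 2548, nat_lit 2550, nat_lit 2551, nat_lit 2579, nat_lit 3780, nat_lit 3806, nat_lit 3807, nat_lit 3811, nat_lit 10668, nat_lit 10670, nat_lit 10671, nat_lit 10699, nat_lit 11900, nat_lit 11926, nat_lit 11927, nat_lit 11931]], [nat_lit 16, nat_lit 36, nat_lit 0, nat_lit 52], [nat_lit 13, nat_lit 4, nat_lit 1, nat_lit 15, nat_lit 6, nat_lit 17, nat_lit 2, nat_lit 1756, nat_lit 5, nat_lit 3, nat_lit 8, nat_lit 1896]),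
  (nat_lit 0x10001000000010000000001000001000100000000000000000001000100000100000000000101000001010000010000010000000001, nat_lit 99, [[nat_lit 2392, nat_lit 2437, nat_lit 2438, nat_lit 2439, nat_lit 3560, nat_lit 3561, nat_lit 3562, nat_lit 3623, nat_lit 10512, nat_lit 10557, nat_lit 10558, nat_lit 10559, nat_lit 11680, nat_lit 11681, nat_lit 11682, nat_lit 11743]], [nat_lit 12, nat_lit 22, nat_lit 27, nat_lit 47], [nat_lit 3, nat_lit 7, nat_lit 11, nat_lit 16, nat_lit 1, nat_lit 18, nat_lit 9, nat_lit 17, nat_lit 13, nat_lit 2, nat_lit 8, nat_lit 1756]),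
  (nat_lit 0x100000101000100000000000000000000000000000000000001000100010100000101000100010001000100000101000000000000000000, nat_lit 0, [[nat_lit 43, nat_lit 28]], [], []),
  (nat_lit 0x10001000001010000000000000000000000000000000000010100000000010101010000010100000100010001000001, nat_lit 0, [[nat_lit 40, nat_lit 17]], [], []),
  (nat_lit 0x1000001010001000000010101010000010100000101000000000000000000000001010001000100, nat_lit 0, [[nat_lit 43, nat_lit 28]], [], []),
  (nat_lit 0x10100010001000100010000010100000000000101010100000000000000000000010101010000, nat_lit 0, [[nat_lit 39, nat_lit 38]], [], []),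
  (nat_lit 0x10001000000010000000001000000000000000101000000000000010001000001000001000001000001010000010000000100000100, nat_lit 99, [[nat_lit 6461, nat_lit 6462, nat_lit 6463, nat_lit 6484, nat_lit 7639, nat_lit 7668, nat_lit 7669, nat_lit 7670, nat_lit 14581, nat_lit 14582, nat_lit 14583, nat_lit 14604, nat_lit 15759, nat_lit 15788, nat_lit 15789, nat_lit 15790]], [nat_lit 51, nat_lit 18, nat_lit 34, nat_lit 4], [nat_lit 13, nat_lit 11, nat_lit 17, nat_lit 5, nat_lit 1, nat_lit 3, nat_lit 6, nat_lit 7, nat_lit 9, nat_lit 2, nat_lit 8, nat_lit 5816]),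
  (nat_lit 0x10100010000010000000001000000000001000001010001000001000000010000010000000001000100000100000000010000, nat_lit 99, [[nat_lit 113, nat_lit 220, nat_lit 290, nat_lit 293, nat_lit 1049, nat_lit 1050, nat_lit 1179, nat_lit 1544, nat_lit 8233, nat_lit 8340, nat_lit 8410, nat_lit 8413, nat_lit 9169, nat_lit 9170, nat_lit 9299, nat_lit 9664]], [nat_lit 29, nat_lit 20, nat_lit 44, nat_lit 39], [nat_lit 79, nat_lit 13, nat_lit 42, nat_lit 10, nat_lit 16, nat_lit 1, nat_lit 17, nat_lit 14, nat_lit 2, nat_lit 3, nat_lit 5, nat_lit 6]),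
  (nat_lit 0x100000100000000000001000001000000010100010000010000000100000100000001000100000000010000010000000001000100000000, nat_lit 99, [[nat_lit 48, nat_lit 400, nat_lit 444, nat_lit 580, nat_lit 812, nat_lit 887, nat_lit 977, nat_lit 994, nat_lit 8168, nat_lit 8520, nat_lit 8564, nat_lit 8700, nat_lit 8932, nat_lit 9007, nat_lit 9097, nat_lit 9114]], [nat_lit 28, nat_lit 6, nat_lit 52, nat_lit 32], [nat_lit 32, nat_lit 12, nat_lit 22, nat_lit 33, nat_lit 3, nat_lit 2, nat_lit 6, nat_lit 7, nat_lit 4, nat_lit 5, nat_lit 8, nat_lit 1]),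
  (nat_lit 0x10100000101000000000000010000000000010001000101000100010000000100000000010000000001000001000001000000, nat_lit 99, [[nat_lit 4164, nat_lit 4502, nat_lit 4529, nat_lit 5108, nat_lit 5259, nat_lit 5326, nat_lit 5421, nat_lit 5451, nat_lit 12284, nat_lit 12622, nat_lit 12649, nat_lit 13228, nat_lit 13379, nat_lit 13446, nat_lit 13541, nat_lit 13571]], [nat_lit 38, nat_lit 50, nat_lit 25, nat_lit 23], [nat_lit 9, nat_lit 21, nat_lit 28, nat_lit 31, nat_lit 17, nat_lit 20, nat_lit 1, nat_lit 3, nat_lit 5, nat_lit 4, nat_lit 2, nat_lit 1896]),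
  (nat_lit 0x10100000101000001000100010000010001010001000100000000000000000001010101000000000000000000000000, nat_lit 0, [[nat_lit 14, nat_lit 12]], [], []),
  (nat_lit 0x10100000100010000010101010000010100000101000000000000000000000001010001000100, nat_lit 0, [[nat_lit 40, nat_lit 17]], [], []),
  (nat_lit 0x10000000100000100010000000000000000000100010000000101000000010001000001000100000100000000010000000100010000, nat_lit 99, [[nat_lit 252, nat_lit 562, nat_lit 602, nat_lit 706, nat_lit 865, nat_lit 1244, nat_lit 1457, nat_lit 1514, nat_lit 8372, nat_lit 8682, nat_lit 8722, nat_lit 8826, nat_lit 8985, nat_lit 9364, nat_lit 9577, nat_lit 9634]], [nat_lit 13, nat_lit 2, nat_lit 32, nat_lit 23], [nat_lit 75, nat_lit 74, nat_lit 12, nat_lit 28, nat_lit 1, nat_lit 6, nat_lit 17, nat_lit 11, nat_lit 3, nat_lit 2, nat_lit 4, nat_lit 7]),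
  (nat_lit 0x101000001010001000100010100010000010001000100000000000000000000000001010101, nat_lit 0, [[nat_lit 43, nat_lit 28]], [], []),
  (nat_lit 0x100000000010000000100010000000000000000000100010000010000010000010000010001010001000000010000000000000100010000, nat_lit 99, [[nat_lit 193, nat_lit 309, nat_lit 360, nat_lit 570, nat_lit 910, nat_lit 975, nat_lit 1364, nat_lit 1695, nat_lit 8313, nat_lit 8429, nat_lit 8480, nat_lit 8690, nat_lit 9030, nat_lit 9095, nat_lit 9484, nat_lit 9815]], [nat_lit 20, nat_lit 44, nat_lit 11, nat_lit 26], [nat_lit 145, nat_lit 18, nat_lit 28, nat_lit 12, nat_lit 14, nat_lit 8, nat_lit 2, nat_lit 7, nat_lit 3, nat_lit 1, nat_lit 4, nat_lit 5]),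
  (nat_lit 0x10000010100010001010000000001010000010100000101000000000000000001000001000100010000000000000000, nat_lit 0, [[nat_lit 30, nat_lit 15]], [], []),
  (nat_lit 0x100000100000000000000010100000000010001000100010000010000000001000000010001000000000001000000010000000000010100, nat_lit 99, [[nat_lit 6605, nat_lit 6606, nat_lit 6607, nat_lit 6640, nat_lit 7837, nat_lit 7874, nat_lit 7875, nat_lit 7876, nat_lit 14725, nat_lit 14726, nat_lit 14727, nat_lit 14760, nat_lit 15957, nat_lit 15994, nat_lit 15995, nat_lit 15996]], [nat_lit 8, nat_lit 52, nat_lit 18, nat_lit 32], [nat_lit 207, nat_lit 9, nat_lit 18, nat_lit 10, nat_lit 5, nat_lit 8, nat_lit 3, nat_lit 4, nat_lit 1, nat_lit 2, nat_lit 6, nat_lit 5816]),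
  (nat_lit 0x101000000000101000100000100010000000100000000010001000000000100000100000001000100000000000000000001000100, nat_lit 99, [[nat_lit 6754, nat_lit 6755, nat_lit 6772, nat_lit 6775, nat_lit 8016, nat_lit 8017, nat_lit 8052, nat_lit 8055, nat_lit 14874, nat_lit 14875, nat_lit 14892, nat_lit 14895, nat_lit 16136, nat_lit 16137, nat_lit 16172, nat_lit 16175]], [nat_lit 27, nat_lit 52, nat_lit 3, nat_lit 13], [nat_lit 61, nat_lit 24, nat_lit 28, nat_lit 29, nat_lit 34, nat_lit 1897, nat_lit 1, nat_lit 2, nat_lit 5, nat_lit 8, nat_lit 4, nat_lit 5816]),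
  (nat_lit 0x101000000010001000001000101000000010000000100000000000001010000000001000000010001000000000001010000000000, nat_lit 99, [[nat_lit 4091, nat_lit 5069, nat_lit 5146, nat_lit 5325, nat_lit 5398, nat_lit 5408, nat_lit 5700, nat_lit 5717, nat_lit 12211, nat_lit 13189, nat_lit 13266, nat_lit 13445, nat_lit 13518, nat_lit 13528, nat_lit 13820, nat_lit 13837]], [nat_lit 31, nat_lit 23, nat_lit 12, nat_lit 40], [nat_lit 2, nat_lit 8, nat_lit 13, nat_lit 22, nat_lit 41, nat_lit 4, nat_lit 10, nat_lit 12, nat_lit 14, nat_lit 1, nat_lit 3, nat_lit 6]),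
  (nat_lit 0x100010001000100000001000000000100000001000100000000000100000001000000000001010001000001000000000000000101000000, nat_lit 99, [[nat_lit 4381, nat_lit 4542, nat_lit 4663, nat_lit 4737, nat_lit 5002, nat_lit 5186, nat_lit 5353, nat_lit 5447, nat_lit 12501, nat_lit 12662, nat_lit 12783, nat_lit 12857, nat_lit 13122, nat_lit 13306, nat_lit 13473, nat_lit 13567]], [nat_lit 28, nat_lit 36, nat_lit 4, nat_lit 12], [nat_lit 68, nat_lit 6, nat_lit 7, nat_lit 3, nat_lit 2, nat_lit 9, nat_lit 1, nat_lit 5, nat_lit 4, nat_lit 8, nat_lit 13, nat_lit 1896]),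
  (nat_lit 0x10000010001000100010001010000010101010100000000000000000000000001010000000001010000000000000000, nat_lit 0, [[nat_lit 40, nat_lit 17]], [], []),
  (nat_lit 0x101000001000101010000000001010000010100000101000000000000000001000001000100010000000000000000, nat_lit 0, [[nat_lit 30, nat_lit 15]], [], []),
  (nat_lit 0x10000000001000000010001000001000000000100000100010000000000000101000000000000000001010000000100000100010100, nat_lit 99, [[nat_lit 5992, nat_lit 5993, nat_lit 5994, nat_lit 5999, nat_lit 7056, nat_lit 7061, nat_lit 7062, nat_lit 7063, nat_lit 14112, nat_lit 14113, nat_lit 14114, nat_lit 14119, nat_lit 15176, nat_lit 15181, nat_lit 15182, nat_lit 15183]], [nat_lit 31, nat_lit 34, nat_lit 4, nat_lit 44], [nat_lit 43, nat_lit 3, nat_lit 30, nat_lit 9, nat_lit 4, nat_lit 2, nat_lit 5, nat_lit 6, nat_lit 1, nat_lit 10, nat_lit 12, nat_lit 5816]),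
  (nat_lit 0x1010000010001000000000000000001010000010100000000000000000000000000000000000000010001010000010101010100000000, nat_lit 0, [[nat_lit 43, nat_lit 3]], [], []),
  (nat_lit 0x1010000010001000000000000000000000000000000000001000100010100000101000100010001000100000101000000000000000000, nat_lit 99, [[nat_lit 4084, nat_lit 4193, nat_lit 4228, nat_lit 4459, nat_lit 4621, nat_lit 4876, nat_lit 5124, nat_lit 5126, nat_lit 5222, nat_lit 5236, nat_lit 5331, nat_lit 5412, nat_lit 5432, nat_lit 5591, nat_lit 5720, nat_lit 5781, nat_lit 12204, nat_lit 12313, nat_lit 12348, nat_lit 12579, nat_lit 12741, nat_lit 12996, nat_lit 13244, nat_lit 13246, nat_lit 13342, nat_lit 13356, nat_lit 13451, nat_lit 13532, nat_lit 13552, nat_lit 13711, nat_lit 13840, nat_lit 13901]], [nat_lit 17, nat_lit 26, nat_lit 21, nat_lit 48, nat_lit 15], [nat_lit 21, nat_lit 32, nat_lit 33, nat_lit 52, nat_lit 7, nat_lit 9, nat_lit 20, nat_lit 1756, nat_lit 2, nat_lit 3, nat_lit 1]),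
  (nat_lit 0x10001000000010100000001000001010000010000000100000100000100000000010000000100000001000000000001000001, nat_lit 99, [[nat_lit 1951, nat_lit 1984, nat_lit 1986, nat_lit 1987, nat_lit 3026, nat_lit 3027, nat_lit 3031, nat_lit 3064, nat_lit 10071, nat_lit 10104, nat_lit 10106, nat_lit 10107, nat_lit 11146, nat_lit 11147, nat_lit 11151, nat_lit 11184]], [nat_lit 50, nat_lit 17, nat_lit 25, nat_lit 32], [nat_lit 7, nat_lit 8, nat_lit 4, nat_lit 9, nat_lit 3, nat_lit 1, nat_lit 5, nat_lit 2, nat_lit 10, nat_lit 12, nat_lit 1756, nat_lit 1896]),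
  (nat_lit 0x101000000000101000001010000010100000000000000000100000100010001000000000000000000000000000000000100000101000100, nat_lit 0, [[nat_lit 31, nat_lit 28]], [], []),
  (nat_lit 0x101000000000101000001010000010100000000000000000100000100010001000000000000000000000000000000000001010000010001, nat_lit 0, [[nat_lit 31, nat_lit 28]], [], []),
  (nat_lit 0x100000000000001000000010000000101000100000000000000000000010001000100000000000100010100000101000000000100000100, nat_lit 99, [[nat_lit 6159, nat_lit 6160, nat_lit 6161, nat_lit 6204, nat_lit 7277, nat_lit 7332, nat_lit 7333, nat_lit 7334, nat_lit 14279, nat_lit 14280, nat_lit 14281, nat_lit 14324, nat_lit 15397, nat_lit 15452, nat_lit 15453, nat_lit 15454]], [nat_lit 26, nat_lit 40, nat_lit 37, nat_lit 1], [nat_lit 32, nat_lit 92, nat_lit 7, nat_lit 9, nat_lit 30, nat_lit 5, nat_lit 16, nat_lit 5816, nat_lit 2, nat_lit 3, nat_lit 1, nat_lit 12])]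

def BK18 : List Ent := [(nat_lit 0x101010101010101, nat_lit 2, [[nat_lit 453], [nat_lit 99], [nat_lit 4327], [nat_lit 1490], [nat_lit 1134], [nat_lit 446], [nat_lit 768], [nat_lit 5469], [nat_lit 506, nat_lit 503], [nat_lit 7392, nat_lit 7391], [nat_lit 5123, nat_lit 5092], [nat_lit 5287, nat_lit 5278]], [], []),
  (nat_lit 0x100010001010000010100010001000100010000010100000000000000000000010100000100010000000000000000, nat_lit 99, [[nat_lit 205, nat_lit 260, nat_lit 267, nat_lit 324, nat_lit 443, nat_lit 499, nat_lit 525, nat_lit 693, nat_lit 737, nat_lit 745, nat_lit 824, nat_lit 1242, nat_lit 1275, nat_lit 1369, nat_lit 1575, nat_lit 1683, nat_lit 8325, nat_lit 8380, nat_lit 8387, nat_lit 8444, nat_lit 8563, nat_lit 8619, nat_lit 8645, nat_lit 8813, nat_lit 8857, nat_lit 8865, nat_lit 8944, nat_lit 9362, nat_lit 9395, nat_lit 9489, nat_lit 9695, nat_lit 9803]], [nat_lit 41, nat_lit 29, nat_lit 42, nat_lit 38, nat_lit 13], [nat_lit 2, nat_lit 29, nat_lit 15, nat_lit 11, nat_lit 4, nat_lit 1, nat_lit 8, nat_lit 13, nat_lit 6, nat_lit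 5, nat_lit 3]),
  (nat_lit 0x100010001010000010100010001000100010000010100000000000000000001000001010001000000000000000000, nat_lit 0, [[nat_lit 23, nat_lit 19]], [], []),
  (nat_lit 0x100010000000001000000010000000000000101000100000100000000000100000000000101000100000100010001000000010000, nat_lit 99, [[nat_lit 307, nat_lit 487, nat_lit 573, nat_lit 1013, nat_lit 1170, nat_lit 1424, nat_lit 1547, nat_lit 1606, nat_lit 8427, nat_lit 8607, nat_lit 8693, nat_lit 9133, nat_lit 9290, nat_lit 9544, nat_lit 9667, nat_lit 9726]], [nat_lit 41, nat_lit 6, nat_lit 33, nat_lit 15], [nat_lit 11, nat_lit 82, nat_lit 6, nat_lit 27, nat_lit 31, nat_lit 14, nat_lit 5, nat_lit 3, nat_lit 4, nat_lit 2, nat_lit 1, nat_lit 7]),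
  (nat_lit 0x100010000000001000000010001000100000000000001010000000000000001000001000001000100000100010100000001000000, nat_lit 99, [[nat_lit 4462, nat_lit 4750, nat_lit 4856, nat_lit 5007, nat_lit 5371, nat_lit 5401, nat_lit 5440, nat_lit 5496, nat_lit 12582, nat_lit 12870, nat_lit 12976, nat_lit 13127, nat_lit 13491, nat_lit 13521, nat_lit 13560, nat_lit 13616]], [nat_lit 45, nat_lit 52, nat_lit 37, nat_lit 29], [nat_lit 1, nat_lit 21, nat_lit 61, nat_lit 14, nat_lit 2, nat_lit 12, nat_lit 6, nat_lit 3, nat_lit 5, nat_lit 7, nat_lit 10, nat_lit 1896]),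
  (nat_lit 0x100010000000000010000010000000000000001010000000100000100010100000000010000010000010000000001000000000100000001, nat_lit 99, [[nat_lit 2075, nat_lit 2082, nat_lit 3152, nat_lit 3153, nat_lit 3160, nat_lit 3161, nat_lit 3199, nat_lit 3202, nat_lit 10195, nat_lit 10202, nat_lit 11272, nat_lit 11273, nat_lit 11280, nat_lit 11281, nat_lit 11319, nat_lit 11322]], [nat_lit 31, nat_lit 4, nat_lit 20, nat_lit 14], [nat_lit 5, nat_lit 24, nat_lit 11, nat_lit 25, nat_lit 2, nat_lit 8, nat_lit 4, nat_lit 6, nat_lit 12, nat_lit 3, nat_lit 1, nat_lit 1756]),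
  (nat_lit 0x10000010100010000000101010100000000010100000101000000000000000000010100010001000000000000000000, nat_lit 0, [[nat_lit 41, nat_lit 24]], [], []),
  (nat_lit 0x10100000101000000010001000101000100000100010001000000000000000001010101000000000000000000000000, nat_lit 0, [[nat_lit 40, nat_lit 17]], [], []),
  (nat_lit 0x10100010001000001000101000001000000000101010100000000000000000101000000000101, nat_lit 0, [[nat_lit 43, nat_lit 28]], [], []),
  (nat_lit 0x101000001010000000000000000000000000000000000000001000101000001010101010000000000010100000100010000000000000000, nat_lit 0, [[nat_lit 89, nat_lit 9]], [], []),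
  (nat_lit 0x101000001010000000000000000000000000000000000000001000101000001010101010000000001000001010001000000000000000000, nat_lit 0, [[nat_lit 43, nat_lit 28]], [], []),
  (nat_lit 0x1000100000000000000000100010000000001010000000100010000010001000000010000010000010000000001000001000001000000, nat_lit 99, [[nat_lit 4068, nat_lit 4171, nat_lit 4429, nat_lit 4806, nat_lit 4946, nat_lit 5088, nat_lit 5531, nat_lit 5794, nat_lit 12188, nat_lit 12291, nat_lit 12549, nat_lit 12926, nat_lit 13066, nat_lit 13208, nat_lit 13651, nat_lit 13914]], [nat_lit 26, nat_lit 20, nat_lit 36, nat_lit 41], [nat_lit 3, nat_lit 28, nat_lit 31, nat_lit 18, nat_lit 20, nat_lit 13, nat_lit 1, nat_lit 2, nat_lit 10, nat_lit 4, nat_lit 5, nat_lit 1896]),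
  (nat_lit 0x1010000000001010101000001010000010001000100000100000000000000000001000101000001, nat_lit 0, [[nat_lit 22, nat_lit 17]], [], []),
  (nat_lit 0x100000100010100000001000000000100000100010000000001000001000000000000000100000100010100000000000001000000000001, nat_lit 99, [[nat_lit 2173, nat_lit 2184, nat_lit 2185, nat_lit 2187, nat_lit 3308, nat_lit 3309, nat_lit 3313, nat_lit 3323, nat_lit 10293, nat_lit 10304, nat_lit 10305, nat_lit 10307, nat_lit 11428, nat_lit 11429, nat_lit 11433, nat_lit 11443]], [nat_lit 19, nat_lit 52, nat_lit 13, nat_lit 0], [nat_lit 13, nat_lit 28, nat_lit 31, nat_lit 32, nat_lit 3, nat_lit 2, nat_lit 17, nat_lit 1756, nat_lit 4, nat_lit 5, nat_lit 1, nat_lit 6]),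
  (nat_lit 0x100000000000100010001000001000100000001000001000000000100010000000001000000010000000000010000010000000001000100, nat_lit 99, [[nat_lit 5908, nat_lit 5911, nat_lit 6902, nat_lit 6903, nat_lit 6906, nat_lit 6907, nat_lit 6940, nat_lit 6943, nat_lit 14028, nat_lit 14031, nat_lit 15022, nat_lit 15023, nat_lit 15026, nat_lit 15027, nat_lit 15060, nat_lit 15063]], [nat_lit 47, nat_lit 3, nat_lit 8, nat_lit 55], [nat_lit 42, nat_lit 24, nat_lit 69, nat_lit 11, nat_lit 74, nat_lit 1896, nat_lit 1, nat_lit 2, nat_lit 4, nat_lit 5, nat_lit 3, nat_lit 5816]),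
  (nat_lit 0x100000100000000000100000000000100010100000101000100000001000000000100000000010000000100000001000100010000000000, nat_lit 99, [[nat_lit 4224, nat_lit 4899, nat_lit 4900, nat_lit 4935, nat_lit 5165, nat_lit 5297, nat_lit 5561, nat_lit 5578, nat_lit 12344, nat_lit 13019, nat_lit 13020, nat_lit 13055, nat_lit 13285, nat_lit 13417, nat_lit 13681, nat_lit 13698]], [nat_lit 9, nat_lit 52, nat_lit 40, nat_lit 27], [nat_lit 74, nat_lit 61, nat_lit 56, nat_lit 18, nat_lit 34, nat_lit 9, nat_lit 1, nat_lit 10, nat_lit 4, nat_lit 8, nat_lit 2, nat_lit 3]),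
  (nat_lit 0x101000001000100000101010100000000010100000101000000000000000000010100010001000000000000000000, nat_lit 0, [[nat_lit 29, nat_lit 6]], [], []),
  (nat_lit 0x10100000000010100000101000001010001000100010100000000000000000001000100000101000000000000000000, nat_lit 0, [[nat_lit 40, nat_lit 17]], [], []),
  (nat_lit 0x100010001000001000000000000000001000100000101000000000000000000000000000000000001010000000001010101000001010000, nat_lit 0, [[nat_lit 41, nat_lit 37]], [], []),
  (nat_lit 0x100000000000001000100000100000000010001000000000001010000000000000100000000000101000100010001000000000100000100, nat_lit 99, [[nat_lit 6168, nat_lit 6201, nat_lit 7280, nat_lit 7281, nat_lit 7282, nat_lit 7323, nat_lit 7324, nat_lit 7325, nat_lit 14288, nat_lit 14321, nat_lit 15400, nat_lit 15401, nat_lit 15402, nat_lit 15443, nat_lit 15444, nat_lit 15445]], [nat_lit 38, nat_lit 15, nat_lit 22, nat_lit 43], [nat_lit 32, nat_lit 75, nat_lit 18, nat_lit 1, nat_lit 10, nat_lit 13, nat_lit 11, nat_lit 3, nat_lit 4, nat_lit 2, nat_lit 5, nat_lit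 5816]),
  (nat_lit 0x1000100010001000100000001000000010000000001000100000000010000000000000100000100000000000100010000010000010000, nat_lit 99, [[nat_lit 89, nat_lit 175, nat_lit 1188, nat_lit 1320, nat_lit 1420, nat_lit 1448, nat_lit 1512, nat_lit 1711, nat_lit 8209, nat_lit 8295, nat_lit 9308, nat_lit 9440, nat_lit 9540, nat_lit 9568, nat_lit 9632, nat_lit 9831]], [nat_lit 10, nat_lit 16, nat_lit 42, nat_lit 52], [nat_lit 11, nat_lit 28, nat_lit 3, nat_lit 26, nat_lit 10, nat_lit 4, nat_lit 2, nat_lit 7, nat_lit 12, nat_lit 6, nat_lit 1, nat_lit 9]),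
  (nat_lit 0x10000000001000100000000010001000000000100000100010000000000010000010000000001000000000001000100010001000100, nat_lit 99, [[nat_lit 6706, nat_lit 6715, nat_lit 7950, nat_lit 7951, nat_lit 7952, nat_lit 7969, nat_lit 7970, nat_lit 7971, nat_lit 14826, nat_lit 14835, nat_lit 16070, nat_lit 16071, nat_lit 16072, nat_lit 16089, nat_lit 16090, nat_lit 16091]], [nat_lit 20, nat_lit 46, nat_lit 31, nat_lit 1], [nat_lit 138, nat_lit 24, nat_lit 205, nat_lit 5847, nat_lit 1898, nat_lit 2, nat_lit 3, nat_lit 1, nat_lit 4, nat_lit 8, nat_lit 9, nat_lit 10]),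
  (nat_lit 0x101000000000101000000000000000000000000000000000001010001000100000100010100000100000000010101010000000000000000, nat_lit 0, [[nat_lit 25, nat_lit 12]], [], []),
  (nat_lit 0x1000100010001010000000100000000000001000100000000000100000001000000000100000100000000010001000000010000010000, nat_lit 99, [[nat_lit 141, nat_lit 238, nat_lit 571, nat_lit 672, nat_lit 835, nat_lit 935, nat_lit 986, nat_lit 1402, nat_lit 8261, nat_lit 8358, nat_lit 8691, nat_lit 8792, nat_lit 8955, nat_lit 9055, nat_lit 9106, nat_lit 9522]], [nat_lit 24, nat_lit 11, nat_lit 5, nat_lit 54], [nat_lit 121, nat_lit 56, nat_lit 7, nat_lit 9, nat_lit 17, nat_lit 24, nat_lit 28, nat_lit 12, nat_lit 1, nat_lit 3, nat_lit 2, nat_lit 4]),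
  (nat_lit 0x100000000000001000100000100000001000100000000000000000000010001010000000000010001000100010001000001000000010000, nat_lit 99, [[nat_lit 125, nat_lit 185, nat_lit 346, nat_lit 619, nat_lit 653, nat_lit 655, nat_lit 1527, nat_lit 1549, nat_lit 8245, nat_lit 8305, nat_lit 8466, nat_lit 8739, nat_lit 8773, nat_lit 8775, nat_lit 9647, nat_lit 9669]], [nat_lit 39, nat_lit 2, nat_lit 15, nat_lit 26], [nat_lit 28, nat_lit 16, nat_lit 18, nat_lit 5, nat_lit 7, nat_lit 6, nat_lit 12, nat_lit 2, nat_lit 3, nat_lit 4, nat_lit 8, nat_lit 1]),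
  (nat_lit 0x1000001000101000000000000000001010000000100000101000001000100000001000000000100010000000100000000010000, nat_lit 99, [[nat_lit 15, nat_lit 201, nat_lit 386, nat_lit 455, nat_lit 546, nat_lit 689, nat_lit 1355, nat_lit 1506, nat_lit 8135, nat_lit 8321, nat_lit 8506, nat_lit 8575, nat_lit 8666, nat_lit 8809, nat_lit 9475, nat_lit 9626]], [nat_lit 27, nat_lit 51, nat_lit 7, nat_lit 18], [nat_lit 10, nat_lit 75, nat_lit 8, nat_lit 3, nat_lit 9, nat_lit 7, nat_lit 13, nat_lit 4, nat_lit 2, nat_lit 5, nat_lit 1, nat_lit 12]),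
  (nat_lit 0x1000001000000000001000101000000000001000100010000010001000001000000000100010000000001000001000001000000, nat_lit 99, [[nat_lit 4653, nat_lit 4654, nat_lit 4724, nat_lit 4792, nat_lit 5061, nat_lit 5405, nat_lit 5452, nat_lit 5552, nat_lit 12773, nat_lit 12774, nat_lit 12844, nat_lit 12912, nat_lit 13181, nat_lit 13525, nat_lit 13572, nat_lit 13672]], [nat_lit 29, nat_lit 42, nat_lit 6, nat_lit 21], [nat_lit 19, nat_lit 8, nat_lit 4, nat_lit 11, nat_lit 10, nat_lit 2, nat_lit 7, nat_lit 12, nat_lit 1, nat_lit 3, nat_lit 13, nat_lit 1896])]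

def BK19 : List Ent := [(nat_lit 0x100010001000100000000010000010000000100010000000000010000000100000000000100000100010100000000000000010000010000, nat_lit 99, [[nat_lit 512, nat_lit 572, nat_lit 803, nat_lit 810, nat_lit 873, nat_lit 885, nat_lit 1090, nat_lit 1533, nat_lit 8632, nat_lit 8692, nat_lit 8923, nat_lit 8930, nat_lit 8993, nat_lit 9005, nat_lit 9210, nat_lit 9653]], [nat_lit 29, nat_lit 14, nat_lit 35, nat_lit 16], [nat_lit 129, nat_lit 85, nat_lit 7, nat_lit 20, nat_lit 5, nat_lit 6, nat_lit 3, nat_lit 2, nat_lit 4, nat_lit 1, nat_lit 9, nat_lit 13]),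
  (nat_lit 0x100000101000100000000000000000000000000000000000001000100010100000101000100010000010001010000010000000000000000, nat_lit 99, [[nat_lit 99, nat_lit 199, nat_lit 251, nat_lit 413, nat_lit 447, nat_lit 778, nat_lit 871, nat_lit 1158, nat_lit 1159, nat_lit 1255, nat_lit 1325, nat_lit 1333, nat_lit 1388, nat_lit 1418, nat_lit 1486, nat_lit 1638, nat_lit 8219, nat_lit 8319, nat_lit 8371, nat_lit 8533, nat_lit 8567, nat_lit 8898, nat_lit 8991, nat_lit 9278, nat_lit 9279, nat_lit 9375, nat_lit 9445, nat_lit 9453, nat_lit 9508, nat_lit 9538, nat_lit 9606, nat_lit 9758]], [nat_lit 21, nat_lit 30, nat_lit 14, nat_lit 28, nat_lit 12], [nat_lit 5, nat_lit 11, nat_lit 2, nat_lit 3, nat_lit 4, nat_lit 7, nat_lit 9, nat_lit 1896, nat_lit 1, nat_lit 12, nat_lit 13]),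
  (nat_lit 0x10101010000000000000000000000000000000000000001010001000100010001000001010000000000010101010000000000000000, nat_lit 0, [[nat_lit 60, nat_lit 6]], [], []),
  (nat_lit 0x101000001010000000100010001010000010100010001000000000000000000000000000101010100000000000000000000000000000000, nat_lit 0, [[nat_lit 39, nat_lit 38]], [], []),
  (nat_lit 0x100000001000000000000010001000000010000010000000000000000010100010000010000000000000100000100000100000101000001, nat_lit 99, [[nat_lit 2026, nat_lit 2027, nat_lit 2028, nat_lit 2033, nat_lit 3126, nat_lit 3131, nat_lit 3132, nat_lit 3133, nat_lit 10146, nat_lit 10147, nat_lit 10148, nat_lit 10153, nat_lit 11246, nat_lit 11251, nat_lit 11252, nat_lit 11253]], [nat_lit 13, nat_lit 38, nat_lit 20, nat_lit 51], [nat_lit 5, nat_lit 14, nat_lit 12, nat_lit 9, nat_lit 6, nat_lit 7, nat_lit 10, nat_lit 1, nat_lit 15, nat_lit 2, nat_lit 1756, nat_lit 1896]),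
  (nat_lit 0x10000000100010001000000000000000000010001000100000000000100000100010001000101000000010000000000010001000000, nat_lit 99, [[nat_lit 4112, nat_lit 4187, nat_lit 4415, nat_lit 4780, nat_lit 5152, nat_lit 5283, nat_lit 5314, nat_lit 5685, nat_lit 12232, nat_lit 12307, nat_lit 12535, nat_lit 12900, nat_lit 13272, nat_lit 13403, nat_lit 13434, nat_lit 13805]], [nat_lit 18, nat_lit 15, nat_lit 53, nat_lit 33], [nat_lit 33, nat_lit 6, nat_lit 21, nat_lit 14, nat_lit 5, nat_lit 3, nat_lit 18, nat_lit 12, nat_lit 2, nat_lit 1, nat_lit 9, nat_lit 1896]),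
  (nat_lit 0x100010000010100000000000000000000000000000000000101000000000101010100000101000000010001000101000000000000000000, nat_lit 0, [[nat_lit 13, nat_lit 1]], [], []),
  (nat_lit 0x1000100010000000000010000010001000100010100000001000000000001000100000000000100000001000100010000000000, nat_lit 99, [[nat_lit 4189, nat_lit 4206, nat_lit 4790, nat_lit 4858, nat_lit 4879, nat_lit 5039, nat_lit 5042, nat_lit 5716, nat_lit 12309, nat_lit 12326, nat_lit 12910, nat_lit 12978, nat_lit 12999, nat_lit 13159, nat_lit 13162, nat_lit 13836]], [nat_lit 21, nat_lit 36, nat_lit 9, nat_lit 31], [nat_lit 21, nat_lit 35, nat_lit 25, nat_lit 20, nat_lit 5, nat_lit 6, nat_lit 1, nat_lit 3, nat_lit 4, nat_lit 2, nat_lit 9, nat_lit 13]),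
  (nat_lit 0x101000001010001000100010100000101000100010000000000000000000101010100000000, nat_lit 0, [[nat_lit 43, nat_lit 28]], [], []),
  (nat_lit 0x1000001000100010100010000010100010101010000000000000000000000000101000000000101, nat_lit 0, [[nat_lit 40, nat_lit 17]], [], []),
  (nat_lit 0x100010000000000010000010000000000010000000000010100000101000001010000000100000000010000000001000000010000000100, nat_lit 99, [[nat_lit 6554, nat_lit 6557, nat_lit 7690, nat_lit 7691, nat_lit 7694, nat_lit 7695, nat_lit 7754, nat_lit 7757, nat_lit 14674, nat_lit 14677, nat_lit 15810, nat_lit 15811, nat_lit 15814, nat_lit 15815, nat_lit 15874, nat_lit 15877]], [nat_lit 24, nat_lit 38, nat_lit 9, nat_lit 23], [nat_lit 5, nat_lit 6, nat_lit 21, nat_lit 14, nat_lit 23, nat_lit 1, nat_lit 7, nat_lit 4, nat_lit 3, nat_lit 2, nat_lit 9, nat_lit 5816]),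
  (nat_lit 0x1000100000100000000000101000100010001000100000001000000000100000000010001000000000100000001000100000000, nat_lit 99, [[nat_lit 26, nat_lit 276, nat_lit 433, nat_lit 735, nat_lit 759, nat_lit 772, nat_lit 1279, nat_lit 1347, nat_lit 8146, nat_lit 8396, nat_lit 8553, nat_lit 8855, nat_lit 8879, nat_lit 8892, nat_lit 9399, nat_lit 9467]], [nat_lit 27, nat_lit 10, nat_lit 49, nat_lit 39], [nat_lit 2, nat_lit 16, nat_lit 24, nat_lit 38, nat_lit 41, nat_lit 32, nat_lit 8, nat_lit 1, nat_lit 3, nat_lit 5, nat_lit 4, nat_lit 6]),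
  (nat_lit 0x100000001000000010000000000000100010000010000000000000000010100000000000100010000000001010000000001000100010001, nat_lit 99, [[nat_lit 2755, nat_lit 2756, nat_lit 2757, nat_lit 2758, nat_lit 2759, nat_lit 2760, nat_lit 4049, nat_lit 4050, nat_lit 10875, nat_lit 10876, nat_lit 10877, nat_lit 10878, nat_lit 10879, nat_lit 10880, nat_lit 12169, nat_lit 12170]], [nat_lit 47, nat_lit 19, nat_lit 6, nat_lit 38], [nat_lit 5, nat_lit 10, nat_lit 6, nat_lit 19, nat_lit 2, nat_lit 3, nat_lit 7, nat_lit 9, nat_lit 1, nat_lit 4, nat_lit 13, nat_lit 1756]),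
  (nat_lit 0x100000000010000000000000100000100010100000000000000000101000000010000010100000100010000000100000000010001000000, nat_lit 99, [[nat_lit 4123, nat_lit 4301, nat_lit 4643, nat_lit 4843, nat_lit 4859, nat_lit 4972, nat_lit 5092, nat_lit 5154, nat_lit 12243, nat_lit 12421, nat_lit 12763, nat_lit 12963, nat_lit 12979, nat_lit 13092, nat_lit 13212, nat_lit 13274]], [nat_lit 43, nat_lit 10, nat_lit 16, nat_lit 55], [nat_lit 5, nat_lit 16, nat_lit 28, nat_lit 14, nat_lit 13, nat_lit 3, nat_lit 4, nat_lit 1, nat_lit 2, nat_lit 6, nat_lit 9, nat_lit 1896]),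
  (nat_lit 0x101000000010001000001000100010000000100000000010001000000000000010000000100010001000000000100000100000000, nat_lit 99, [[nat_lit 289, nat_lit 329, nat_lit 336, nat_lit 445, nat_lit 517, nat_lit 1125, nat_lit 1710, nat_lit 1749, nat_lit 8409, nat_lit 8449, nat_lit 8456, nat_lit 8565, nat_lit 8637, nat_lit 9245, nat_lit 9830, nat_lit 9869]], [nat_lit 4, nat_lit 52, nat_lit 20, nat_lit 14], [nat_lit 34, nat_lit 35, nat_lit 7, nat_lit 3, nat_lit 18, nat_lit 21, nat_lit 6, nat_lit 1, nat_lit 5, nat_lit 4, nat_lit 2, nat_lit 13]),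
  (nat_lit 0x10100000000010100000000000000000000000000000000010000010001000101000100000101000101010100000000, nat_lit 0, [[nat_lit 45, nat_lit 20]], [], []),
  (nat_lit 0x1010000010101000100010000010001010001000100000000000000000001010101000000000000000000000000, nat_lit 0, [[nat_lit 41, nat_lit 24]], [], []),
  (nat_lit 0x10000010001000100010001010000010101010100000000000000000000000000000101010100000000000000000000, nat_lit 0, [[nat_lit 42, nat_lit 14]], [], []),
  (nat_lit 0x100000000000100010000010100000100000100000000010001000000000100000001000000010000010001000000000000000001000100, nat_lit 99, [[nat_lit 5888, nat_lit 5889, nat_lit 5896, nat_lit 5899, nat_lit 6914, nat_lit 6915, nat_lit 6928, nat_lit 6931, nat_lit 14008, nat_lit 14009, nat_lit 14016, nat_lit 14019, nat_lit 15034, nat_lit 15035, nat_lit 15048, nat_lit 15051]], [nat_lit 25, nat_lit 40, nat_lit 49, nat_lit 21], [nat_lit 12, nat_lit 6, nat_lit 18, nat_lit 3, nat_lit 2, nat_lit 4, nat_lit 5, nat_lit 7, nat_lit 8, nat_lit 1, nat_lit 1896, nat_lit 5816]),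
  (nat_lit 0x1000001010000010000000000000001010000000001010000010100010000000100000001000000000000010000000100000001, nat_lit 99, [[nat_lit 2086, nat_lit 2087, nat_lit 3141, nat_lit 3142, nat_lit 3143, nat_lit 3144, nat_lit 3208, nat_lit 3209, nat_lit 10206, nat_lit 10207, nat_lit 11261, nat_lit 11262, nat_lit 11263, nat_lit 11264, nat_lit 11328, nat_lit 11329]], [nat_lit 47, nat_lit 19, nat_lit 4, nat_lit 36], [nat_lit 19, nat_lit 27, nat_lit 5, nat_lit 23, nat_lit 22, nat_lit 15, nat_lit 6, nat_lit 7, nat_lit 3, nat_lit 1, nat_lit 8, nat_lit 1756]),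
  (nat_lit 0x1010101010000010100010000000101010100000000000000000000010001000100000100000000000000000000000000000000, nat_lit 0, [[nat_lit 22, nat_lit 17]], [], []),
  (nat_lit 0x10001010000000000010001000100010001000001000000010000010000000000000100010000010000000100010000000000, nat_lit 99, [[nat_lit 4272, nat_lit 4586, nat_lit 4664, nat_lit 4866, nat_lit 5137, nat_lit 5220, nat_lit 5459, nat_lit 5736, nat_lit 12392, nat_lit 12706, nat_lit 12784, nat_lit 12986, nat_lit 13257, nat_lit 13340, nat_lit 13579, nat_lit 13856]], [nat_lit 16, nat_lit 30, nat_lit 33, nat_lit 50], [nat_lit 13, nat_lit 43, nat_lit 8, nat_lit 10, nat_lit 19, nat_lit 1, nat_lit 6, nat_lit 15, nat_lit 2, nat_lit 3, nat_lit 4, nat_lit 9]),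
  (nat_lit 0x1010000010001000000000000000000000000000000000001000100010100000101000100010000010001010000010000000000000000, nat_lit 0, [[nat_lit 43, nat_lit 28]], [], []),
  (nat_lit 0x100000100010001000000000000000000000000000000000100000101000100000001010101000001010000010100000000000000000000, nat_lit 0, [[nat_lit 26, nat_lit 10]], [], []),
  (nat_lit 0x10000000001000100000000010000010000010000000000000001000001000000000001000101000000000001000001000101000100, nat_lit 99, [[nat_lit 6792, nat_lit 6805, nat_lit 8072, nat_lit 8073, nat_lit 8074, nat_lit 8087, nat_lit 8088, nat_lit 8089, nat_lit 14912, nat_lit 14925, nat_lit 16192, nat_lit 16193, nat_lit 16194, nat_lit 16207, nat_lit 16208, nat_lit 16209]], [nat_lit 27, nat_lit 41, nat_lit 6, nat_lit 18], [nat_lit 5, nat_lit 3, nat_lit 25, nat_lit 13, nat_lit 11, nat_lit 7, nat_lit 9, nat_lit 2, nat_lit 1, nat_lit 8, nat_lit 1896, nat_lit 5816]),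
  (nat_lit 0x100010000010001000100000001000000000100010000000000000100000001000100010000000001000001000000000000000101000000, nat_lit 99, [[nat_lit 4333, nat_lit 4845, nat_lit 4980, nat_lit 4983, nat_lit 5047, nat_lit 5184, nat_lit 5485, nat_lit 5807, nat_lit 12453, nat_lit 12965, nat_lit 13100, nat_lit 13103, nat_lit 13167, nat_lit 13304, nat_lit 13605, nat_lit 13927]], [nat_lit 37, nat_lit 15, nat_lit 24, nat_lit 55], [nat_lit 44, nat_lit 81, nat_lit 2, nat_lit 8, nat_lit 3, nat_lit 1, nat_lit 4, nat_lit 7, nat_lit 9, nat_lit 6, nat_lit 12, nat_lit 1896]),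
  (nat_lit 0x100000100010001000000000000000000000000000000000001010000010001000001010101000001010000010100000000000000000000, nat_lit 0, [[nat_lit 60, nat_lit 6]], [], []),
  (nat_lit 0x1010101000000000000000001010000000001010000000000000000000000000000000000010100010001000100010000010100, nat_lit 0, [[nat_lit 38, nat_lit 9]], [], []),
  (nat_lit 0x1010101000101000001000100000101010100000000000000000000010001000100000100000000000000000000000000000000, nat_lit 0, [[nat_lit 22, nat_lit 17]], [], []),
  (nat_lit 0x1000000000001000101000100000101000000010000000001000000000100000000010000000100000000010000010000000000010001, nat_lit 99, [[nat_lit 1804, nat_lit 1805, nat_lit 2828, nat_lit 2833, nat_lit 2894, nat_lit 2895, nat_lit 2898, nat_lit 2899, nat_lit 9924, nat_lit 9925, nat_lit 10948, nat_lit 10953, nat_lit 11014, nat_lit 11015, nat_lit 11018, nat_lit 11019]], [nat_lit 54, nat_lit 0, nat_lit 30, nat_lit 39], [nat_lit 29, nat_lit 1778, nat_lit 5, nat_lit 7, nat_lit 11, nat_lit 19, nat_lit 10, nat_lit 2, nat_lit 12, nat_lit 4, nat_lit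 1, nat_lit 6]),
  (nat_lit 0x1000100010001000001000000000101000000000000010001000001000000000000000100000101000001000000000000010000010000, nat_lit 99, [[nat_lit 74, nat_lit 135, nat_lit 1184, nat_lit 1227, nat_lit 1248, nat_lit 1717, nat_lit 1742, nat_lit 1744, nat_lit 8194, nat_lit 8255, nat_lit 9304, nat_lit 9347, nat_lit 9368, nat_lit 9837, nat_lit 9862, nat_lit 9864]], [nat_lit 45, nat_lit 30, nat_lit 19, nat_lit 54], [nat_lit 5, nat_lit 14, nat_lit 30, nat_lit 6, nat_lit 9, nat_lit 15, nat_lit 17, nat_lit 1, nat_lit 7, nat_lit 2, nat_lit 4, nat_lit 10])]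

def BK20 : List Ent := [(nat_lit 0x1000100010100000101000100010000000000000000000101010100000000000000000000000000000000000000000101000001010000, nat_lit 0, [[nat_lit 44, nat_lit 14]], [], []),
  (nat_lit 0x1010000000000000001000001000001000100010001000000000100000100000001000100000000000100000001000000000001000001, nat_lit 99, [[nat_lit 2545, nat_lit 2546, nat_lit 2547, nat_lit 2580, nat_lit 3777, nat_lit 3814, nat_lit 3815, nat_lit 3816, nat_lit 10665, nat_lit 10666, nat_lit 10667, nat_lit 10700, nat_lit 11897, nat_lit 11934, nat_lit 11935, nat_lit 11936]], [nat_lit 13, nat_lit 45, nat_lit 54, nat_lit 37], [nat_lit 12, nat_lit 23, nat_lit 5, nat_lit 6, nat_lit 7, nat_lit 3, nat_lit 2, nat_lit 4, nat_lit 1, nat_lit 10, nat_lit 1756, nat_lit 1896]),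
  (nat_lit 0x100000000000100010000010001010001000000010000000000010001000000000100000100000000000000000101000000000000010001, nat_lit 99, [[nat_lit 1811, nat_lit 1812, nat_lit 1854, nat_lit 1855, nat_lit 2839, nat_lit 2840, nat_lit 2884, nat_lit 2885, nat_lit 9931, nat_lit 9932, nat_lit 9974, nat_lit 9975, nat_lit 10959, nat_lit 10960, nat_lit 11004, nat_lit 11005]], [nat_lit 44, nat_lit 29, nat_lit 49, nat_lit 9], [nat_lit 6, nat_lit 30, nat_lit 12, nat_lit 13, nat_lit 1, nat_lit 14, nat_lit 5, nat_lit 7, nat_lit 3, nat_lit 2, nat_lit 10, nat_lit 1756]),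
  (nat_lit 0x10001000001010001010101000000000100000101000100000000000000000000000101000001010000000000000000, nat_lit 0, [[nat_lit 14, nat_lit 5]], [], []),
  (nat_lit 0x100010000000100000100000001000100000000000001010000000000000100000000000100010100000101000001000000010000, nat_lit 99, [[nat_lit 67, nat_lit 143, nat_lit 310, nat_lit 505, nat_lit 577, nat_lit 1221, nat_lit 1232, nat_lit 1699, nat_lit 8187, nat_lit 8263, nat_lit 8430, nat_lit 8625, nat_lit 8697, nat_lit 9341, nat_lit 9352, nat_lit 9819]], [nat_lit 29, nat_lit 6, nat_lit 37, nat_lit 46], [nat_lit 91, nat_lit 121, nat_lit 4, nat_lit 11, nat_lit 10, nat_lit 3, nat_lit 7, nat_lit 1, nat_lit 2, nat_lit 5, nat_lit 6, nat_lit 12]),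
  (nat_lit 0x100010001010000000000000000000000000000000000000000000101010100010100000100010000010101010000, nat_lit 0, [[nat_lit 37, nat_lit 24]], [], []),
  (nat_lit 0x100010001010000000000000000000000000000000000000000000101010101000001010001000000010101010000, nat_lit 0, [[nat_lit 37, nat_lit 24]], [], []),
  (nat_lit 0x1000000010000000100000000010000010000010000000100010000000000010000010000000000000100000100000100010000010001, nat_lit 99, [[nat_lit 2664, nat_lit 2665, nat_lit 2666, nat_lit 2671, nat_lit 3928, nat_lit 3933, nat_lit 3934, nat_lit 3935, nat_lit 10784, nat_lit 10785, nat_lit 10786, nat_lit 10791, nat_lit 12048, nat_lit 12053, nat_lit 12054, nat_lit 12055]], [nat_lit 54, nat_lit 38, nat_lit 0, nat_lit 20], [nat_lit 48, nat_lit 65, nat_lit 33, nat_lit 4, nat_lit 20, nat_lit 1756, nat_lit 1, nat_lit 7, nat_lit 3, nat_lit 2, nat_lit 5, nat_lit 9]),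
  (nat_lit 0x1000100010100000101000100010000000000000000000000000001010101000000000000000000000000000000000000010100000101, nat_lit 0, [[nat_lit 60, nat_lit 6]], [], []),
  (nat_lit 0x10001000001010001010101000000000001010000010001000000000000000000000101000001010000000000000000, nat_lit 0, [[nat_lit 41, nat_lit 24]], [], []),
  (nat_lit 0x1000000000100000000010000000101000100000000000100000100000000000000010100000000010100010000010000000100000100, nat_lit 99, [[nat_lit 6182, nat_lit 6185, nat_lit 7298, nat_lit 7299, nat_lit 7300, nat_lit 7307, nat_lit 7308, nat_lit 7309, nat_lit 14302, nat_lit 14305, nat_lit 15418, nat_lit 15419, nat_lit 15420, nat_lit 15427, nat_lit 15428, nat_lit 15429]], [nat_lit 19, nat_lit 11, nat_lit 39, nat_lit 4], [nat_lit 21, nat_lit 27, nat_lit 11, nat_lit 17, nat_lit 5, nat_lit 4, nat_lit 2, nat_lit 1, nat_lit 3, nat_lit 6, nat_lit 7, nat_lit 5816]),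
  (nat_lit 0x100010100000100000000000000000000000000000000000001010101000001010000010100000001000100010100, nat_lit 0, [[nat_lit 7, nat_lit 5]], [], []),
  (nat_lit 0x1010000010100010001000101000100000100010001000000000000000001010101000000000000000000000000, nat_lit 0, [[nat_lit 41, nat_lit 24]], [], []),
  (nat_lit 0x1000000010000010000000000000101000000000100000000000001000001010000010000000001000000000001000001000101000100, nat_lit 99, [[nat_lit 5844, nat_lit 5845, nat_lit 5846, nat_lit 5857, nat_lit 6860, nat_lit 6875, nat_lit 6876, nat_lit 6877, nat_lit 13964, nat_lit 13965, nat_lit 13966, nat_lit 13977, nat_lit 14980, nat_lit 14995, nat_lit 14996, nat_lit 14997]], [nat_lit 27, nat_lit 23, nat_lit 15, nat_lit 4], [nat_lit 2, nat_lit 11, nat_lit 21, nat_lit 8, nat_lit 16, nat_lit 1, nat_lit 18, nat_lit 9, nat_lit 4, nat_lit 6, nat_lit 1896, nat_lit 5816]),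
  (nat_lit 0x10100000000010100000101000001010001000100010100000000000000000000010001010000010000000000000000, nat_lit 0, [[nat_lit 47, nat_lit 18]], [], []),
  (nat_lit 0x100010001000001000000000000000001000100000101000000000000000000000000000000000000000101010100000101000001010000, nat_lit 0, [[nat_lit 32, nat_lit 30]], [], []),
  (nat_lit 0x100010000010001000000010000010000000001000100000000010000000100000000000100000100000000010001000100000000000100, nat_lit 99, [[nat_lit 6208, nat_lit 6209, nat_lit 6213, nat_lit 6271, nat_lit 7345, nat_lit 7404, nat_lit 7405, nat_lit 7407, nat_lit 14328, nat_lit 14329, nat_lit 14333, nat_lit 14391, nat_lit 15465, nat_lit 15524, nat_lit 15525, nat_lit 15527]], [nat_lit 34, nat_lit 11, nat_lit 25, nat_lit 7], [nat_lit 58, nat_lit 15, nat_lit 16, nat_lit 17, nat_lit 11, nat_lit 5, nat_lit 1, nat_lit 3, nat_lit 6, nat_lit 9, nat_lit 2, nat_lit 5816]),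
  (nat_lit 0x10001000001000001000001000100010001000001000000010000000100000000010001000000000100000000000001000001, nat_lit 99, [[nat_lit 2552, nat_lit 2572, nat_lit 2573, nat_lit 2577, nat_lit 3784, nat_lit 3788, nat_lit 3789, nat_lit 3805, nat_lit 10672, nat_lit 10692, nat_lit 10693, nat_lit 10697, nat_lit 11904, nat_lit 11908, nat_lit 11909, nat_lit 11925]], [nat_lit 45, nat_lit 50, nat_lit 0, nat_lit 17], [nat_lit 66, nat_lit 1, nat_lit 19, nat_lit 15, nat_lit 6, nat_lit 17, nat_lit 11, nat_lit 1756, nat_lit 5, nat_lit 3, nat_lit 8, nat_lit 1896]),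
  (nat_lit 0x1000000000001000101000001010000000001000001000100000000000001000000010000000101000100000000000000000000010001, nat_lit 99, [[nat_lit 1828, nat_lit 1829, nat_lit 1836, nat_lit 1839, nat_lit 2854, nat_lit 2855, nat_lit 2868, nat_lit 2871, nat_lit 9948, nat_lit 9949, nat_lit 9956, nat_lit 9959, nat_lit 10974, nat_lit 10975, nat_lit 10988, nat_lit 10991]], [nat_lit 16, nat_lit 42, nat_lit 54, nat_lit 24], [nat_lit 7, nat_lit 8, nat_lit 10, nat_lit 9, nat_lit 2, nat_lit 12, nat_lit 3, nat_lit 4, nat_lit 5, nat_lit 1, nat_lit 6, nat_lit 1756]),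
  (nat_lit 0x1010001000001000000010000010001000000000000010000010000000100000000000100000101000001000000000001000000000001, nat_lit 99, [[nat_lit 2166, nat_lit 2192, nat_lit 2196, nat_lit 2197, nat_lit 3298, nat_lit 3302, nat_lit 3303, nat_lit 3328, nat_lit 10286, nat_lit 10312, nat_lit 10316, nat_lit 10317, nat_lit 11418, nat_lit 11422, nat_lit 11423, nat_lit 11448]], [nat_lit 16, nat_lit 39, nat_lit 15, nat_lit 6], [nat_lit 12, nat_lit 3, nat_lit 19, nat_lit 18, nat_lit 2, nat_lit 8, nat_lit 4, nat_lit 5, nat_lit 6, nat_lit 1, nat_lit 13, nat_lit 1756]),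
  (nat_lit 0x100000000000001000000010000000100010001000000000001010000000000010000000000010000010100000101000001000000010000, nat_lit 99, [[nat_lit 172, nat_lit 472, nat_lit 951, nat_lit 1296, nat_lit 1362, nat_lit 1375, nat_lit 1398, nat_lit 1589, nat_lit 8292, nat_lit 8592, nat_lit 9071, nat_lit 9416, nat_lit 9482, nat_lit 9495, nat_lit 9518, nat_lit 9709]], [nat_lit 13, nat_lit 44, nat_lit 38, nat_lit 17], [nat_lit 31, nat_lit 28, nat_lit 43, nat_lit 58, nat_lit 26, nat_lit 9, nat_lit 2, nat_lit 7, nat_lit 4, nat_lit 3, nat_lit 1, nat_lit 5])]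

def BK21 : List Ent := [(nat_lit 0x100010000000000000101000000000000000100000100000001000101000100010000000100000000000001000100000000010000000100, nat_lit 99, [[nat_lit 6114, nat_lit 6117, nat_lit 7234, nat_lit 7237, nat_lit 7242, nat_lit 7243, nat_lit 7246, nat_lit 7247, nat_lit 14234, nat_lit 14237, nat_lit 15354, nat_lit 15357, nat_lit 15362, nat_lit 15363, nat_lit 15366, nat_lit 15367]], [nat_lit 27, nat_lit 46, nat_lit 53, nat_lit 12], [nat_lit 7, nat_lit 26, nat_lit 9, nat_lit 22, nat_lit 2, nat_lit 3, nat_lit 10, nat_lit 4, nat_lit 8, nat_lit 5, nat_lit 1, nat_lit 5816]),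
  (nat_lit 0x10000010100010000000000000000000000000000000000010001000100000101000001000100010100010000010100, nat_lit 0, [[nat_lit 40, nat_lit 17]], [], []),
  (nat_lit 0x100000101000100000001010101000001010000010100000000000000000000000101000100010000000000000000000000000000000000, nat_lit 0, [[nat_lit 29, nat_lit 26]], [], []),
  (nat_lit 0x1000100000101000101010100000000000101000001000100000000000000000101000001010000, nat_lit 0, [[nat_lit 40, nat_lit 17]], [], []),
  (nat_lit 0x101000100010000000000000000000000000000000000000101000001000101010000000001010000010100000101, nat_lit 0, [[nat_lit 37, nat_lit 24]], [], []),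
  (nat_lit 0x100000100000000010001000001000000000100000000000000010100010000010000000001000000000001000001010001000001, nat_lit 99, [[nat_lit 2521, nat_lit 2528, nat_lit 3731, nat_lit 3732, nat_lit 3733, nat_lit 3744, nat_lit 3745, nat_lit 3746, nat_lit 10641, nat_lit 10648, nat_lit 11851, nat_lit 11852, nat_lit 11853, nat_lit 11864, nat_lit 11865, nat_lit 11866]], [nat_lit 52, nat_lit 23, nat_lit 0, nat_lit 44], [nat_lit 52, nat_lit 76, nat_lit 59, nat_lit 11, nat_lit 24, nat_lit 1756, nat_lit 4, nat_lit 1, nat_lit 3, nat_lit 8, nat_lit 9, nat_lit 1896]),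
  (nat_lit 0x1000100000101000101010100000000010000010100010000000000000000000101000001010000, nat_lit 0, [[nat_lit 12, nat_lit 7]], [], []),
  (nat_lit 0x101000100010000000000000000000000000000000000010000010100010001010000000001010000010100000101, nat_lit 0, [[nat_lit 25, nat_lit 5]], [], []),
  (nat_lit 0x100000100000000010001000000000100000001000000000001000001000000000100010001000000000001000100010000010001, nat_lit 99, [[nat_lit 2663, nat_lit 2672, nat_lit 2673, nat_lit 2674, nat_lit 3925, nat_lit 3926, nat_lit 3927, nat_lit 3936, nat_lit 10783, nat_lit 10792, nat_lit 10793, nat_lit 10794, nat_lit 12045, nat_lit 12046, nat_lit 12047, nat_lit 12056]], [nat_lit 42, nat_lit 19, nat_lit 37, nat_lit 0], [nat_lit 48, nat_lit 129, nat_lit 20, nat_lit 58, nat_lit 49, nat_lit 1756, nat_lit 1, nat_lit 3, nat_lit 6, nat_lit 2, nat_lit 8, nat_lit 9]),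
  (nat_lit 0x1000100000101000000000001010101000101000001000100000000000000000000010100000101, nat_lit 0, [[nat_lit 32, nat_lit 30]], [], []),
  (nat_lit 0x1000100000101000000000001010101010000010100010000000000000000000000010100000101, nat_lit 0, [[nat_lit 12, nat_lit 7]], [], []),
  (nat_lit 0x1010000000000010000000000010001000100000100010100000001000000000001000100000000000001000000010000000001000001, nat_lit 99, [[nat_lit 2540, nat_lit 2589, nat_lit 3766, nat_lit 3767, nat_lit 3768, nat_lit 3821, nat_lit 3822, nat_lit 3823, nat_lit 10660, nat_lit 10709, nat_lit 11886, nat_lit 11887, nat_lit 11888, nat_lit 11941, nat_lit 11942, nat_lit 11943]], [nat_lit 8, nat_lit 27, nat_lit 54, nat_lit 47], [nat_lit 3, nat_lit 15, nat_lit 22, nat_lit 9, nat_lit 23, nat_lit 2, nat_lit 4, nat_lit 7, nat_lit 1, nat_lit 10, nat_lit 1756, nat_lit 1896]),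
  (nat_lit 0x1000001000000000000000001010000000000000100010100000000000100000101000100000101000000010000000000010001000000, nat_lit 99, [[nat_lit 4198, nat_lit 4325, nat_lit 4607, nat_lit 4717, nat_lit 4936, nat_lit 5419, nat_lit 5553, nat_lit 5621, nat_lit 12318, nat_lit 12445, nat_lit 12727, nat_lit 12837, nat_lit 13056, nat_lit 13539, nat_lit 13673, nat_lit 13741]], [nat_lit 54, nat_lit 34, nat_lit 22, nat_lit 11], [nat_lit 18, nat_lit 33, nat_lit 52, nat_lit 5, nat_lit 3, nat_lit 19, nat_lit 2, nat_lit 1, nat_lit 8, nat_lit 9, nat_lit 13, nat_lit 1896]),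
  (nat_lit 0x10100010000010000000000010000000000010001000101000100000100000001000000000001000100000000010000000100, nat_lit 99, [[nat_lit 6532, nat_lit 6533, nat_lit 7723, nat_lit 7724, nat_lit 7725, nat_lit 7726, nat_lit 7730, nat_lit 7731, nat_lit 14652, nat_lit 14653, nat_lit 15843, nat_lit 15844, nat_lit 15845, nat_lit 15846, nat_lit 15850, nat_lit 15851]], [nat_lit 25, nat_lit 1, nat_lit 18, nat_lit 50], [nat_lit 35, nat_lit 42, nat_lit 11, nat_lit 20, nat_lit 15, nat_lit 8, nat_lit 5, nat_lit 5816, nat_lit 9, nat_lit 3, nat_lit 1, nat_lit 2]),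
  (nat_lit 0x1010001000100010001000001010000000000010101010000000000000000000001010101000000000000000000000000000000000000, nat_lit 0, [[nat_lit 10, nat_lit 4]], [], []),
  (nat_lit 0x101000001000100000000000000000000000000000000010001000100000101000001000100010100010000010100, nat_lit 99, [[nat_lit 5971, nat_lit 5972, nat_lit 6077, nat_lit 6078, nat_lit 6563, nat_lit 6564, nat_lit 7043, nat_lit 7044, nat_lit 7177, nat_lit 7178, nat_lit 7761, nat_lit 7766, nat_lit 7932, nat_lit 7933, nat_lit 7934, nat_lit 7935, nat_lit 14091, nat_lit 14092, nat_lit 14197, nat_lit 14198, nat_lit 14683, nat_lit 14684, nat_lit 15163, nat_lit 15164, nat_lit 15297, nat_lit 15298, nat_lit 15881, nat_lit 15886, nat_lit 16052, nat_lit 16053, nat_lit 16054, nat_lit 16055]], [nat_lit 21, nat_lit 2, nat_lit 42, nat_lit 1, nat_lit 8], [nat_lit 63, nat_lit 32, nat_lit 2, nat_lit 8, nat_lit 5817, nat_lit 9, nat_lit 3, nat_lit 4, nat_lit 5, nat_lit 7, nat_lit 1]),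
  (nat_lit 0x100000100010000000000000101000000000100000000000000010100000000000100010000010000000000010001000101000100, nat_lit 99, [[nat_lit 6793, nat_lit 6802, nat_lit 6803, nat_lit 6804, nat_lit 8075, nat_lit 8076, nat_lit 8077, nat_lit 8086, nat_lit 14913, nat_lit 14922, nat_lit 14923, nat_lit 14924, nat_lit 16195, nat_lit 16196, nat_lit 16197, nat_lit 16206]], [nat_lit 8, nat_lit 26, nat_lit 49, nat_lit 39], [nat_lit 9, nat_lit 30, nat_lit 11, nat_lit 3, nat_lit 6, nat_lit 5, nat_lit 14, nat_lit 13, nat_lit 1, nat_lit 4, nat_lit 1896, nat_lit 5816]),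
  (nat_lit 0x10001000000000000010000000101000100000000000000000001000100000001000001000000010001010001000000000100000100, nat_lit 99, [[nat_lit 6449, nat_lit 6450, nat_lit 6451, nat_lit 6500, nat_lit 7619, nat_lit 7684, nat_lit 7685, nat_lit 7686, nat_lit 14569, nat_lit 14570, nat_lit 14571, nat_lit 14620, nat_lit 15739, nat_lit 15804, nat_lit 15805, nat_lit 15806]], [nat_lit 1, nat_lit 37, nat_lit 44, nat_lit 11], [nat_lit 141, nat_lit 12, nat_lit 30, nat_lit 25, nat_lit 67, nat_lit 16, nat_lit 44, nat_lit 5816, nat_lit 13, nat_lit 1, nat_lit 2, nat_lit 3]),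
  (nat_lit 0x100010001000100000001000000000100000100010000000000010000000100000100010000000001000001000000000001000000000001, nat_lit 99, [[nat_lit 2343, nat_lit 2371, nat_lit 3507, nat_lit 3508, nat_lit 3509, nat_lit 3535, nat_lit 3536, nat_lit 3537, nat_lit 10463, nat_lit 10491, nat_lit 11627, nat_lit 11628, nat_lit 11629, nat_lit 11655, nat_lit 11656, nat_lit 11657]], [nat_lit 40, nat_lit 15, nat_lit 0, nat_lit 49], [nat_lit 3, nat_lit 2, nat_lit 39, nat_lit 62, nat_lit 73, nat_lit 1756, nat_lit 4, nat_lit 1, nat_lit 5, nat_lit 7, nat_lit 6, nat_lit 12]),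
  (nat_lit 0x100010100000100000000000000000000000000000000000001010101000000000101000001010100010001000001, nat_lit 0, [[nat_lit 45, nat_lit 20]], [], []),
  (nat_lit 0x10100000000010100000000000000000000000000000000010000010001000100010001010000010101010100000000, nat_lit 0, [[nat_lit 40, nat_lit 17]], [], []),
  (nat_lit 0x1010000010001000001010101000001010000010100000000000000000000000101000100010000000000000000000000000000000000, nat_lit 0, [[nat_lit 29, nat_lit 26]], [], []),
  (nat_lit 0x1000101000001010101010000000000000000000000000101000000000101000000000000000000000000000000000100000100010001, nat_lit 0, [[nat_lit 18, nat_lit 3]], [], []),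
  (nat_lit 0x1000000000001000101000001010000000100000000010000010001000000010000000001000001000100000000000000000001000100, nat_lit 99, [[nat_lit 5883, nat_lit 5884, nat_lit 5900, nat_lit 5901, nat_lit 6911, nat_lit 6912, nat_lit 6934, nat_lit 6935, nat_lit 14003, nat_lit 14004, nat_lit 14020, nat_lit 14021, nat_lit 15031, nat_lit 15032, nat_lit 15054, nat_lit 15055]], [nat_lit 29, nat_lit 37, nat_lit 3, nat_lit 54], [nat_lit 113, nat_lit 41, nat_lit 315, nat_lit 1896, nat_lit 1, nat_lit 4, nat_lit 10, nat_lit 8, nat_lit 7, nat_lit 3, nat_lit 2, nat_lit 5816]),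
  (nat_lit 0x100010000010001000000010000010001000000000000010100000000010000000000000001010000000000010001000001000000000001, nat_lit 99, [[nat_lit 2162, nat_lit 2163, nat_lit 2165, nat_lit 2201, nat_lit 3297, nat_lit 3330, nat_lit 3331, nat_lit 3333, nat_lit 10282, nat_lit 10283, nat_lit 10285, nat_lit 10321, nat_lit 11417, nat_lit 11450, nat_lit 11451, nat_lit 11453]], [nat_lit 26, nat_lit 9, nat_lit 0, nat_lit 53], [nat_lit 8, nat_lit 19, nat_lit 30, nat_lit 23, nat_lit 17, nat_lit 1, nat_lit 15, nat_lit 1757, nat_lit 4, nat_lit 2, nat_lit 3, nat_lit 10]),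
  (nat_lit 0x10100000101000100010001010001000001000100010000000000000000000000000101010100000000000000000000000000000000, nat_lit 0, [[nat_lit 63, nat_lit 35]], [], []),
  (nat_lit 0x1000000000001000101000100000100010000000100000000000100010000010000000001000000000000010000010000000001000100, nat_lit 99, [[nat_lit 5871, nat_lit 5872, nat_lit 5914, nat_lit 5915, nat_lit 6899, nat_lit 6900, nat_lit 6944, nat_lit 6945, nat_lit 13991, nat_lit 13992, nat_lit 14034, nat_lit 14035, nat_lit 15019, nat_lit 15020, nat_lit 15064, nat_lit 15065]], [nat_lit 26, nat_lit 1, nat_lit 11, nat_lit 40], [nat_lit 12, nat_lit 26, nat_lit 64, nat_lit 32, nat_lit 2, nat_lit 8, nat_lit 14, nat_lit 5816, nat_lit 1896, nat_lit 1, nat_lit 3, nat_lit 4])]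

def BK22 : List Ent := [(nat_lit 0x101000000010000010001010000010000000100000000010001000000000100000100000001000100000000000000000001000100, nat_lit 99, [[nat_lit 5882, nat_lit 5885, nat_lit 5902, nat_lit 5903, nat_lit 6910, nat_lit 6913, nat_lit 6932, nat_lit 6933, nat_lit 14002, nat_lit 14005, nat_lit 14022, nat_lit 14023, nat_lit 15030, nat_lit 15033, nat_lit 15052, nat_lit 15053]], [nat_lit 27, nat_lit 19, nat_lit 51, nat_lit 1], [nat_lit 42, nat_lit 15, nat_lit 26, nat_lit 27, nat_lit 21, nat_lit 5816, nat_lit 1896, nat_lit 4, nat_lit 1, nat_lit 2, nat_lit 6, nat_lit 3]),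
  (nat_lit 0x100010000010100000000000000000001000001010001000000000000000000000000000000000001000100010000010100000100010001, nat_lit 0, [[nat_lit 13, nat_lit 1]], [], []),
  (nat_lit 0x1000100010100000000000000000001000100000101000000000000000000000000000000000001010000000001010101000001010000, nat_lit 0, [[nat_lit 41, nat_lit 37]], [], []),
  (nat_lit 0x10100000000000100010000000100000100000001010000010100000001000000000101000000000000010000000100000001, nat_lit 99, [[nat_lit 2444, nat_lit 2445, nat_lit 2492, nat_lit 2499, nat_lit 3636, nat_lit 3637, nat_lit 3692, nat_lit 3699, nat_lit 10564, nat_lit 10565, nat_lit 10612, nat_lit 10619, nat_lit 11756, nat_lit 11757, nat_lit 11812, nat_lit 11819]], [nat_lit 50, nat_lit 15, nat_lit 30, nat_lit 34], [nat_lit 54, nat_lit 46, nat_lit 17, nat_lit 40, nat_lit 24, nat_lit 4, nat_lit 6, nat_lit 10, nat_lit 1, nat_lit 2, nat_lit 3, nat_lit 1756]),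
  (nat_lit 0x1010000010100000000010000010000000100010000000100000000010000000000000001010000000000000100010000010000010000, nat_lit 99, [[nat_lit 9, nat_lit 508, nat_lit 511, nat_lit 605, nat_lit 843, nat_lit 1218, nat_lit 1349, nat_lit 1650, nat_lit 8129, nat_lit 8628, nat_lit 8631, nat_lit 8725, nat_lit 8963, nat_lit 9338, nat_lit 9469, nat_lit 9770]], [nat_lit 5, nat_lit 26, nat_lit 17, nat_lit 10], [nat_lit 47, nat_lit 4, nat_lit 22, nat_lit 14, nat_lit 2, nat_lit 1, nat_lit 8, nat_lit 10, nat_lit 12, nat_lit 17, nat_lit 3, nat_lit 6]),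
  (nat_lit 0x10000010000000100010100010000000001000001000000010001000000000000010000000101000100000000000000000001000100, nat_lit 99, [[nat_lit 5877, nat_lit 5878, nat_lit 5879, nat_lit 5880, nat_lit 5906, nat_lit 5907, nat_lit 6936, nat_lit 6937, nat_lit 13997, nat_lit 13998, nat_lit 13999, nat_lit 14000, nat_lit 14026, nat_lit 14027, nat_lit 15056, nat_lit 15057]], [nat_lit 3, nat_lit 27, nat_lit 16, nat_lit 15], [nat_lit 8, nat_lit 39, nat_lit 19, nat_lit 37, nat_lit 24, nat_lit 1896, nat_lit 2, nat_lit 5, nat_lit 9, nat_lit 3, nat_lit 4, nat_lit 5816]),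
  (nat_lit 0x10000010100010000000000000000000000000000000000000100010001010001000001000100010001000101000001, nat_lit 0, [[nat_lit 40, nat_lit 17]], [], []),
  (nat_lit 0x100000101000100000001010101000000000000000000000100010001000001000000000000000000000000000000000000000001010101, nat_lit 0, [[nat_lit 25, nat_lit 1]], [], []),
  (nat_lit 0x101000001010000000100010001010000000000000000000001000101000001000000000000000000000000000000000000010101010000, nat_lit 0, [[nat_lit 71, nat_lit 68]], [], []),
  (nat_lit 0x100010000010100000000000000000000010100000100010000000000000000000000000000000001000100010000010100000100010001, nat_lit 99, [[nat_lit 1774, nat_lit 1783, nat_lit 1880, nat_lit 1885, nat_lit 2640, nat_lit 2645, nat_lit 2772, nat_lit 2777, nat_lit 2794, nat_lit 2799, nat_lit 2928, nat_lit 2937, nat_lit 3882, nat_lit 3887, nat_lit 4054, nat_lit 4059, nat_lit 9894, nat_lit 9903, nat_lit 10000, nat_lit 10005, nat_lit 10760, nat_lit 10765, nat_lit 10892, nat_lit 10897, nat_lit 10914, nat_lit 10919, nat_lit 11048, nat_lit 11057,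 nat_lit 12002, nat_lit 12007, nat_lit 12174, nat_lit 12179]], [nat_lit 50, nat_lit 0, nat_lit 13, nat_lit 55, nat_lit 11], [nat_lit 1911, nat_lit 6, nat_lit 17, nat_lit 1, nat_lit 12, nat_lit 15, nat_lit 3, nat_lit 5, nat_lit 13, nat_lit 2, nat_lit 7]),
  (nat_lit 0x100000100000000010001000000000001000000010100010000000000000101000000000001000000000001000100010001000100, nat_lit 99, [[nat_lit 6812, nat_lit 6827, nat_lit 6828, nat_lit 6829, nat_lit 8100, nat_lit 8101, nat_lit 8102, nat_lit 8113, nat_lit 14932, nat_lit 14947, nat_lit 14948, nat_lit 14949, nat_lit 16220, nat_lit 16221, nat_lit 16222, nat_lit 16233]], [nat_lit 44, nat_lit 21, nat_lit 31, nat_lit 52], [nat_lit 1, nat_lit 13, nat_lit 2, nat_lit 4, nat_lit 6, nat_lit 5, nat_lit 3, nat_lit 8, nat_lit 9, nat_lit 12, nat_lit 1896, nat_lit 5816]),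
  (nat_lit 0x10000000100010001000000000000000000000100010000000101000000010000010001010001000000010000000100000000000001, nat_lit 99, [[nat_lit 2240, nat_lit 2241, nat_lit 2242, nat_lit 2243, nat_lit 3380, nat_lit 3381, nat_lit 3382, nat_lit 3383, nat_lit 10360, nat_lit 10361, nat_lit 10362, nat_lit 10363, nat_lit 11500, nat_lit 11501, nat_lit 11502, nat_lit 11503]], [nat_lit 7, nat_lit 28, nat_lit 34, nat_lit 15], [nat_lit 12, nat_lit 25, nat_lit 31, nat_lit 8, nat_lit 2, nat_lit 4, nat_lit 13, nat_lit 6, nat_lit 5, nat_lit 3, nat_lit 1, nat_lit 1756]),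
  (nat_lit 0x100000101000100010100000000010100000000000000000001000100010100000000000000000000000000000000000101010100000000, nat_lit 0, [[nat_lit 10, nat_lit 6]], [], []),
  (nat_lit 0x1000100000000000000000001000100000001010000000001000101000100000001000000000100000001000100000000010000000100, nat_lit 99, [[nat_lit 6524, nat_lit 6525, nat_lit 6529, nat_lit 6534, nat_lit 7720, nat_lit 7721, nat_lit 7729, nat_lit 7734, nat_lit 14644, nat_lit 14645, nat_lit 14649, nat_lit 14654, nat_lit 15840, nat_lit 15841, nat_lit 15849, nat_lit 15854]], [nat_lit 5, nat_lit 27, nat_lit 42, nat_lit 10], [nat_lit 42, nat_lit 17, nat_lit 31, nat_lit 34, nat_lit 3, nat_lit 6, nat_lit 9, nat_lit 5, nat_lit 1, nat_lit 2, nat_lit 4, nat_lit 5816]),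
  (nat_lit 0x101000000000100010001000100010000000100000000010001000000000001000000010000000000000101000000000000010001, nat_lit 99, [[nat_lit 1814, nat_lit 1815, nat_lit 1849, nat_lit 1850, nat_lit 2844, nat_lit 2845, nat_lit 2881, nat_lit 2882, nat_lit 9934, nat_lit 9935, nat_lit 9969, nat_lit 9970, nat_lit 10964, nat_lit 10965, nat_lit 11001, nat_lit 11002]], [nat_lit 27, nat_lit 2, nat_lit 21, nat_lit 9], [nat_lit 2, nat_lit 95, nat_lit 15, nat_lit 14, nat_lit 4, nat_lit 8, nat_lit 7, nat_lit 3, nat_lit 5, nat_lit 9, nat_lit 1, nat_lit 1756]),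
  (nat_lit 0x10100000000010100000000000000000000000000000000000101000100010001000100000101000000000001010101, nat_lit 0, [[nat_lit 45, nat_lit 20]], [], []),
  (nat_lit 0x1010001000100000100010100000101010101000000000000000000000000010100000000010100000000000000000000000000000000, nat_lit 0, [[nat_lit 7, nat_lit 5]], [], []),
  (nat_lit 0x1000001000000000000000100000100000000010001000000000101000000010000010100000100000100000000010000000100010000, nat_lit 99, [[nat_lit 271, nat_lit 401, nat_lit 703, nat_lit 727, nat_lit 860, nat_lit 955, nat_lit 1141, nat_lit 1396, nat_lit 8391, nat_lit 8521, nat_lit 8823, nat_lit 8847, nat_lit 8980, nat_lit 9075, nat_lit 9261, nat_lit 9516]], [nat_lit 4, nat_lit 20, nat_lit 27, nat_lit 13], [nat_lit 60, nat_lit 31, nat_lit 34, nat_lit 1, nat_lit 11, nat_lit 6, nat_lit 3, nat_lit 2, nat_lit 5, nat_lit 4, nat_lit 7, nat_lit 13]),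
  (nat_lit 0x1000100000100000000000101000001000101000001000000010000000000010001000001000000000100000000000001000001, nat_lit 99, [[nat_lit 1954, nat_lit 1955, nat_lit 1956, nat_lit 1981, nat_lit 1982, nat_lit 1983, nat_lit 3032, nat_lit 3061, nat_lit 10074, nat_lit 10075, nat_lit 10076, nat_lit 10101, nat_lit 10102, nat_lit 10103, nat_lit 11152, nat_lit 11181]], [nat_lit 20, nat_lit 30, nat_lit 36, nat_lit 51], [nat_lit 56, nat_lit 28, nat_lit 6, nat_lit 15, nat_lit 13, nat_lit 4, nat_lit 12, nat_lit 23, nat_lit 3, nat_lit 10, nat_lit 1756, nat_lit 1896]),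
  (nat_lit 0x101000001000100000000000000000000000000000000000100010001010001000001000100010001000101000001, nat_lit 99, [[nat_lit 2016, nat_lit 2021, nat_lit 2501, nat_lit 2502, nat_lit 2634, nat_lit 2639, nat_lit 2978, nat_lit 2979, nat_lit 2986, nat_lit 2987, nat_lit 3114, nat_lit 3119, nat_lit 3707, nat_lit 3708, nat_lit 3870, nat_lit 3879, nat_lit 10136, nat_lit 10141, nat_lit 10621, nat_lit 10622, nat_lit 10754, nat_lit 10759, nat_lit 11098, nat_lit 11099, nat_lit 11106, nat_lit 11107, nat_lit 11234, nat_lit 11239, nat_lit 11827, nat_lit 11828, nat_lit 11990, nat_lit 11999]], [nat_lit 10, nat_lit 22, nat_lit 6, nat_lit 12, nat_lit 0], [nat_lit 25, nat_lit 5, nat_lit 15, nat_lit 1763, nat_lit 1, nat_lit 3, nat_lit 4, nat_lit 6, nat_lit 7, nat_lit 8, nat_lit 1896]),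
  (nat_lit 0x10101010101010101010101010101010000000000000000000000000000000000000000000000000000000000000000, nat_lit 0, [[nat_lit 14, nat_lit 5]], [], []),
  (nat_lit 0x100000100000000000100000000000101000001010000010100000001000000000100000000010000000100000001000100010000000000, nat_lit 99, [[nat_lit 4321, nat_lit 4474, nat_lit 4514, nat_lit 5153, nat_lit 5544, nat_lit 5642, nat_lit 5661, nat_lit 5789, nat_lit 12441, nat_lit 12594, nat_lit 12634, nat_lit 13273, nat_lit 13664, nat_lit 13762, nat_lit 13781, nat_lit 13909]], [nat_lit 7, nat_lit 55, nat_lit 46, nat_lit 13], [nat_lit 5, nat_lit 3, nat_lit 6, nat_lit 7, nat_lit 4, nat_lit 8, nat_lit 2, nat_lit 10, nat_lit 15, nat_lit 12, nat_lit 1, nat_lit 9]),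
  (nat_lit 0x10100000000000001000100010000000000010100010000010001000001000000000100000100010000000000000100000001, nat_lit 99, [[nat_lit 2052, nat_lit 2059, nat_lit 2064, nat_lit 2065, nat_lit 3172, nat_lit 3179, nat_lit 3180, nat_lit 3181, nat_lit 10172, nat_lit 10179, nat_lit 10184, nat_lit 10185, nat_lit 11292, nat_lit 11299, nat_lit 11300, nat_lit 11301]], [nat_lit 26, nat_lit 16, nat_lit 49, nat_lit 38], [nat_lit 122, nat_lit 9, nat_lit 20, nat_lit 1, nat_lit 3, nat_lit 8, nat_lit 10, nat_lit 4, nat_lit 7, nat_lit 2, nat_lit 5, nat_lit 1756]),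
  (nat_lit 0x10000010000010001000001000100000100000000010100000000000001010000000001000001000100000000000000000000010001, nat_lit 99, [[nat_lit 2700, nat_lit 2703, nat_lit 2708, nat_lit 2709, nat_lit 3964, nat_lit 3967, nat_lit 3980, nat_lit 3981, nat_lit 10820, nat_lit 10823, nat_lit 10828, nat_lit 10829, nat_lit 12084, nat_lit 12087, nat_lit 12100, nat_lit 12101]], [nat_lit 0, nat_lit 23, nat_lit 15, nat_lit 53], [nat_lit 144, nat_lit 1763, nat_lit 13, nat_lit 4, nat_lit 10, nat_lit 8, nat_lit 22, nat_lit 2, nat_lit 12, nat_lit 6, nat_lit 3, nat_lit 1]),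
  (nat_lit 0x100000001000000000001010001000001000000000000000101000000010001000100010000000100000000010000000100010000, nat_lit 99, [[nat_lit 71, nat_lit 90, nat_lit 680, nat_lit 893, nat_lit 1303, nat_lit 1478, nat_lit 1503, nat_lit 1652, nat_lit 8191, nat_lit 8210, nat_lit 8800, nat_lit 9013, nat_lit 9423, nat_lit 9598, nat_lit 9623, nat_lit 9772]], [nat_lit 2, nat_lit 23, nat_lit 28, nat_lit 42], [nat_lit 22, nat_lit 37, nat_lit 7, nat_lit 8, nat_lit 24, nat_lit 25, nat_lit 2, nat_lit 9, nat_lit 12, nat_lit 3, nat_lit 1, nat_lit 10]),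
  (nat_lit 0x100000101000001000100000001000000010000000001000000010000000100000000000001010000010100000000000000010000010000, nat_lit 99, [[nat_lit 17, nat_lit 170, nat_lit 213, nat_lit 687, nat_lit 950, nat_lit 1378, nat_lit 1666, nat_lit 1715, nat_lit 8137, nat_lit 8290, nat_lit 8333, nat_lit 8807, nat_lit 9070, nat_lit 9498, nat_lit 9786, nat_lit 9835]], [nat_lit 13, nat_lit 29, nat_lit 2, nat_lit 52], [nat_lit 12, nat_lit 2, nat_lit 32, nat_lit 29, nat_lit 14, nat_lit 21, nat_lit 1, nat_lit 6, nat_lit 3, nat_lit 5, nat_lit 4, nat_lit 9]),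
  (nat_lit 0x1000101000001000000000000000000000000000000000000010101010000000001010000010100010001000101000000000000000000, nat_lit 0, [[nat_lit 18, nat_lit 3]], [], []),
  (nat_lit 0x1010000010001000001010101000000000000000000000100010001000001000000000000000000000000000000000000000001010101, nat_lit 0, [[nat_lit 31, nat_lit 18]], [], []),
  (nat_lit 0x10100000101010001000100000100000000000000000100010000010100000000000000000000000000000000000101000000000101, nat_lit 0, [[nat_lit 23, nat_lit 19]], [], []),
  (nat_lit 0x1010000010001010100000000010100000000000000000001000100010100000000000000000000000000000000000101010100000000, nat_lit 0, [[nat_lit 49, nat_lit 48]], [], []),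
  (nat_lit 0x100000000000001000000010000000100000000000101000000000001000100000001000001000001000001010000010000010000000001, nat_lit 99, [[nat_lit 2397, nat_lit 2430, nat_lit 2431, nat_lit 2432, nat_lit 3567, nat_lit 3568, nat_lit 3569, nat_lit 3618, nat_lit 10517, nat_lit 10550, nat_lit 10551, nat_lit 10552, nat_lit 11687, nat_lit 11688, nat_lit 11689, nat_lit 11738]], [nat_lit 0, nat_lit 27, nat_lit 21, nat_lit 44], [nat_lit 18, nat_lit 23, nat_lit 75, nat_lit 1756, nat_lit 7, nat_lit 1, nat_lit 6, nat_lit 3, nat_lit 2, nat_lit 4, nat_lit 8, nat_lit 9])]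

def BK23 : List Ent := [(nat_lit 0x101000001010000000000000000000000010100010001000000000000000000000000000000000000010100000100010000010101010000, nat_lit 0, [[nat_lit 41, nat_lit 37]], [], []),
  (nat_lit 0x10101010000000000000000000000010001000101000000000000000000000000000000000000000000010101010100000101000100, nat_lit 0, [[nat_lit 43, nat_lit 28]], [], []),
  (nat_lit 0x10101010000000000000000000000010001000101000000000000000000000000000000000000000000010101010001010000010001, nat_lit 0, [[nat_lit 35, nat_lit 30]], [], []),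
  (nat_lit 0x101000001010000000000000000000000010100010001000000000000000000000000000000000001000001010001000000010101010000, nat_lit 0, [[nat_lit 41, nat_lit 37]], [], []),
  (nat_lit 0x1010001000100000000000000000001010101000000000000000000000000000000000000000000000101000001010001000100010100, nat_lit 0, [[nat_lit 41, nat_lit 37]], [], []),
  (nat_lit 0x10000010000000100010100010001000000010000000000000100010000000001000000010001000100000000000001010000000000, nat_lit 99, [[nat_lit 4349, nat_lit 4389, nat_lit 4396, nat_lit 4505, nat_lit 4577, nat_lit 5185, nat_lit 5770, nat_lit 5809, nat_lit 12469, nat_lit 12509, nat_lit 12516, nat_lit 12625, nat_lit 12697, nat_lit 13305, nat_lit 13890, nat_lit 13929]], [nat_lit 13, nat_lit 50, nat_lit 39, nat_lit 43], [nat_lit 16, nat_lit 38, nat_lit 74, nat_lit 43, nat_lit 13, nat_lit 12, nat_lit 6, nat_lit 7, nat_lit 1, nat_lit 5, nat_lit 3, nat_lit 2]),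
  (nat_lit 0x101000100010000000000000000000000000000000000000101000001000100000101010100000000010100000101, nat_lit 0, [[nat_lit 37, nat_lit 24]], [], []),
  (nat_lit 0x101000100010000000000000000000000000000000000010000010100010000000101010100000000010100000101, nat_lit 0, [[nat_lit 37, nat_lit 24]], [], []),
  (nat_lit 0x1000001000000010001000000000000000000010001000000000101000000010000010001010000010000000100000000010001000000, nat_lit 99, [[nat_lit 4254, nat_lit 4595, nat_lit 4596, nat_lit 4748, nat_lit 4847, nat_lit 5133, nat_lit 5464, nat_lit 5536, nat_lit 12374, nat_lit 12715, nat_lit 12716, nat_lit 12868, nat_lit 12967, nat_lit 13253, nat_lit 13584, nat_lit 13656]], [nat_lit 17, nat_lit 27, nat_lit 35, nat_lit 10], [nat_lit 2, nat_lit 18, nat_lit 19, nat_lit 1, nat_lit 10, nat_lit 4, nat_lit 7, nat_lit 3, nat_lit 6, nat_lit 9, nat_lit 13, nat_lit 1896]),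
  (nat_lit 0x1000000010000000001000100000001000000000100000000000001000001000101000000000000000001010000000100000101000001, nat_lit 99, [[nat_lit 2029, nat_lit 2030, nat_lit 2031, nat_lit 2032, nat_lit 3127, nat_lit 3128, nat_lit 3129, nat_lit 3130, nat_lit 10149, nat_lit 10150, nat_lit 10151, nat_lit 10152, nat_lit 11247, nat_lit 11248, nat_lit 11249, nat_lit 11250]], [nat_lit 0, nat_lit 45, nat_lit 54, nat_lit 39], [nat_lit 9, nat_lit 39, nat_lit 5, nat_lit 16, nat_lit 20, nat_lit 1756, nat_lit 1, nat_lit 3, nat_lit 4, nat_lit 6, nat_lit 2, nat_lit 1896]),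
  (nat_lit 0x101010101010101000000000000000001010101010101010000000000000000, nat_lit 0, [[nat_lit 13, nat_lit 1]], [], []),
  (nat_lit 0x1000001000000000000000001010000010100000000000001000000000001010001000001000101000000010000000001000000000100, nat_lit 99, [[nat_lit 6289, nat_lit 6290, nat_lit 6309, nat_lit 6310, nat_lit 7425, nat_lit 7426, nat_lit 7461, nat_lit 7462, nat_lit 14409, nat_lit 14410, nat_lit 14429, nat_lit 14430, nat_lit 15545, nat_lit 15546, nat_lit 15581, nat_lit 15582]], [nat_lit 51, nat_lit 42, nat_lit 11, nat_lit 24], [nat_lit 15, nat_lit 17, nat_lit 6, nat_lit 22, nat_lit 7, nat_lit 29, nat_lit 2, nat_lit 3, nat_lit 1, nat_lit 5, nat_lit 8, nat_lit 5816]),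
  (nat_lit 0x1000100000001000001000001000100000100010000000100000100000001000100000000000001000000010100010000000000, nat_lit 99, [[nat_lit 4066, nat_lit 4625, nat_lit 4731, nat_lit 4939, nat_lit 4949, nat_lit 5056, nat_lit 5617, nat_lit 5674, nat_lit 12186, nat_lit 12745, nat_lit 12851, nat_lit 13059, nat_lit 13069, nat_lit 13176, nat_lit 13737, nat_lit 13794]], [nat_lit 5, nat_lit 51, nat_lit 8, nat_lit 45], [nat_lit 64, nat_lit 24, nat_lit 9, nat_lit 23, nat_lit 5, nat_lit 14, nat_lit 1, nat_lit 13, nat_lit 4, nat_lit 2, nat_lit 3, nat_lit 10]),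
  (nat_lit 0x100000100000000000000010100000001000100000100010001000000010000000001000100000000000001000000010001000100000000, nat_lit 99, [[nat_lit 403, nat_lit 449, nat_lit 475, nat_lit 625, nat_lit 752, nat_lit 1371, nat_lit 1713, nat_lit 1754, nat_lit 8523, nat_lit 8569, nat_lit 8595, nat_lit 8745, nat_lit 8872, nat_lit 9491, nat_lit 9833, nat_lit 9874]], [nat_lit 30, nat_lit 19, nat_lit 12, nat_lit 4], [nat_lit 27, nat_lit 30, nat_lit 34, nat_lit 11, nat_lit 3, nat_lit 6, nat_lit 12, nat_lit 14, nat_lit 4, nat_lit 2, nat_lit 1, nat_lit 7]),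
  (nat_lit 0x1000100000000010000010000000000010000000000010001000100010001000001000000000100000100010000000000010000000100, nat_lit 99, [[nat_lit 6537, nat_lit 6544, nat_lit 7706, nat_lit 7707, nat_lit 7714, nat_lit 7715, nat_lit 7737, nat_lit 7740, nat_lit 14657, nat_lit 14664, nat_lit 15826, nat_lit 15827, nat_lit 15834, nat_lit 15835, nat_lit 15857, nat_lit 15860]], [nat_lit 11, nat_lit 16, nat_lit 26, nat_lit 1], [nat_lit 42, nat_lit 14, nat_lit 15, nat_lit 24, nat_lit 21, nat_lit 8, nat_lit 5, nat_lit 5816, nat_lit 9, nat_lit 3, nat_lit 1, nat_lit 2]),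
  (nat_lit 0x100010000010100000000000101010100000000000000000000010101010000000000000000000000000000000000000001010001000100, nat_lit 0, [[nat_lit 29, nat_lit 5]], [], []),
  (nat_lit 0x101010100000000000000000000000000000000010100000101000000010001000101000100000100010001, nat_lit 0, [[nat_lit 32, nat_lit 2]], [], []),
  (nat_lit 0x1000000000100000000010000000101000100000000000100000100000000000000010100000001000001000101000000000100000100, nat_lit 99, [[nat_lit 6453, nat_lit 6496, nat_lit 7623, nat_lit 7624, nat_lit 7625, nat_lit 7680, nat_lit 7681, nat_lit 7682, nat_lit 14573, nat_lit 14616, nat_lit 15743, nat_lit 15744, nat_lit 15745, nat_lit 15800, nat_lit 15801, nat_lit 15802]], [nat_lit 19, nat_lit 1, nat_lit 15, nat_lit 39], [nat_lit 218, nat_lit 69, nat_lit 14, nat_lit 42, nat_lit 67, nat_lit 5816, nat_lit 1, nat_lit 2, nat_lit 6, nat_lit 3, nat_lit 5, nat_lit 4]),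
  (nat_lit 0x1000001000000000000000100000100010100000000000001000000000001010000010001010000000100000000010000010001000000, nat_lit 99, [[nat_lit 4530, nat_lit 4641, nat_lit 4671, nat_lit 4709, nat_lit 4990, nat_lit 5250, nat_lit 5532, nat_lit 5706, nat_lit 12650, nat_lit 12761, nat_lit 12791, nat_lit 12829, nat_lit 13110, nat_lit 13370, nat_lit 13652, nat_lit 13826]], [nat_lit 30, nat_lit 13, nat_lit 43, nat_lit 23], [nat_lit 3, nat_lit 5, nat_lit 10, nat_lit 18, nat_lit 4, nat_lit 1, nat_lit 2, nat_lit 6, nat_lit 7, nat_lit 9, nat_lit 13, nat_lit 1896]),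
  (nat_lit 0x100000000000001000100000100000000010001000000000001010000000000000100000000000100010001000100010000000100000100, nat_lit 99, [[nat_lit 6466, nat_lit 6467, nat_lit 6468, nat_lit 6479, nat_lit 7646, nat_lit 7661, nat_lit 7662, nat_lit 7663, nat_lit 14586, nat_lit 14587, nat_lit 14588, nat_lit 14599, nat_lit 15766, nat_lit 15781, nat_lit 15782, nat_lit 15783]], [nat_lit 55, nat_lit 43, nat_lit 16, nat_lit 14], [nat_lit 2, nat_lit 48, nat_lit 10, nat_lit 3, nat_lit 4, nat_lit 9, nat_lit 7, nat_lit 1, nat_lit 6, nat_lit 5, nat_lit 12, nat_lit 5816]),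
  (nat_lit 0x100000001000100010000000000010100000000000100000000000100000101000001010000010000000100000100000000000001, nat_lit 99, [[nat_lit 3368, nat_lit 3369, nat_lit 3372, nat_lit 3373, nat_lit 3394, nat_lit 3395, nat_lit 3398, nat_lit 3399, nat_lit 11488, nat_lit 11489, nat_lit 11492, nat_lit 11493, nat_lit 11514, nat_lit 11515, nat_lit 11518, nat_lit 11519]], [nat_lit 18, nat_lit 46, nat_lit 0, nat_lit 31], [nat_lit 117, nat_lit 222, nat_lit 29, nat_lit 35, nat_lit 13, nat_lit 1756, nat_lit 4, nat_lit 2, nat_lit 3, nat_lit 6, nat_lit 8, nat_lit 1]),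
  (nat_lit 0x1000001000000000100010000000001010000000100000101000001000001000000000100000001000100000001000001000000, nat_lit 99, [[nat_lit 4165, nat_lit 4271, nat_lit 4436, nat_lit 4457, nat_lit 4991, nat_lit 5336, nat_lit 5396, nat_lit 5475, nat_lit 12285, nat_lit 12391, nat_lit 12556, nat_lit 12577, nat_lit 13111, nat_lit 13456, nat_lit 13516, nat_lit 13595]], [nat_lit 48, nat_lit 41, nat_lit 21, nat_lit 28], [nat_lit 17, nat_lit 22, nat_lit 14, nat_lit 5, nat_lit 3, nat_lit 4, nat_lit 8, nat_lit 20, nat_lit 2, nat_lit 1, nat_lit 6, nat_lit 1896]),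
  (nat_lit 0x100000000000001000100000100000001000100000000000000000000010001010000000000010000010001000100010001000000010000, nat_lit 99, [[nat_lit 407, nat_lit 438, nat_lit 554, nat_lit 1220, nat_lit 1515, nat_lit 1622, nat_lit 1703, nat_lit 1746, nat_lit 8527, nat_lit 8558, nat_lit 8674, nat_lit 9340, nat_lit 9635, nat_lit 9742, nat_lit 9823, nat_lit 9866]], [nat_lit 55, nat_lit 39, nat_lit 46, nat_lit 24], [nat_lit 31, nat_lit 2, nat_lit 15, nat_lit 6, nat_lit 12, nat_lit 18, nat_lit 3, nat_lit 4, nat_lit 10, nat_lit 8, nat_lit 7, nat_lit 1]),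
  (nat_lit 0x1010001000001010000000100000001000000000000010000010000000100010001000000000000000000000100010000000101000000, nat_lit 99, [[nat_lit 4241, nat_lit 4299, nat_lit 4341, nat_lit 4398, nat_lit 4611, nat_lit 5098, nat_lit 5171, nat_lit 5306, nat_lit 12361, nat_lit 12419, nat_lit 12461, nat_lit 12518, nat_lit 12731, nat_lit 13218, nat_lit 13291, nat_lit 13426]], [nat_lit 48, nat_lit 25, nat_lit 3, nat_lit 32], [nat_lit 15, nat_lit 14, nat_lit 17, nat_lit 22, nat_lit 74, nat_lit 1897, nat_lit 4, nat_lit 6, nat_lit 2, nat_lit 1, nat_lit 3, nat_lit 7]),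
  (nat_lit 0x100000101000001000001000000000100000001000100000001000001000000000000000100000100000000010001000000000101000000, nat_lit 99, [[nat_lit 4069, nat_lit 4568, nat_lit 4571, nat_lit 4665, nat_lit 4903, nat_lit 5278, nat_lit 5409, nat_lit 5710, nat_lit 12189, nat_lit 12688, nat_lit 12691, nat_lit 12785, nat_lit 13023, nat_lit 13398, nat_lit 13529, nat_lit 13830]], [nat_lit 30, nat_lit 45, nat_lit 9, nat_lit 4], [nat_lit 5, nat_lit 23, nat_lit 29, nat_lit 3, nat_lit 6, nat_lit 11, nat_lit 10, nat_lit 2, nat_lit 4, nat_lit 12, nat_lit 1, nat_lit 1896]),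
  (nat_lit 0x1000001000000000001000100000001010000000001010000010100000000010000010000010000000001000000010000000100, nat_lit 99, [[nat_lit 6096, nat_lit 6097, nat_lit 6144, nat_lit 6151, nat_lit 7208, nat_lit 7209, nat_lit 7264, nat_lit 7271, nat_lit 14216, nat_lit 14217, nat_lit 14264, nat_lit 14271, nat_lit 15328, nat_lit 15329, nat_lit 15384, nat_lit 15391]], [nat_lit 29, nat_lit 14, nat_lit 17, nat_lit 40], [nat_lit 25, nat_lit 5, nat_lit 23, nat_lit 24, nat_lit 13, nat_lit 1, nat_lit 4, nat_lit 6, nat_lit 8, nat_lit 3, nat_lit 9, nat_lit 5816]),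
  (nat_lit 0x10000000001010000000000000100010000010000000000000001000001010000010000000000000100000100000100010001000100, nat_lit 99, [[nat_lit 5823, nat_lit 5824, nat_lit 5825, nat_lit 5826, nat_lit 6845, nat_lit 6846, nat_lit 6847, nat_lit 6848, nat_lit 13943, nat_lit 13944, nat_lit 13945, nat_lit 13946, nat_lit 14965, nat_lit 14966, nat_lit 14967, nat_lit 14968]], [nat_lit 47, nat_lit 27, nat_lit 38, nat_lit 7], [nat_lit 19, nat_lit 5, nat_lit 3, nat_lit 1, nat_lit 10, nat_lit 2, nat_lit 4, nat_lit 7, nat_lit 6, nat_lit 9, nat_lit 1896, nat_lit 5816]),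
  (nat_lit 0x1000000000001010000010100000100000001000001000100000000000001000000010000000101000100000000000000000000010001, nat_lit 99, [[nat_lit 2704, nat_lit 2705, nat_lit 3968, nat_lit 3973, nat_lit 3974, nat_lit 3975, nat_lit 3978, nat_lit 3979, nat_lit 10824, nat_lit 10825, nat_lit 12088, nat_lit 12093, nat_lit 12094, nat_lit 12095, nat_lit 12098, nat_lit 12099]], [nat_lit 31, nat_lit 44, nat_lit 0, nat_lit 15], [nat_lit 315, nat_lit 31, nat_lit 82, nat_lit 18, nat_lit 16, nat_lit 3, nat_lit 29, nat_lit 1757, nat_lit 1, nat_lit 2, nat_lit 4, nat_lit 6]),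
  (nat_lit 0x100000000000001000000010000000100000000010000010100000100000000000000010100000000010100000101000100000001000000, nat_lit 99, [[nat_lit 4342, nat_lit 4358, nat_lit 4979, nat_lit 5070, nat_lit 5113, nat_lit 5164, nat_lit 5282, nat_lit 5740, nat_lit 12462, nat_lit 12478, nat_lit 13099, nat_lit 13190, nat_lit 13233, nat_lit 13284, nat_lit 13402, nat_lit 13860]], [nat_lit 3, nat_lit 35, nat_lit 13, nat_lit 19], [nat_lit 40, nat_lit 23, nat_lit 5, nat_lit 7, nat_lit 14, nat_lit 1898, nat_lit 11, nat_lit 17, nat_lit 1, nat_lit 2, nat_lit 3, nat_lit 4])]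

def BK24 : List Ent := [(nat_lit 0x1000101000100000100000001000000010000000001000001000001000000010001000000000001000001000000000000010000010000, nat_lit 99, [[nat_lit 73, nat_lit 622, nat_lit 761, nat_lit 989, nat_lit 1000, nat_lit 1037, nat_lit 1440, nat_lit 1678, nat_lit 8193, nat_lit 8742, nat_lit 8881, nat_lit 9109, nat_lit 9120, nat_lit 9157, nat_lit 9560, nat_lit 9798]], [nat_lit 12, nat_lit 23, nat_lit 46, nat_lit 54], [nat_lit 4, nat_lit 6, nat_lit 27, nat_lit 10, nat_lit 31, nat_lit 41, nat_lit 2, nat_lit 1, nat_lit 5, nat_lit 3, nat_lit 9, nat_lit 13]),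
  (nat_lit 0x1000100010100000000000000000001000100000101000000000000000000000000000000000000000101010100000101000001010000, nat_lit 0, [[nat_lit 32, nat_lit 30]], [], []),
  (nat_lit 0x1000000000100000100000100000001000100000000000100000100000000000001000001000001000100000100010001000000010000, nat_lit 99, [[nat_lit 231, nat_lit 264, nat_lit 589, nat_lit 762, nat_lit 795, nat_lit 1080, nat_lit 1249, nat_lit 1567, nat_lit 8351, nat_lit 8384, nat_lit 8709, nat_lit 8882, nat_lit 8915, nat_lit 9200, nat_lit 9369, nat_lit 9687]], [nat_lit 8, nat_lit 37, nat_lit 46, nat_lit 49], [nat_lit 27, nat_lit 76, nat_lit 24, nat_lit 11, nat_lit 33, nat_lit 6, nat_lit 16, nat_lit 3, nat_lit 4, nat_lit 9, nat_lit 1, nat_lit 8]),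
  (nat_lit 0x10001000101000001010001000100010001000001010000000000000000000100000101000100, nat_lit 0, [[nat_lit 40, nat_lit 17]], [], []),
  (nat_lit 0x10001000101000001010001000100010001000001010000000000000000000001010000010001, nat_lit 99, [[nat_lit 1800, nat_lit 1803, nat_lit 1862, nat_lit 1863, nat_lit 2747, nat_lit 2748, nat_lit 2820, nat_lit 2823, nat_lit 2906, nat_lit 2907, nat_lit 3916, nat_lit 3917, nat_lit 3918, nat_lit 3919, nat_lit 4035, nat_lit 4036, nat_lit 9920, nat_lit 9923, nat_lit 9982, nat_lit 9983, nat_lit 10867, nat_lit 10868, nat_lit 10940, nat_lit 10943, nat_lit 11026, nat_lit 11027, nat_lit 12036, nat_lit 12037, nat_lit 12038, nat_lit 12039, nat_lit 12155, nat_lit 12156]], [nat_lit 17, nat_lit 6, nat_lit 25, nat_lit 21, nat_lit 33], [nat_lit 26, nat_lit 41, nat_lit 27, nat_lit 16, nat_lit 10, nat_lit 3, nat_lit 4, nat_lit 1, nat_lit 5, nat_lit 9, nat_lit 1756]),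
  (nat_lit 0x100000000000100000100010100010001000000010000000000010001000000000000010000000100000000010000010001010000000000, nat_lit 99, [[nat_lit 4107, nat_lit 4111, nat_lit 4433, nat_lit 4477, nat_lit 4578, nat_lit 4897, nat_lit 5009, nat_lit 5115, nat_lit 12227, nat_lit 12231, nat_lit 12553, nat_lit 12597, nat_lit 12698, nat_lit 13017, nat_lit 13129, nat_lit 13235]], [nat_lit 16, nat_lit 29, nat_lit 35, nat_lit 41], [nat_lit 102, nat_lit 21, nat_lit 25, nat_lit 4, nat_lit 5, nat_lit 7, nat_lit 12, nat_lit 3, nat_lit 2, nat_lit 6, nat_lit 9, nat_lit 10]),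
  (nat_lit 0x10100000101000000000000000000000000000000000000000100010100000101010101000000000100000101000100, nat_lit 0, [[nat_lit 37, nat_lit 24]], [], []),
  (nat_lit 0x10100000101000000000000000000000000000000000000000100010100000101010101000000000001010000010001, nat_lit 0, [[nat_lit 37, nat_lit 24]], [], []),
  (nat_lit 0x1000001010001000000010101010000000001010000010100000000000000000001010001000100, nat_lit 0, [[nat_lit 35, nat_lit 34]], [], []),
  (nat_lit 0x1010000010100000001000100010100010000010001000100000000000000000101010100000000, nat_lit 0, [[nat_lit 43, nat_lit 28]], [], []),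
  (nat_lit 0x10000000100010001000000000001000001000000000001000000000001000101000001010001000000010000000001000000000100, nat_lit 99, [[nat_lit 6342, nat_lit 6343, nat_lit 6368, nat_lit 6369, nat_lit 7500, nat_lit 7501, nat_lit 7530, nat_lit 7531, nat_lit 14462, nat_lit 14463, nat_lit 14488, nat_lit 14489, nat_lit 15620, nat_lit 15621, nat_lit 15650, nat_lit 15651]], [nat_lit 45, nat_lit 6, nat_lit 30, nat_lit 15], [nat_lit 43, nat_lit 28, nat_lit 16, nat_lit 10, nat_lit 4, nat_lit 8, nat_lit 1, nat_lit 2, nat_lit 6, nat_lit 3, nat_lit 12, nat_lit 5816]),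
  (nat_lit 0x101000001010000000000000000000000000000000000000001000101000001000000000101010100010100000100010000000000000000, nat_lit 0, [[nat_lit 39, nat_lit 38]], [], []),
  (nat_lit 0x101000001010000000000000000000000000000000000000001000101000001000000000101010101000001010001000000000000000000, nat_lit 0, [[nat_lit 39, nat_lit 38]], [], []),
  (nat_lit 0x1000100000000010000010000000000010000000000010100010001000100000001000000000100000100010000000000010000000100, nat_lit 99, [[nat_lit 6127, nat_lit 6132, nat_lit 7222, nat_lit 7223, nat_lit 7228, nat_lit 7229, nat_lit 7251, nat_lit 7256, nat_lit 14247, nat_lit 14252, nat_lit 15342, nat_lit 15343, nat_lit 15348, nat_lit 15349, nat_lit 15371, nat_lit 15376]], [nat_lit 32, nat_lit 1, nat_lit 29, nat_lit 52], [nat_lit 11, nat_lit 26, nat_lit 32, nat_lit 35, nat_lit 75, nat_lit 5816, nat_lit 9, nat_lit 3, nat_lit 1, nat_lit 5, nat_lit 8, nat_lit 2]),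
  (nat_lit 0x10000000100000000000001010000000000000100010000000101000000010001000100010000010000000100000000010001000000, nat_lit 99, [[nat_lit 4212, nat_lit 4300, nat_lit 4345, nat_lit 4364, nat_lit 4388, nat_lit 4526, nat_lit 4808, nat_lit 5569, nat_lit 12332, nat_lit 12420, nat_lit 12465, nat_lit 12484, nat_lit 12508, nat_lit 12646, nat_lit 12928, nat_lit 13689]], [nat_lit 32, nat_lit 41, nat_lit 49, nat_lit 28], [nat_lit 15, nat_lit 28, nat_lit 29, nat_lit 26, nat_lit 3, nat_lit 11, nat_lit 7, nat_lit 1, nat_lit 2, nat_lit 4, nat_lit 9, nat_lit 1896]),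
  (nat_lit 0x100000000010000010001000000000000000000000100010000010000010000000100010100010000000100000000010100000000000001, nat_lit 99, [[nat_lit 2220, nat_lit 2221, nat_lit 2258, nat_lit 2259, nat_lit 3350, nat_lit 3351, nat_lit 3416, nat_lit 3417, nat_lit 10340, nat_lit 10341, nat_lit 10378, nat_lit 10379, nat_lit 11470, nat_lit 11471, nat_lit 11536, nat_lit 11537]], [nat_lit 7, nat_lit 19, nat_lit 45, nat_lit 26], [nat_lit 78, nat_lit 89, nat_lit 9, nat_lit 1, nat_lit 3, nat_lit 7, nat_lit 2, nat_lit 4, nat_lit 5, nat_lit 6, nat_lit 12, nat_lit 1756]),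
  (nat_lit 0x10100000100010000010101010000000001010000010100000000000000000001010001000100, nat_lit 0, [[nat_lit 23, nat_lit 1]], [], []),
  (nat_lit 0x1010000000001010000010100000101000100010001010000000000000000000100010000010100, nat_lit 0, [[nat_lit 43, nat_lit 28]], [], []),
  (nat_lit 0x10100000000010100000000000000000000000000000000000101000100010000010001010000010000000001010101, nat_lit 0, [[nat_lit 39, nat_lit 8]], [], []),
  (nat_lit 0x100000100010100000001000000000101000000000000010000010000000100000100010000000000010100000000000000010000010000, nat_lit 99, [[nat_lit 77, nat_lit 159, nat_lit 556, nat_lit 667, nat_lit 832, nat_lit 1091, nat_lit 1299, nat_lit 1470, nat_lit 8197, nat_lit 8279, nat_lit 8676, nat_lit 8787, nat_lit 8952, nat_lit 9211, nat_lit 9419, nat_lit 9590]], [nat_lit 22, nat_lit 49, nat_lit 2, nat_lit 29], [nat_lit 3, nat_lit 62, nat_lit 9, nat_lit 22, nat_lit 6, nat_lit 2, nat_lit 7, nat_lit 5, nat_lit 10, nat_lit 13, nat_lit 1, nat_lit 4]),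
  (nat_lit 0x1010101000000000000000000000000000000000101000001010000010001000100000101000001000100010000000000000000, nat_lit 0, [[nat_lit 22, nat_lit 17]], [], []),
  (nat_lit 0x1000101000001000000000000000000000000000000000000010101010000010100000101000001000100010000010000000000000000, nat_lit 0, [[nat_lit 60, nat_lit 6]], [], []),
  (nat_lit 0x1000000000001010000010001010001000000010000000001000000000100000000010000000100000000010000010000000000010001, nat_lit 99, [[nat_lit 2680, nat_lit 2681, nat_lit 2726, nat_lit 2729, nat_lit 3946, nat_lit 3947, nat_lit 4002, nat_lit 4005, nat_lit 10800, nat_lit 10801, nat_lit 10846, nat_lit 10849, nat_lit 12066, nat_lit 12067, nat_lit 12122, nat_lit 12125]], [nat_lit 42, nat_lit 35, nat_lit 16, nat_lit 0], [nat_lit 26, nat_lit 11, nat_lit 20, nat_lit 10, nat_lit 3, nat_lit 45, nat_lit 6, nat_lit 1757, nat_lit 1, nat_lit 2, nat_lit 5, nat_lit 7]),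
  (nat_lit 0x101010101010101000000000000000001010101010101010000000000000000000000000000000000000000000000000000000000000000, nat_lit 0, [[nat_lit 1896, nat_lit 1870]], [], []),
  (nat_lit 0x100000000000001000001000000010000000000010000010100000100000000000100000000000100010100010000010000000100000100, nat_lit 99, [[nat_lit 6460, nat_lit 6485, nat_lit 7636, nat_lit 7637, nat_lit 7638, nat_lit 7671, nat_lit 7672, nat_lit 7673, nat_lit 14580, nat_lit 14605, nat_lit 15756, nat_lit 15757, nat_lit 15758, nat_lit 15791, nat_lit 15792, nat_lit 15793]], [nat_lit 22, nat_lit 14, nat_lit 32, nat_lit 48], [nat_lit 40, nat_lit 17, nat_lit 52, nat_lit 6, nat_lit 7, nat_lit 18, nat_lit 3, nat_lit 5, nat_lit 1, nat_lit 8, nat_lit 2, nat_lit 5816]),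
  (nat_lit 0x100000000000001010000000001000000000000010000010100000100000000010000000000010000010001010001000001000000010000, nat_lit 99, [[nat_lit 167, nat_lit 305, nat_lit 423, nat_lit 488, nat_lit 582, nat_lit 849, nat_lit 1228, nat_lit 1270, nat_lit 8287, nat_lit 8425, nat_lit 8543, nat_lit 8608, nat_lit 8702, nat_lit 8969, nat_lit 9348, nat_lit 9390]], [nat_lit 14, nat_lit 48, nat_lit 17, nat_lit 35], [nat_lit 27, nat_lit 56, nat_lit 9, nat_lit 23, nat_lit 16, nat_lit 26, nat_lit 5, nat_lit 1, nat_lit 7, nat_lit 11, nat_lit 3, nat_lit 2]),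
  (nat_lit 0x100010001000001010000010001000100000000000000000101010100000000000000000000000000000000000000000101000001010000, nat_lit 0, [[nat_lit 42, nat_lit 14]], [], []),
  (nat_lit 0x10001000100000000000101000100010001000001000000010000000000010001000000000001000000010001000100000000, nat_lit 99, [[nat_lit 129, nat_lit 146, nat_lit 730, nat_lit 798, nat_lit 819, nat_lit 979, nat_lit 982, nat_lit 1656, nat_lit 8249, nat_lit 8266, nat_lit 8850, nat_lit 8918, nat_lit 8939, nat_lit 9099, nat_lit 9102, nat_lit 9776]], [nat_lit 8, nat_lit 37, nat_lit 48, nat_lit 18], [nat_lit 61, nat_lit 15, nat_lit 17, nat_lit 22, nat_lit 24, nat_lit 1, nat_lit 3, nat_lit 7, nat_lit 4, nat_lit 5, nat_lit 6, nat_lit 10]),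
  (nat_lit 0x100010001000001010000010001000100000000000000000000000001010101000000000000000000000000000000000000010100000101, nat_lit 0, [[nat_lit 29, nat_lit 23]], [], []),
  (nat_lit 0x1000000000001010000010100000100000100000000010000010001000000010000000001000001000100000000000000000001000100, nat_lit 99, [[nat_lit 6752, nat_lit 6753, nat_lit 6773, nat_lit 6774, nat_lit 8018, nat_lit 8019, nat_lit 8053, nat_lit 8054, nat_lit 14872, nat_lit 14873, nat_lit 14893, nat_lit 14894, nat_lit 16138, nat_lit 16139, nat_lit 16173, nat_lit 16174]], [nat_lit 44, nat_lit 54, nat_lit 15, nat_lit 27], [nat_lit 14, nat_lit 12, nat_lit 8, nat_lit 9, nat_lit 5, nat_lit 11, nat_lit 3, nat_lit 1, nat_lit 4, nat_lit 2, nat_lit 1896, nat_lit 5816])]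

def BK25 : List Ent := [(nat_lit 0x100000100000000010001000000010000010000000001000100000000000000000001000101000000000001000001010000010100, nat_lit 99, [[nat_lit 5956, nat_lit 5969, nat_lit 7020, nat_lit 7021, nat_lit 7022, nat_lit 7035, nat_lit 7036, nat_lit 7037, nat_lit 14076, nat_lit 14089, nat_lit 15140, nat_lit 15141, nat_lit 15142, nat_lit 15155, nat_lit 15156, nat_lit 15157]], [nat_lit 30, nat_lit 35, nat_lit 52, nat_lit 1], [nat_lit 1945, nat_lit 210, nat_lit 99, nat_lit 5820, nat_lit 38, nat_lit 1, nat_lit 2, nat_lit 4, nat_lit 5, nat_lit 6, nat_lit 3, nat_lit 8]),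
  (nat_lit 0x1000000010000000001000100000000000100000001000000000000010100000000000001000100000001010000000001000100010001, nat_lit 99, [[nat_lit 2649, nat_lit 2650, nat_lit 2651, nat_lit 2652, nat_lit 3899, nat_lit 3900, nat_lit 3901, nat_lit 3902, nat_lit 10769, nat_lit 10770, nat_lit 10771, nat_lit 10772, nat_lit 12019, nat_lit 12020, nat_lit 12021, nat_lit 12022]], [nat_lit 12, nat_lit 54, nat_lit 45, nat_lit 0], [nat_lit 1811, nat_lit 34, nat_lit 11, nat_lit 15, nat_lit 22, nat_lit 3, nat_lit 5, nat_lit 17, nat_lit 1, nat_lit 4, nat_lit 2, nat_lit 6]),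
  (nat_lit 0x100000100000000010001000001000000000100000000000000010100010000010000000001000000000001000100000100010100, nat_lit 99, [[nat_lit 6580, nat_lit 6589, nat_lit 7788, nat_lit 7789, nat_lit 7790, nat_lit 7807, nat_lit 7808, nat_lit 7809, nat_lit 14700, nat_lit 14709, nat_lit 15908, nat_lit 15909, nat_lit 15910, nat_lit 15927, nat_lit 15928, nat_lit 15929]], [nat_lit 4, nat_lit 39, nat_lit 52, nat_lit 20], [nat_lit 19, nat_lit 2, nat_lit 42, nat_lit 17, nat_lit 22, nat_lit 1, nat_lit 4, nat_lit 5, nat_lit 6, nat_lit 3, nat_lit 8, nat_lit 5816]),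
  (nat_lit 0x100000000010000000000000001010001000001000000000100000000000100010000010001010000000001000001000000000100010000, nat_lit 99, [[nat_lit 35, nat_lit 53, nat_lit 70, nat_lit 250, nat_lit 322, nat_lit 713, nat_lit 1217, nat_lit 1474, nat_lit 8155, nat_lit 8173, nat_lit 8190, nat_lit 8370, nat_lit 8442, nat_lit 8833, nat_lit 9337, nat_lit 9594]], [nat_lit 4, nat_lit 50, nat_lit 17, nat_lit 41], [nat_lit 31, nat_lit 49, nat_lit 4, nat_lit 21, nat_lit 12, nat_lit 5, nat_lit 6, nat_lit 9, nat_lit 1, nat_lit 2, nat_lit 3, nat_lit 10]),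
  (nat_lit 0x1010101000001010000010100000100010001000001000000000000000001000100000101000000000000000000, nat_lit 0, [[nat_lit 82, nat_lit 28]], [], []),
  (nat_lit 0x100010000000000010000010000000000000100000100000100010000010001000100000001000000010000000001000001000001000000, nat_lit 99, [[nat_lit 4138, nat_lit 4397, nat_lit 4444, nat_lit 4850, nat_lit 4926, nat_lit 4927, nat_lit 5030, nat_lit 5324, nat_lit 12258, nat_lit 12517, nat_lit 12564, nat_lit 12970, nat_lit 13046, nat_lit 13047, nat_lit 13150, nat_lit 13444]], [nat_lit 47, nat_lit 34, nat_lit 26, nat_lit 55], [nat_lit 21, nat_lit 28, nat_lit 47, nat_lit 3, nat_lit 11, nat_lit 5, nat_lit 4, nat_lit 6, nat_lit 2, nat_lit 1, nat_lit 12, nat_lit 1896]),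
  (nat_lit 0x10100000101000001000100010000010001010001000100000000000000000000000000010101010000000000000000, nat_lit 0, [[nat_lit 14, nat_lit 12]], [], []),
  (nat_lit 0x1000101000100000100000001000001000000000000010100000000010000000000000100000101000001000000000100000000000100, nat_lit 99, [[nat_lit 6410, nat_lit 6411, nat_lit 6415, nat_lit 6425, nat_lit 7575, nat_lit 7584, nat_lit 7585, nat_lit 7589, nat_lit 14530, nat_lit 14531, nat_lit 14535, nat_lit 14545, nat_lit 15695, nat_lit 15704, nat_lit 15705, nat_lit 15709]], [nat_lit 32, nat_lit 49, nat_lit 42, nat_lit 31], [nat_lit 5, nat_lit 9, nat_lit 3, nat_lit 2, nat_lit 4, nat_lit 7, nat_lit 8, nat_lit 10, nat_lit 12, nat_lit 1, nat_lit 13, nat_lit 5816]),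
  (nat_lit 0x1000001000000000100010000000000000000000100010100000000000100000101000001010000000001000001000000000100010000, nat_lit 99, [[nat_lit 367, nat_lit 663, nat_lit 1127, nat_lit 1312, nat_lit 1519, nat_lit 1541, nat_lit 1588, nat_lit 1626, nat_lit 8487, nat_lit 8783, nat_lit 9247, nat_lit 9432, nat_lit 9639, nat_lit 9661, nat_lit 9708, nat_lit 9746]], [nat_lit 34, nat_lit 12, nat_lit 18, nat_lit 46], [nat_lit 11, nat_lit 27, nat_lit 33, nat_lit 59, nat_lit 3, nat_lit 12, nat_lit 14, nat_lit 15, nat_lit 2, nat_lit 5, nat_lit 4, nat_lit 1]),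
  (nat_lit 0x1000001000100010100010000010100000000000101010100000000000000000101000000000101, nat_lit 0, [[nat_lit 43, nat_lit 28]], [], []),
  (nat_lit 0x10101010101010100000000000000000000000000000000010101010101010100000000000000000000000000000000, nat_lit 0, [[nat_lit 1784, nat_lit 1763]], [], []),
  (nat_lit 0x1010000000000000100000000000101000001000101000000010000000001000001000100000000010000010000000000000001000001, nat_lit 99, [[nat_lit 2559, nat_lit 2562, nat_lit 2563, nat_lit 2564, nat_lit 3795, nat_lit 3796, nat_lit 3797, nat_lit 3800, nat_lit 10679, nat_lit 10682, nat_lit 10683, nat_lit 10684, nat_lit 11915, nat_lit 11916, nat_lit 11917, nat_lit 11920]], [nat_lit 14, nat_lit 24, nat_lit 54, nat_lit 34], [nat_lit 7, nat_lit 1, nat_lit 9, nat_lit 2, nat_lit 8, nat_lit 10, nat_lit 12, nat_lit 3, nat_lit 4, nat_lit 5, nat_lit 1756, nat_lit 1896]),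
  (nat_lit 0x100000100000000000100000000000101000100010001000000010000000001000001000100000000000100000001000001000100000000, nat_lit 99, [[nat_lit 96, nat_lit 555, nat_lit 846, nat_lit 898, nat_lit 1117, nat_lit 1120, nat_lit 1381, nat_lit 1645, nat_lit 8216, nat_lit 8675, nat_lit 8966, nat_lit 9018, nat_lit 9237, nat_lit 9240, nat_lit 9501, nat_lit 9765]], [nat_lit 21, nat_lit 35, nat_lit 6, nat_lit 55], [nat_lit 7, nat_lit 2, nat_lit 9, nat_lit 8, nat_lit 15, nat_lit 4, nat_lit 10, nat_lit 11, nat_lit 19, nat_lit 13, nat_lit 1, nat_lit 3]),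
  (nat_lit 0x100010100000100000000010101010100000101000100000000000000000001010000010100000000000000000000, nat_lit 0, [[nat_lit 34, nat_lit 23]], [], []),
  (nat_lit 0x100010100000100000000010101010001010000010001000000000000000001010000010100000000000000000000, nat_lit 0, [[nat_lit 34, nat_lit 23]], [], []),
  (nat_lit 0x10100000101000000000000000001000001000100010000000000000000000000000000000000010100000100010000010101010000, nat_lit 0, [[nat_lit 41, nat_lit 37]], [], []),
  (nat_lit 0x10100000101000000000000000001000001000100010000000000000000000000000000000001000001010001000000010101010000, nat_lit 0, [[nat_lit 41, nat_lit 37]], [], [])]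

def BK26 : List Ent := [(nat_lit 0x1010000010100000000010000010000010000000001000000010000000100000000000100000100000000000100010000000101000000, nat_lit 99, [[nat_lit 4354, nat_lit 4481, nat_lit 4966, nat_lit 5021, nat_lit 5317, nat_lit 5446, nat_lit 5610, nat_lit 5788, nat_lit 12474, nat_lit 12601, nat_lit 13086, nat_lit 13141, nat_lit 13437, nat_lit 13566, nat_lit 13730, nat_lit 13908]], [nat_lit 53, nat_lit 38, nat_lit 10, nat_lit 16], [nat_lit 2, nat_lit 98, nat_lit 8, nat_lit 16, nat_lit 17, nat_lit 14, nat_lit 1, nat_lit 4, nat_lit 5, nat_lit 3, nat_lit 6, nat_lit 1896]),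
  (nat_lit 0x10100000101000000000000000100000100000001010000010100000100000001000000010000000001000000010000000100, nat_lit 99, [[nat_lit 6506, nat_lit 6507, nat_lit 6555, nat_lit 6556, nat_lit 7692, nat_lit 7693, nat_lit 7755, nat_lit 7756, nat_lit 14626, nat_lit 14627, nat_lit 14675, nat_lit 14676, nat_lit 15812, nat_lit 15813, nat_lit 15875, nat_lit 15876]], [nat_lit 1, nat_lit 49, nat_lit 45, nat_lit 18], [nat_lit 68, nat_lit 15, nat_lit 26, nat_lit 10, nat_lit 19, nat_lit 5823, nat_lit 9, nat_lit 3, nat_lit 1, nat_lit 4, nat_lit 6, nat_lit 5]),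
  (nat_lit 0x100000000000100000101000001010001000000010000000000010001000000010000000001000000010001000000000100000100000000, nat_lit 99, [[nat_lit 11, nat_lit 278, nat_lit 359, nat_lit 378, nat_lit 641, nat_lit 1045, nat_lit 1156, nat_lit 1662, nat_lit 8131, nat_lit 8398, nat_lit 8479, nat_lit 8498, nat_lit 8761, nat_lit 9165, nat_lit 9276, nat_lit 9782]], [nat_lit 46, nat_lit 29, nat_lit 35, nat_lit 49], [nat_lit 22, nat_lit 38, nat_lit 65, nat_lit 6, nat_lit 9, nat_lit 14, nat_lit 5, nat_lit 4, nat_lit 1, nat_lit 3, nat_lit 2, nat_lit 10]),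
  (nat_lit 0x1010000010100010000000100000000000100010000000100000000010000000100010000000001000001000000000100000000000100, nat_lit 99, [[nat_lit 6232, nat_lit 6246, nat_lit 7370, nat_lit 7371, nat_lit 7372, nat_lit 7380, nat_lit 7381, nat_lit 7382, nat_lit 14352, nat_lit 14366, nat_lit 15490, nat_lit 15491, nat_lit 15492, nat_lit 15500, nat_lit 15501, nat_lit 15502]], [nat_lit 20, nat_lit 35, nat_lit 12, nat_lit 49], [nat_lit 5, nat_lit 4, nat_lit 11, nat_lit 13, nat_lit 2, nat_lit 6, nat_lit 15, nat_lit 20, nat_lit 1, nat_lit 3, nat_lit 8, nat_lit 5816]),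
  (nat_lit 0x10001000001010000000000000000000000000000000000000001010101000000000101000001010001000100010100, nat_lit 0, [[nat_lit 10, nat_lit 4]], [], []),
  (nat_lit 0x101000100010001000100000101000000000001010101000000000000000001010000000001010000000000000000, nat_lit 0, [[nat_lit 25, nat_lit 5]], [], []),
  (nat_lit 0x10100000101000000010001000101000100000100010001000000000000000000000000010101010000000000000000, nat_lit 0, [[nat_lit 39, nat_lit 9]], [], []),
  (nat_lit 0x101010100000000010100000101010001000100000100000000000000000001000101000001, nat_lit 0, [[nat_lit 29, nat_lit 6]], [], []),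
  (nat_lit 0x100010000010100000000000000000000000000000000000101000000000101000001010000010100010001000101000000000000000000, nat_lit 0, [[nat_lit 55, nat_lit 46]], [], []),
  (nat_lit 0x101010100000000000000000000000000000000000000000000010100000101000100010001010000010100010001000000000000000000, nat_lit 0, [[nat_lit 60, nat_lit 6]], [], []),
  (nat_lit 0x101010100000000000000000000000001010000000001010000000000000000000000000000000001000001000100010100010000010100, nat_lit 0, [[nat_lit 40, nat_lit 22]], [], []),
  (nat_lit 0x1010000000000000000010100000000010001000100010000000100000100000100000000010001000000000100000000000000010100, nat_lit 99, [[nat_lit 6022, nat_lit 6032, nat_lit 6033, nat_lit 6035, nat_lit 7098, nat_lit 7102, nat_lit 7103, nat_lit 7115, nat_lit 14142, nat_lit 14152, nat_lit 14153, nat_lit 14155, nat_lit 15218, nat_lit 15222, nat_lit 15223, nat_lit 15235]], [nat_lit 54, nat_lit 32, nat_lit 44, nat_lit 1], [nat_lit 121, nat_lit 145, nat_lit 60, nat_lit 20, nat_lit 29, nat_lit 6, nat_lit 27, nat_lit 5816, nat_lit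 10, nat_lit 3, nat_lit 2, nat_lit 1]),
  (nat_lit 0x10001000000000001000000010000000000010000010001010000000000000001000001000001000100010001000000000100000100, nat_lit 99, [[nat_lit 6153, nat_lit 6154, nat_lit 6155, nat_lit 6206, nat_lit 7275, nat_lit 7338, nat_lit 7339, nat_lit 7340, nat_lit 14273, nat_lit 14274, nat_lit 14275, nat_lit 14326, nat_lit 15395, nat_lit 15458, nat_lit 15459, nat_lit 15460]], [nat_lit 4, nat_lit 13, nat_lit 53, nat_lit 45], [nat_lit 19, nat_lit 1, nat_lit 18, nat_lit 27, nat_lit 6, nat_lit 3, nat_lit 5, nat_lit 7, nat_lit 2, nat_lit 8, nat_lit 13, nat_lit 5816]),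
  (nat_lit 0x100010000000100000100000000000000010000010000000001000100000000010100000000010100000101000000010000000001, nat_lit 99, [[nat_lit 2401, nat_lit 2402, nat_lit 2403, nat_lit 2424, nat_lit 3579, nat_lit 3608, nat_lit 3609, nat_lit 3610, nat_lit 10521, nat_lit 10522, nat_lit 10523, nat_lit 10544, nat_lit 11699, nat_lit 11728, nat_lit 11729, nat_lit 11730]], [nat_lit 0, nat_lit 27, nat_lit 46, nat_lit 9], [nat_lit 3, nat_lit 8, nat_lit 23, nat_lit 4, nat_lit 5, nat_lit 2, nat_lit 7, nat_lit 1756, nat_lit 6, nat_lit 9, nat_lit 12, nat_lit 1]),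
  (nat_lit 0x1010000000000010000000000010000010100010000010000010000000001000100000000010000000001000000010000000000010100, nat_lit 99, [[nat_lit 6008, nat_lit 6049, nat_lit 7080, nat_lit 7084, nat_lit 7085, nat_lit 7128, nat_lit 7129, nat_lit 7133, nat_lit 14128, nat_lit 14169, nat_lit 15200, nat_lit 15204, nat_lit 15205, nat_lit 15248, nat_lit 15249, nat_lit 15253]], [nat_lit 12, nat_lit 53, nat_lit 47, nat_lit 17], [nat_lit 3, nat_lit 35, nat_lit 14, nat_lit 25, nat_lit 12, nat_lit 1, nat_lit 2, nat_lit 4, nat_lit 5, nat_lit 6, nat_lit 7, nat_lit 5816]),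
  (nat_lit 0x100000001000000010000000000000101000000000100000001000100000000000101000000000000000001010000000001000101000100, nat_lit 99, [[nat_lit 6724, nat_lit 6725, nat_lit 6726, nat_lit 6731, nat_lit 7988, nat_lit 7993, nat_lit 7994, nat_lit 7995, nat_lit 14844, nat_lit 14845, nat_lit 14846, nat_lit 14851, nat_lit 16108, nat_lit 16113, nat_lit 16114, nat_lit 16115]], [nat_lit 12, nat_lit 30, nat_lit 40, nat_lit 3], [nat_lit 30, nat_lit 37, nat_lit 74, nat_lit 59, nat_lit 16, nat_lit 1896, nat_lit 1, nat_lit 2, nat_lit 4, nat_lit 12, nat_lit 13, nat_lit 5816]),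
  (nat_lit 0x100000001000000010000000000000100000100000001000100010000000000000000000001000100000001010000000001010001000001, nat_lit 99, [[nat_lit 2525, nat_lit 2526, nat_lit 3735, nat_lit 3736, nat_lit 3737, nat_lit 3738, nat_lit 3739, nat_lit 3740, nat_lit 10645, nat_lit 10646, nat_lit 11855, nat_lit 11856, nat_lit 11857, nat_lit 11858, nat_lit 11859, nat_lit 11860]], [nat_lit 40, nat_lit 51, nat_lit 11, nat_lit 29], [nat_lit 18, nat_lit 16, nat_lit 15, nat_lit 21, nat_lit 3, nat_lit 2, nat_lit 4, nat_lit 7, nat_lit 1, nat_lit 9, nat_lit 1756, nat_lit 1896]),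
  (nat_lit 0x1010000010100000000000000000000000000000000000100010100000101010101000000000100000101000100, nat_lit 0, [[nat_lit 37, nat_lit 24]], [], []),
  (nat_lit 0x1010000010100000000000000000000000000000000000100010100000101010101000000000001010000010001, nat_lit 0, [[nat_lit 37, nat_lit 24]], [], []),
  (nat_lit 0x100000000010000000000000100000101000001000000000100000000000100000100010100010000010000000100000100000000000001, nat_lit 99, [[nat_lit 2229, nat_lit 2230, nat_lit 2249, nat_lit 2250, nat_lit 3365, nat_lit 3366, nat_lit 3401, nat_lit 3402, nat_lit 10349, nat_lit 10350, nat_lit 10369, nat_lit 10370, nat_lit 11485, nat_lit 11486, nat_lit 11521, nat_lit 11522]], [nat_lit 39, nat_lit 43, nat_lit 14, nat_lit 7], [nat_lit 5, nat_lit 10, nat_lit 2, nat_lit 3, nat_lit 15, nat_lit 20, nat_lit 6, nat_lit 9, nat_lit 12, nat_lit 4, nat_lit 1, nat_lit 1756]),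
  (nat_lit 0x100010000000000010000000100010001000000000000000000010001000100000000000101000100010001000001000000010000, nat_lit 99, [[nat_lit 12, nat_lit 188, nat_lit 348, nat_lit 587, nat_lit 617, nat_lit 724, nat_lit 888, nat_lit 911, nat_lit 8132, nat_lit 8308, nat_lit 8468, nat_lit 8707, nat_lit 8737, nat_lit 8844, nat_lit 9008, nat_lit 9031]], [nat_lit 6, nat_lit 52, nat_lit 15, nat_lit 16], [nat_lit 10, nat_lit 121, nat_lit 8, nat_lit 13, nat_lit 1, nat_lit 5, nat_lit 26, nat_lit 19, nat_lit 9, nat_lit 3, nat_lit 4, nat_lit 2]),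
  (nat_lit 0x10000000100000000000100000101000001000000000001000000000001000101000100000100000001000001000100000000000001, nat_lit 99, [[nat_lit 3432, nat_lit 3433, nat_lit 3436, nat_lit 3437, nat_lit 3478, nat_lit 3479, nat_lit 3482, nat_lit 3483, nat_lit 11552, nat_lit 11553, nat_lit 11556, nat_lit 11557, nat_lit 11598, nat_lit 11599, nat_lit 11602, nat_lit 11603]], [nat_lit 36, nat_lit 0, nat_lit 22, nat_lit 49], [nat_lit 9, nat_lit 38, nat_lit 66, nat_lit 45, nat_lit 4, nat_lit 10, nat_lit 19, nat_lit 1756, nat_lit 5, nat_lit 1, nat_lit 3, nat_lit 2]),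
  (nat_lit 0x1010000000000000100000000000101000100000100010100000001000000000100000000010000010000010000000000000000010100, nat_lit 99, [[nat_lit 6608, nat_lit 6610, nat_lit 6611, nat_lit 6639, nat_lit 7840, nat_lit 7866, nat_lit 7867, nat_lit 7871, nat_lit 14728, nat_lit 14730, nat_lit 14731, nat_lit 14759, nat_lit 15960, nat_lit 15986, nat_lit 15987, nat_lit 15991]], [nat_lit 11, nat_lit 22, nat_lit 32, nat_lit 53], [nat_lit 45, nat_lit 31, nat_lit 14, nat_lit 12, nat_lit 18, nat_lit 21, nat_lit 17, nat_lit 4, nat_lit 11, nat_lit 2, nat_lit 1, nat_lit 5816]),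
  (nat_lit 0x1000000000001010000010001010000010000000100000000000100010000010000000001000000000000010000010000000001000100, nat_lit 99, [[nat_lit 6750, nat_lit 6751, nat_lit 6777, nat_lit 6778, nat_lit 8012, nat_lit 8013, nat_lit 8057, nat_lit 8058, nat_lit 14870, nat_lit 14871, nat_lit 14897, nat_lit 14898, nat_lit 16132, nat_lit 16133, nat_lit 16177, nat_lit 16178]], [nat_lit 47, nat_lit 54, nat_lit 11, nat_lit 34], [nat_lit 29, nat_lit 5, nat_lit 14, nat_lit 16, nat_lit 7, nat_lit 8, nat_lit 2, nat_lit 4, nat_lit 1, nat_lit 3, nat_lit 1896, nat_lit 5816]),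
  (nat_lit 0x10100000101000000000000000000000000000000000100010000010100010101010000000000010100000100010000000000000000, nat_lit 0, [[nat_lit 35, nat_lit 13]], [], []),
  (nat_lit 0x10100000101000000000000000000000000000000000100010000010100010101010000000001000001010001000000000000000000, nat_lit 0, [[nat_lit 43, nat_lit 28]], [], []),
  (nat_lit 0x1010001000001000001000000000100000001000100000100000000010000010001000000000000010100000000000000000101000000, nat_lit 99, [[nat_lit 4441, nat_lit 4798, nat_lit 4815, nat_lit 4981, nat_lit 5332, nat_lit 5400, nat_lit 5418, nat_lit 5495, nat_lit 12561, nat_lit 12918, nat_lit 12935, nat_lit 13101, nat_lit 13452, nat_lit 13520, nat_lit 13538, nat_lit 13615]], [nat_lit 40, nat_lit 3, nat_lit 31, nat_lit 13], [nat_lit 32, nat_lit 12, nat_lit 38, nat_lit 59, nat_lit 16, nat_lit 1897, nat_lit 3, nat_lit 6, nat_lit 1, nat_lit 2, nat_lit 4, nat_lit 13])]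

def BK27 : List Ent := [(nat_lit 0x1000100000000010000010000000001000000000001000001010000010100010000000100000000000100010000000100000000010000, nat_lit 99, [[nat_lit 196, nat_lit 420, nat_lit 694, nat_lit 794, nat_lit 834, nat_lit 1315, nat_lit 1500, nat_lit 1732, nat_lit 8316, nat_lit 8540, nat_lit 8814, nat_lit 8914, nat_lit 8954, nat_lit 9435, nat_lit 9620, nat_lit 9852]], [nat_lit 29, nat_lit 33, nat_lit 7, nat_lit 44], [nat_lit 6, nat_lit 26, nat_lit 11, nat_lit 10, nat_lit 20, nat_lit 24, nat_lit 2, nat_lit 4, nat_lit 5, nat_lit 9, nat_lit 3, nat_lit 1]),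
  (nat_lit 0x10101010000010100000101000000000000000000000001010001000100000000000000000000000000000000000100000101000100, nat_lit 0, [[nat_lit 39, nat_lit 9]], [], []),
  (nat_lit 0x10101010000010100000101000000000000000000000001010001000100000000000000000000000000000000000001010000010001, nat_lit 0, [[nat_lit 25, nat_lit 12]], [], []),
  (nat_lit 0x101010100000000000000000000000000000101010100000000000000000000000000000000000000010100010001000100010000010100, nat_lit 0, [[nat_lit 29, nat_lit 6]], [], []),
  (nat_lit 0x10001000000000001000000010000010001000000000100000100000000000100000000000101000100010001000000010000000001, nat_lit 99, [[nat_lit 2119, nat_lit 2120, nat_lit 2121, nat_lit 2126, nat_lit 3237, nat_lit 3250, nat_lit 3251, nat_lit 3252, nat_lit 10239, nat_lit 10240, nat_lit 10241, nat_lit 10246, nat_lit 11357, nat_lit 11370, nat_lit 11371, nat_lit 11372]], [nat_lit 53, nat_lit 0, nat_lit 41, nat_lit 22], [nat_lit 11, nat_lit 20, nat_lit 27, nat_lit 33, nat_lit 23, nat_lit 1756, nat_lit 3, nat_lit 1, nat_lit 4, nat_lit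 2, nat_lit 8, nat_lit 9]),
  (nat_lit 0x10000010100010000000000000000000000000000000000010001000100000100010100010001000001000101000001, nat_lit 0, [[nat_lit 40, nat_lit 17]], [], []),
  (nat_lit 0x100010001000100000100000001000000010000000001000100000000010000000000000100000100000000000100010000010000010000, nat_lit 99, [[nat_lit 416, nat_lit 531, nat_lit 541, nat_lit 805, nat_lit 1082, nat_lit 1353, nat_lit 1401, nat_lit 1534, nat_lit 8536, nat_lit 8651, nat_lit 8661, nat_lit 8925, nat_lit 9202, nat_lit 9473, nat_lit 9521, nat_lit 9654]], [nat_lit 55, nat_lit 5, nat_lit 19, nat_lit 10], [nat_lit 246, nat_lit 343, nat_lit 29, nat_lit 61, nat_lit 1, nat_lit 5, nat_lit 15, nat_lit 11, nat_lit 3, nat_lit 7, nat_lit 9, nat_lit 2]),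
  (nat_lit 0x1010000010100000001000100010100000101000100010000000000000000000000000001010101, nat_lit 0, [[nat_lit 29, nat_lit 26]], [], []),
  (nat_lit 0x10001000000010000000001000000010001000000000100000100000000010000000000010000010100000101000100000001000000, nat_lit 99, [[nat_lit 4145, nat_lit 4426, nat_lit 4942, nat_lit 4954, nat_lit 5117, nat_lit 5241, nat_lit 5525, nat_lit 5630, nat_lit 12265, nat_lit 12546, nat_lit 13062, nat_lit 13074, nat_lit 13237, nat_lit 13361, nat_lit 13645, nat_lit 13750]], [nat_lit 42, nat_lit 3, nat_lit 53, nat_lit 17], [nat_lit 21, nat_lit 56, nat_lit 58, nat_lit 33, nat_lit 65, nat_lit 1899, nat_lit 8, nat_lit 4, nat_lit 7, nat_lit 3, nat_lit 1, nat_lit 2]),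
  (nat_lit 0x1000100000001000001000001000001000101000001000000010000000100000000010000000001000000010001000100000000, nat_lit 99, [[nat_lit 58, nat_lit 462, nat_lit 1012, nat_lit 1197, nat_lit 1253, nat_lit 1416, nat_lit 1538, nat_lit 1654, nat_lit 8178, nat_lit 8582, nat_lit 9132, nat_lit 9317, nat_lit 9373, nat_lit 9536, nat_lit 9658, nat_lit 9774]], [nat_lit 39, nat_lit 42, nat_lit 6, nat_lit 26], [nat_lit 81, nat_lit 89, nat_lit 39, nat_lit 42, nat_lit 14, nat_lit 8, nat_lit 5, nat_lit 7, nat_lit 9, nat_lit 1, nat_lit 3, nat_lit 12]),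
  (nat_lit 0x10000000100010001000000000000010100000000000000010000010000000100010100010001000000010000000000000100010000, nat_lit 99, [[nat_lit 137, nat_lit 354, nat_lit 415, nat_lit 610, nat_lit 852, nat_lit 896, nat_lit 1097, nat_lit 1431, nat_lit 8257, nat_lit 8474, nat_lit 8535, nat_lit 8730, nat_lit 8972, nat_lit 9016, nat_lit 9217, nat_lit 9551]], [nat_lit 45, nat_lit 49, nat_lit 38, nat_lit 2], [nat_lit 5, nat_lit 11, nat_lit 6, nat_lit 13, nat_lit 17, nat_lit 24, nat_lit 2, nat_lit 15, nat_lit 20, nat_lit 1, nat_lit 3, nat_lit 8]),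
  (nat_lit 0x1010101000001010000010100000100010001000001000000000000000000010001010000010000000000000000, nat_lit 0, [[nat_lit 40, nat_lit 17]], [], []),
  (nat_lit 0x100010001000100010000000100000000000001000100000000000100000001000000000100000100000000010001000000010000010000, nat_lit 99, [[nat_lit 62, nat_lit 179, nat_lit 948, nat_lit 1116, nat_lit 1119, nat_lit 1627, nat_lit 1681, nat_lit 1752, nat_lit 8182, nat_lit 8299, nat_lit 9068, nat_lit 9236, nat_lit 9239, nat_lit 9747, nat_lit 9801, nat_lit 9872]], [nat_lit 55, nat_lit 9, nat_lit 47, nat_lit 36], [nat_lit 11, nat_lit 3, nat_lit 26, nat_lit 28, nat_lit 29, nat_lit 6, nat_lit 7, nat_lit 1, nat_lit 5, nat_lit 8, nat_lit 2, nat_lit 9]),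
  (nat_lit 0x10100010000010000000000000001010000000001000100010001000001000000000100000001000100000000000100000001, nat_lit 99, [[nat_lit 2458, nat_lit 2459, nat_lit 2476, nat_lit 2485, nat_lit 3656, nat_lit 3657, nat_lit 3676, nat_lit 3681, nat_lit 10578, nat_lit 10579, nat_lit 10596, nat_lit 10605, nat_lit 11776, nat_lit 11777, nat_lit 11796, nat_lit 11801]], [nat_lit 21, nat_lit 30, nat_lit 44, nat_lit 0], [nat_lit 1757, nat_lit 31, nat_lit 40, nat_lit 5, nat_lit 10, nat_lit 8, nat_lit 2, nat_lit 4, nat_lit 6, nat_lit 9, nat_lit 3, nat_lit 1]),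
  (nat_lit 0x10000000100000000000001010001000001000000000001000000000001000100010100010000010000000100000000000100010000, nat_lit 99, [[nat_lit 34, nat_lit 463, nat_lit 502, nat_lit 815, nat_lit 1026, nat_lit 1231, nat_lit 1269, nat_lit 1455, nat_lit 8154, nat_lit 8583, nat_lit 8622, nat_lit 8935, nat_lit 9146, nat_lit 9351, nat_lit 9389, nat_lit 9575]], [nat_lit 10, nat_lit 53, nat_lit 17, nat_lit 36], [nat_lit 144, nat_lit 4, nat_lit 10, nat_lit 39, nat_lit 1, nat_lit 13, nat_lit 6, nat_lit 2, nat_lit 9, nat_lit 3, nat_lit 5, nat_lit 12]),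
  (nat_lit 0x10000010100010001010000000001010101000001010000000000000000000001000001000100010000000000000000, nat_lit 0, [[nat_lit 22, nat_lit 17]], [], []),
  (nat_lit 0x100010000000000000101000000000000010000000000010001010000010100000100000001000000000001000100000001000001000000, nat_lit 99, [[nat_lit 4141, nat_lit 4290, nat_lit 4619, nat_lit 4896, nat_lit 5059, nat_lit 5189, nat_lit 5275, nat_lit 5551, nat_lit 12261, nat_lit 12410, nat_lit 12739, nat_lit 13016, nat_lit 13179, nat_lit 13309, nat_lit 13395, nat_lit 13671]], [nat_lit 25, nat_lit 22, nat_lit 45, nat_lit 38], [nat_lit 1, nat_lit 19, nat_lit 25, nat_lit 12, nat_lit 14, nat_lit 2, nat_lit 4, nat_lit 8, nat_lit 10, nat_lit 3, nat_lit 5, nat_lit 1896]),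
  (nat_lit 0x10101010100000101000100000001010101000000000000000000000100010001000001, nat_lit 0, [[nat_lit 40, nat_lit 17]], [], []),
  (nat_lit 0x10101010001010000010001000001010101000000000000000000000100010001000001, nat_lit 0, [[nat_lit 64, nat_lit 12]], [], []),
  (nat_lit 0x101000001000100000000000000000000000000000000010001000100000100010100010001000001000101000001, nat_lit 99, [[nat_lit 1913, nat_lit 1914, nat_lit 2019, nat_lit 2020, nat_lit 2637, nat_lit 2638, nat_lit 2981, nat_lit 2982, nat_lit 3115, nat_lit 3116, nat_lit 3702, nat_lit 3703, nat_lit 3704, nat_lit 3705, nat_lit 3871, nat_lit 3876, nat_lit 10033, nat_lit 10034, nat_lit 10139, nat_lit 10140, nat_lit 10757, nat_lit 10758, nat_lit 11101, nat_lit 11102, nat_lit 11235, nat_lit 11236, nat_lit 11822, nat_lit 11823, nat_lit 11824, nat_lit 11825, nat_lit 11991, nat_lit 11996]], [nat_lit 3, nat_lit 6, nat_lit 46, nat_lit 21, nat_lit 42], [nat_lit 7, nat_lit 17, nat_lit 66, nat_lit 1784, nat_lit 1898, nat_lit 3, nat_lit 5, nat_lit 1, nat_lit 10, nat_lit 2, nat_lit 4]),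
  (nat_lit 0x100010000000000000000000001000100000001010000000001010001000001010000000100000001000000000000010000010000000100, nat_lit 99, [[nat_lit 6514, nat_lit 6515, nat_lit 6546, nat_lit 6549, nat_lit 7700, nat_lit 7701, nat_lit 7746, nat_lit 7749, nat_lit 14634, nat_lit 14635, nat_lit 14666, nat_lit 14669, nat_lit 15820, nat_lit 15821, nat_lit 15866, nat_lit 15869]], [nat_lit 36, nat_lit 40, nat_lit 5, nat_lit 23], [nat_lit 1, nat_lit 4, nat_lit 18, nat_lit 9, nat_lit 16, nat_lit 5, nat_lit 6, nat_lit 7, nat_lit 3, nat_lit 2, nat_lit 8, nat_lit 5816]),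
  (nat_lit 0x100000100010100000001000000000100010000000001000000000100000001000000000001010000010100000000000100000000000100, nat_lit 99, [[nat_lit 6226, nat_lit 6252, nat_lit 6256, nat_lit 6257, nat_lit 7358, nat_lit 7362, nat_lit 7363, nat_lit 7388, nat_lit 14346, nat_lit 14372, nat_lit 14376, nat_lit 14377, nat_lit 15478, nat_lit 15482, nat_lit 15483, nat_lit 15508]], [nat_lit 17, nat_lit 14, nat_lit 33, nat_lit 7], [nat_lit 42, nat_lit 28, nat_lit 21, nat_lit 16, nat_lit 1, nat_lit 4, nat_lit 8, nat_lit 2, nat_lit 12, nat_lit 6, nat_lit 3, nat_lit 5816]),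
  (nat_lit 0x1010000010101000100010000010001010001000100000000000000000000000000010101010000000000000000, nat_lit 0, [[nat_lit 31, nat_lit 28]], [], []),
  (nat_lit 0x101000001000101010000000001010101000001010000000000000000000001000001000100010000000000000000, nat_lit 0, [[nat_lit 22, nat_lit 17]], [], []),
  (nat_lit 0x10001000100000101000001000100010001000101000001000000000000000000010100000100010000000000000000, nat_lit 0, [[nat_lit 40, nat_lit 17]], [], []),
  (nat_lit 0x10001000100000101000001000100010001000101000001000000000000000001000001010001000000000000000000, nat_lit 99, [[nat_lit 4265, nat_lit 4320, nat_lit 4327, nat_lit 4384, nat_lit 4503, nat_lit 4559, nat_lit 4585, nat_lit 4753, nat_lit 4797, nat_lit 4805, nat_lit 4884, nat_lit 5302, nat_lit 5335, nat_lit 5429, nat_lit 5635, nat_lit 5743, nat_lit 12385, nat_lit 12440, nat_lit 12447, nat_lit 12504, nat_lit 12623, nat_lit 12679, nat_lit 12705, nat_lit 12873, nat_lit 12917, nat_lit 12925, nat_lit 13004, nat_lit 13422, nat_lit 13455, nat_lit 13549, nat_lit 13755, nat_lit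 13863]], [nat_lit 32, nat_lit 24, nat_lit 30, nat_lit 15, nat_lit 9], [nat_lit 32, nat_lit 6, nat_lit 28, nat_lit 3, nat_lit 7, nat_lit 1, nat_lit 5, nat_lit 14, nat_lit 2, nat_lit 4, nat_lit 10]),
  (nat_lit 0x10001000001000001000001000001000101000100000001000000000000010001000001000000000100000001000100000000, nat_lit 99, [[nat_lit 339, nat_lit 347, nat_lit 588, nat_lit 1131, nat_lit 1144, nat_lit 1236, nat_lit 1282, nat_lit 1499, nat_lit 8459, nat_lit 8467, nat_lit 8708, nat_lit 9251, nat_lit 9264, nat_lit 9356, nat_lit 9402, nat_lit 9619]], [nat_lit 31, nat_lit 6, nat_lit 10, nat_lit 33], [nat_lit 2, nat_lit 81, nat_lit 42, nat_lit 24, nat_lit 7, nat_lit 9, nat_lit 17, nat_lit 18, nat_lit 1, nat_lit 3, nat_lit 4, nat_lit 8]),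
  (nat_lit 0x100000001000100010000000000000000010001000000010000010000010000010001010000010000000100000001000000000100, nat_lit 99, [[nat_lit 6350, nat_lit 6353, nat_lit 6358, nat_lit 6361, nat_lit 7506, nat_lit 7509, nat_lit 7522, nat_lit 7525, nat_lit 14470, nat_lit 14473, nat_lit 14478, nat_lit 14481, nat_lit 15626, nat_lit 15629, nat_lit 15642, nat_lit 15645]], [nat_lit 44, nat_lit 10, nat_lit 35, nat_lit 52], [nat_lit 18, nat_lit 12, nat_lit 10, nat_lit 31, nat_lit 4, nat_lit 7, nat_lit 3, nat_lit 5, nat_lit 9, nat_lit 1, nat_lit 6, nat_lit 5816]),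
  (nat_lit 0x101010101010101000000000000000000000000000000000000000000000000010101010101010100000000000000000000000000000000, nat_lit 0, [[nat_lit 7, nat_lit 5]], [], []),
  (nat_lit 0x100000000000001000001000000010000000000010000010100000100000000000100000000000101000001000101000000000100000100, nat_lit 99, [[nat_lit 6165, nat_lit 6166, nat_lit 6167, nat_lit 6202, nat_lit 7279, nat_lit 7326, nat_lit 7327, nat_lit 7328, nat_lit 14285, nat_lit 14286, nat_lit 14287, nat_lit 14322, nat_lit 15399, nat_lit 15446, nat_lit 15447, nat_lit 15448]], [nat_lit 48, nat_lit 1, nat_lit 31, nat_lit 32], [nat_lit 17, nat_lit 81, nat_lit 1801, nat_lit 5817, nat_lit 2, nat_lit 4, nat_lit 6, nat_lit 3, nat_lit 5, nat_lit 1, nat_lit 8, nat_lit 12]),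
  (nat_lit 0x100000100010001010001000001010000000000010101010000000000000000000001010101000000000000000000000000000000000000, nat_lit 0, [[nat_lit 60, nat_lit 33]], [], []),
  (nat_lit 0x1000000000001000100010001000101000000010000000001000000000100010000000001000000010001000000000000000001000100, nat_lit 99, [[nat_lit 6761, nat_lit 6762, nat_lit 8025, nat_lit 8026, nat_lit 8042, nat_lit 8043, nat_lit 8044, nat_lit 8045, nat_lit 14881, nat_lit 14882, nat_lit 16145, nat_lit 16146, nat_lit 16162, nat_lit 16163, nat_lit 16164, nat_lit 16165]], [nat_lit 54, nat_lit 1, nat_lit 14, nat_lit 46], [nat_lit 25, nat_lit 27, nat_lit 12, nat_lit 41, nat_lit 22, nat_lit 5816, nat_lit 1896, nat_lit 10, nat_lit 1, nat_lit 3, nat_lit 5, nat_lit 6])]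

def BK28 : List Ent := [(nat_lit 0x10000010100010000000101010100000101000001010000000000000000000000010100010001000000000000000000, nat_lit 0, [[nat_lit 40, nat_lit 17]], [], []),
  (nat_lit 0x10100010000010000000000000001010000000100010001000100000001000000000100000001000100000000000100000001, nat_lit 99, [[nat_lit 2046, nat_lit 2047, nat_lit 2066, nat_lit 2073, nat_lit 3170, nat_lit 3171, nat_lit 3190, nat_lit 3197, nat_lit 10166, nat_lit 10167, nat_lit 10186, nat_lit 10193, nat_lit 11290, nat_lit 11291, nat_lit 11310, nat_lit 11317]], [nat_lit 12, nat_lit 50, nat_lit 36, nat_lit 31], [nat_lit 25, nat_lit 12, nat_lit 33, nat_lit 4, nat_lit 17, nat_lit 6, nat_lit 15, nat_lit 2, nat_lit 1, nat_lit 10, nat_lit 3, nat_lit 1756]),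
  (nat_lit 0x10000010000010001000100010000000001000001000000010001000000000001000000010000000000010000010001010000000000, nat_lit 99, [[nat_lit 4174, nat_lit 4612, nat_lit 4620, nat_lit 5173, nat_lit 5479, nat_lit 5595, nat_lit 5746, nat_lit 5760, nat_lit 12294, nat_lit 12732, nat_lit 12740, nat_lit 13293, nat_lit 13599, nat_lit 13715, nat_lit 13866, nat_lit 13880]], [nat_lit 17, nat_lit 29, nat_lit 36, nat_lit 41], [nat_lit 34, nat_lit 35, nat_lit 30, nat_lit 11, nat_lit 15, nat_lit 4, nat_lit 10, nat_lit 2, nat_lit 1, nat_lit 3, nat_lit 7, nat_lit 9]),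
  (nat_lit 0x100000000010000000000000001010000010100000000000000000101000000010001000100010000000001000001000001000000000100, nat_lit 99, [[nat_lit 6328, nat_lit 6331, nat_lit 6376, nat_lit 6379, nat_lit 7488, nat_lit 7491, nat_lit 7544, nat_lit 7547, nat_lit 14448, nat_lit 14451, nat_lit 14496, nat_lit 14499, nat_lit 15608, nat_lit 15611, nat_lit 15664, nat_lit 15667]], [nat_lit 55, nat_lit 17, nat_lit 6, nat_lit 41], [nat_lit 28, nat_lit 17, nat_lit 29, nat_lit 5, nat_lit 6, nat_lit 7, nat_lit 9, nat_lit 14, nat_lit 1, nat_lit 3, nat_lit 2, nat_lit 5816]),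
  (nat_lit 0x10000000100000000000001010000000000010001000100000000000100010000010001010000010000000100000100000000000001, nat_lit 99, [[nat_lit 2287, nat_lit 2288, nat_lit 2303, nat_lit 2304, nat_lit 3443, nat_lit 3444, nat_lit 3467, nat_lit 3468, nat_lit 10407, nat_lit 10408, nat_lit 10423, nat_lit 10424, nat_lit 11563, nat_lit 11564, nat_lit 11587, nat_lit 11588]], [nat_lit 42, nat_lit 14, nat_lit 25, nat_lit 53], [nat_lit 4, nat_lit 8, nat_lit 27, nat_lit 22, nat_lit 13, nat_lit 1, nat_lit 2, nat_lit 10, nat_lit 17, nat_lit 3, nat_lit 6, nat_lit 1756]),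
  (nat_lit 0x100000100000001000100000000000100000001000000000001000001000101000000000000000100000100000001000100010001, nat_lit 99, [[nat_lit 1890, nat_lit 1893, nat_lit 2942, nat_lit 2943, nat_lit 2944, nat_lit 2951, nat_lit 2952, nat_lit 2953, nat_lit 10010, nat_lit 10013, nat_lit 11062, nat_lit 11063, nat_lit 11064, nat_lit 11071, nat_lit 11072, nat_lit 11073]], [nat_lit 45, nat_lit 6, nat_lit 22, nat_lit 27], [nat_lit 4, nat_lit 11, nat_lit 13, nat_lit 30, nat_lit 15, nat_lit 12, nat_lit 14, nat_lit 3, nat_lit 5, nat_lit 1, nat_lit 2, nat_lit 1756]),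
  (nat_lit 0x101000100010001000100000101000000000001010101000000000000000000000101010100000000000000000000, nat_lit 0, [[nat_lit 40, nat_lit 17]], [], []),
  (nat_lit 0x100010000010100000000000000000000000000000000000101000000000101010100000101000001000100010000010000000000000000, nat_lit 0, [[nat_lit 11, nat_lit 3]], [], []),
  (nat_lit 0x1000100010000000000010000010100010000010001000000010000010000000000000100000100000001000000000000010100, nat_lit 99, [[nat_lit 6596, nat_lit 6597, nat_lit 6599, nat_lit 6650, nat_lit 7823, nat_lit 7886, nat_lit 7890, nat_lit 7891, nat_lit 14716, nat_lit 14717, nat_lit 14719, nat_lit 14770, nat_lit 15943, nat_lit 16006, nat_lit 16010, nat_lit 16011]], [nat_lit 38, nat_lit 16, nat_lit 49, nat_lit 30], [nat_lit 2044, nat_lit 181, nat_lit 8, nat_lit 20, nat_lit 5, nat_lit 2, nat_lit 4, nat_lit 1, nat_lit 3, nat_lit 6, nat_lit 13, nat_lit 5816]),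
  (nat_lit 0x100000001000000000001000100000000000001000000010000000001000001000101000000000001000000000001000100010000010001, nat_lit 99, [[nat_lit 1867, nat_lit 1868, nat_lit 1869, nat_lit 1876, nat_lit 2913, nat_lit 2924, nat_lit 2925, nat_lit 2926, nat_lit 9987, nat_lit 9988, nat_lit 9989, nat_lit 9996, nat_lit 11033, nat_lit 11044, nat_lit 11045, nat_lit 11046]], [nat_lit 32, nat_lit 27, nat_lit 15, nat_lit 2], [nat_lit 4, nat_lit 9, nat_lit 10, nat_lit 16, nat_lit 21, nat_lit 1, nat_lit 6, nat_lit 12, nat_lit 13, nat_lit 15, nat_lit 2, nat_lit 1756]),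
  (nat_lit 0x1000100010100010000010001000100000000000000000101010100000000000000000000000000000000000000000101000001010000, nat_lit 0, [[nat_lit 42, nat_lit 14]], [], []),
  (nat_lit 0x101000001000100000101010100000101000001010000000000000000000000010100010001000000000000000000, nat_lit 0, [[nat_lit 29, nat_lit 6]], [], []),
  (nat_lit 0x101000001010000010001000100000100010100010001000000000000000000010101010000000000000000000000000000000000000000, nat_lit 0, [[nat_lit 68, nat_lit 34]], [], []),
  (nat_lit 0x10001000000000000010000000100010001000000000100000100000000000000010100000001000100000100010001000000010000, nat_lit 99, [[nat_lit 54, nat_lit 332, nat_lit 358, nat_lit 988, nat_lit 992, nat_lit 1261, nat_lit 1339, nat_lit 1462, nat_lit 8174, nat_lit 8452, nat_lit 8478, nat_lit 9108, nat_lit 9112, nat_lit 9381, nat_lit 9459, nat_lit 9582]], [nat_lit 44, nat_lit 15, nat_lit 28, nat_lit 51], [nat_lit 61, nat_lit 46, nat_lit 63, nat_lit 3, nat_lit 7, nat_lit 5, nat_lit 15, nat_lit 9, nat_lit 2, nat_lit 1, nat_lit 4, nat_lit 6]),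
  (nat_lit 0x1010000000000000100000000000100010100000101000001000000010000000000010001000000010000010000000100010000000000, nat_lit 99, [[nat_lit 4306, nat_lit 4590, nat_lit 4676, nat_lit 5027, nat_lit 5078, nat_lit 5258, nat_lit 5511, nat_lit 5670, nat_lit 12426, nat_lit 12710, nat_lit 12796, nat_lit 13147, nat_lit 13198, nat_lit 13378, nat_lit 13631, nat_lit 13790]], [nat_lit 46, nat_lit 11, nat_lit 33, nat_lit 20], [nat_lit 35, nat_lit 6, nat_lit 1, nat_lit 15, nat_lit 2, nat_lit 3, nat_lit 11, nat_lit 7, nat_lit 9, nat_lit 10, nat_lit 4, nat_lit 5]),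
  (nat_lit 0x1000100010100010000010001000100000000000000000000000001010101000000000000000000000000000000000000010100000101, nat_lit 0, [[nat_lit 32, nat_lit 30]], [], []),
  (nat_lit 0x1010000010100010001000101000100000100010001000000000000000000000000010101010000000000000000, nat_lit 0, [[nat_lit 40, nat_lit 17]], [], []),
  (nat_lit 0x100010001000100000001000000000101000000000000010001000001000000000000000100000101000001000000000000010000010000, nat_lit 99, [[nat_lit 108, nat_lit 613, nat_lit 679, nat_lit 1067, nat_lit 1331, nat_lit 1584, nat_lit 1608, nat_lit 1731, nat_lit 8228, nat_lit 8733, nat_lit 8799, nat_lit 9187, nat_lit 9451, nat_lit 9704, nat_lit 9728, nat_lit 9851]], [nat_lit 40, nat_lit 2, nat_lit 19, nat_lit 49], [nat_lit 3, nat_lit 21, nat_lit 12, nat_lit 32, nat_lit 4, nat_lit 2, nat_lit 7, nat_lit 1, nat_lit 5, nat_lit 9, nat_lit 10, nat_lit 13]),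
  (nat_lit 0x100000100010000000000000100000001000000010100010000000000000000000001000100010000000000010100000101000001, nat_lit 99, [[nat_lit 2022, nat_lit 2035, nat_lit 3122, nat_lit 3123, nat_lit 3124, nat_lit 3137, nat_lit 3138, nat_lit 3139, nat_lit 10142, nat_lit 10155, nat_lit 11242, nat_lit 11243, nat_lit 11244, nat_lit 11257, nat_lit 11258, nat_lit 11259]], [nat_lit 16, nat_lit 14, nat_lit 0, nat_lit 29], [nat_lit 42, nat_lit 37, nat_lit 5, nat_lit 9, nat_lit 17, nat_lit 1757, nat_lit 1, nat_lit 6, nat_lit 3, nat_lit 2, nat_lit 4, nat_lit 1896]),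
  (nat_lit 0x100000101000100010100000000010100000101000001010000000000000000010000010001000100000000000000000000000000000000, nat_lit 0, [[nat_lit 55, nat_lit 15]], [], []),
  (nat_lit 0x10000010000000100010001000100000100000000010100000000000001000100000100000000000000010000010100000100000000, nat_lit 99, [[nat_lit 76, nat_lit 219, nat_lit 548, nat_lit 922, nat_lit 1087, nat_lit 1395, nat_lit 1675, nat_lit 1691, nat_lit 8196, nat_lit 8339, nat_lit 8668, nat_lit 9042, nat_lit 9207, nat_lit 9515, nat_lit 9795, nat_lit 9811]], [nat_lit 53, nat_lit 11, nat_lit 46, nat_lit 24], [nat_lit 14, nat_lit 17, nat_lit 22, nat_lit 34, nat_lit 11, nat_lit 3, nat_lit 6, nat_lit 12, nat_lit 4, nat_lit 2, nat_lit 1, nat_lit 7]),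
  (nat_lit 0x1010001000001000100000001000000010000000001000000000100000001000100010000000000000000010001000000010000010000, nat_lit 99, [[nat_lit 22, nat_lit 464, nat_lit 465, nat_lit 960, nat_lit 1196, nat_lit 1240, nat_lit 1389, nat_lit 1460, nat_lit 8142, nat_lit 8584, nat_lit 8585, nat_lit 9080, nat_lit 9316, nat_lit 9360, nat_lit 9509, nat_lit 9580]], [nat_lit 9, nat_lit 24, nat_lit 42, nat_lit 22], [nat_lit 11, nat_lit 29, nat_lit 26, nat_lit 3, nat_lit 18, nat_lit 8, nat_lit 5, nat_lit 9, nat_lit 13, nat_lit 14, nat_lit 2, nat_lit 1]),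
  (nat_lit 0x10001000000010100000000010100010000010100000001000000010000000000000100000100000001000100010000000000, nat_lit 99, [[nat_lit 4118, nat_lit 4522, nat_lit 5072, nat_lit 5257, nat_lit 5313, nat_lit 5476, nat_lit 5598, nat_lit 5714, nat_lit 12238, nat_lit 12642, nat_lit 13192, nat_lit 13377, nat_lit 13433, nat_lit 13596, nat_lit 13718, nat_lit 13834]], [nat_lit 31, nat_lit 9, nat_lit 16, nat_lit 38], [nat_lit 5, nat_lit 23, nat_lit 25, nat_lit 12, nat_lit 19, nat_lit 8, nat_lit 3, nat_lit 1, nat_lit 4, nat_lit 2, nat_lit 6, nat_lit 9]),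
  (nat_lit 0x100000100010001000100010100000101010101000000000000000000000000010100000000010100000000000000000000000000000000, nat_lit 0, [[nat_lit 55, nat_lit 15]], [], []),
  (nat_lit 0x10000000001010000000000000100000001000000010000000000010100000000000100010000000100000100000001010000010100, nat_lit 99, [[nat_lit 6687, nat_lit 6688, nat_lit 6689, nat_lit 6690, nat_lit 7917, nat_lit 7918, nat_lit 7919, nat_lit 7920, nat_lit 14807, nat_lit 14808, nat_lit 14809, nat_lit 14810, nat_lit 16037, nat_lit 16038, nat_lit 16039, nat_lit 16040]], [nat_lit 5, nat_lit 26, nat_lit 13, nat_lit 40], [nat_lit 61, nat_lit 25, nat_lit 5, nat_lit 12, nat_lit 3, nat_lit 6, nat_lit 7, nat_lit 2, nat_lit 4, nat_lit 9, nat_lit 1, nat_lit 5816]),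
  (nat_lit 0x1010000010001010100000000010100000101000001010000000000000000010000010001000100000000000000000000000000000000, nat_lit 0, [[nat_lit 58, nat_lit 49]], [], [])]

def BK29 : List Ent := [(nat_lit 0x100000100000100000000010001000000000100000000000000010100000101000000000000000001010000000001000100010001, nat_lit 99, [[nat_lit 1763, nat_lit 1764, nat_lit 1765, nat_lit 1766, nat_lit 2785, nat_lit 2786, nat_lit 2787, nat_lit 2788, nat_lit 9883, nat_lit 9884, nat_lit 9885, nat_lit 9886, nat_lit 10905, nat_lit 10906, nat_lit 10907, nat_lit 10908]], [nat_lit 0, nat_lit 41, nat_lit 52, nat_lit 11], [nat_lit 1917, nat_lit 102, nat_lit 2, nat_lit 9, nat_lit 3, nat_lit 6, nat_lit 5, nat_lit 7, nat_lit 1, nat_lit 4, nat_lit 10, nat_lit 12]),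
  (nat_lit 0x10000010000000101000001010000010000000100000001000000000100000001000000010000000000000101000001010000000000, nat_lit 99, [[nat_lit 4205, nat_lit 4501, nat_lit 4968, nat_lit 5080, nat_lit 5227, nat_lit 5374, nat_lit 5392, nat_lit 5474, nat_lit 12325, nat_lit 12621, nat_lit 13088, nat_lit 13200, nat_lit 13347, nat_lit 13494, nat_lit 13512, nat_lit 13594]], [nat_lit 34, nat_lit 5, nat_lit 45, nat_lit 21], [nat_lit 15, nat_lit 21, nat_lit 110, nat_lit 27, nat_lit 19, nat_lit 2, nat_lit 9, nat_lit 10, nat_lit 4, nat_lit 1, nat_lit 3, nat_lit 5]),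
  (nat_lit 0x100000100000100000000010000010000010000000001000100000000000000000100010000000001010000000001000101000100, nat_lit 99, [[nat_lit 5930, nat_lit 5935, nat_lit 6974, nat_lit 6975, nat_lit 6976, nat_lit 6981, nat_lit 6982, nat_lit 6983, nat_lit 14050, nat_lit 14055, nat_lit 15094, nat_lit 15095, nat_lit 15096, nat_lit 15101, nat_lit 15102, nat_lit 15103]], [nat_lit 38, nat_lit 19, nat_lit 46, nat_lit 12], [nat_lit 13, nat_lit 10, nat_lit 6, nat_lit 7, nat_lit 11, nat_lit 3, nat_lit 2, nat_lit 5, nat_lit 9, nat_lit 1, nat_lit 1896, nat_lit 5816]),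
  (nat_lit 0x1000100000000010000010000000000000100000100000100000100010100000000010000010000000100010000000001000001000000, nat_lit 99, [[nat_lit 4180, nat_lit 4374, nat_lit 4910, nat_lit 4932, nat_lit 4944, nat_lit 5293, nat_lit 5430, nat_lit 5597, nat_lit 12300, nat_lit 12494, nat_lit 13030, nat_lit 13052, nat_lit 13064, nat_lit 13413, nat_lit 13550, nat_lit 13717]], [nat_lit 13, nat_lit 3, nat_lit 20, nat_lit 54], [nat_lit 34, nat_lit 40, nat_lit 17, nat_lit 35, nat_lit 24, nat_lit 2, nat_lit 21, nat_lit 1896, nat_lit 4, nat_lit 6, nat_lit 3, nat_lit 1]),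
  (nat_lit 0x100010000000000010000010000000001000000000001000001000100010001000001000000000100010000000001000100000000010000, nat_lit 99, [[nat_lit 203, nat_lit 269, nat_lit 365, nat_lit 728, nat_lit 901, nat_lit 1051, nat_lit 1452, nat_lit 1517, nat_lit 8323, nat_lit 8389, nat_lit 8485, nat_lit 8848, nat_lit 9021, nat_lit 9171, nat_lit 9572, nat_lit 9637]], [nat_lit 14, nat_lit 16, nat_lit 28, nat_lit 2], [nat_lit 4, nat_lit 40, nat_lit 17, nat_lit 24, nat_lit 15, nat_lit 2, nat_lit 8, nat_lit 5, nat_lit 1, nat_lit 6, nat_lit 3, nat_lit 10]),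
  (nat_lit 0x1000100010000000000010000010100000101000000010000000001000100000000010000000100000001000001000100000000, nat_lit 99, [[nat_lit 809, nat_lit 811, nat_lit 929, nat_lit 1004, nat_lit 1042, nat_lit 1061, nat_lit 1172, nat_lit 1487, nat_lit 8929, nat_lit 8931, nat_lit 9049, nat_lit 9124, nat_lit 9162, nat_lit 9181, nat_lit 9292, nat_lit 9607]], [nat_lit 38, nat_lit 13, nat_lit 24, nat_lit 51], [nat_lit 2, nat_lit 15, nat_lit 54, nat_lit 12, nat_lit 22, nat_lit 14, nat_lit 4, nat_lit 6, nat_lit 5, nat_lit 3, nat_lit 8, nat_lit 1]),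
  (nat_lit 0x1000100000000000101000000000001000000000001000100000101000001000100000001000001000000000000010000000100000001, nat_lit 99, [[nat_lit 2040, nat_lit 2041, nat_lit 2088, nat_lit 2089, nat_lit 3140, nat_lit 3145, nat_lit 3206, nat_lit 3207, nat_lit 10160, nat_lit 10161, nat_lit 10208, nat_lit 10209, nat_lit 11260, nat_lit 11265, nat_lit 11326, nat_lit 11327]], [nat_lit 54, nat_lit 39, nat_lit 27, nat_lit 4], [nat_lit 121, nat_lit 4, nat_lit 13, nat_lit 2, nat_lit 10, nat_lit 8, nat_lit 7, nat_lit 3, nat_lit 5, nat_lit 1, nat_lit 12, nat_lit 1756]),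
  (nat_lit 0x100010000000001000000010000000000010000010000000001000100010000000000010000010001010001000000000100000100, nat_lit 99, [[nat_lit 6169, nat_lit 6170, nat_lit 6171, nat_lit 6198, nat_lit 6199, nat_lit 6200, nat_lit 7283, nat_lit 7322, nat_lit 14289, nat_lit 14290, nat_lit 14291, nat_lit 14318, nat_lit 14319, nat_lit 14320, nat_lit 15403, nat_lit 15442]], [nat_lit 17, nat_lit 27, nat_lit 52, nat_lit 41], [nat_lit 8, nat_lit 17, nat_lit 28, nat_lit 23, nat_lit 5, nat_lit 3, nat_lit 1, nat_lit 10, nat_lit 2, nat_lit 7, nat_lit 6, nat_lit 5816]),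
  (nat_lit 0x10100000000000100010000010000000000010001000101000100000000010000010001000000000000010100000000010000, nat_lit 99, [[nat_lit 593, nat_lit 594, nat_lit 664, nat_lit 732, nat_lit 1001, nat_lit 1345, nat_lit 1392, nat_lit 1492, nat_lit 8713, nat_lit 8714, nat_lit 8784, nat_lit 8852, nat_lit 9121, nat_lit 9465, nat_lit 9512, nat_lit 9612]], [nat_lit 2, nat_lit 43, nat_lit 20, nat_lit 49], [nat_lit 62, nat_lit 22, nat_lit 6, nat_lit 12, nat_lit 14, nat_lit 3, nat_lit 5, nat_lit 11, nat_lit 2, nat_lit 4, nat_lit 1, nat_lit 7]),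
  (nat_lit 0x100010000000000000000000100010000010000000000010100000101000001000001000000000100000100010000000100000000010000, nat_lit 99, [[nat_lit 2, nat_lit 268, nat_lit 519, nat_lit 925, nat_lit 1302, nat_lit 1319, nat_lit 1494, nat_lit 1599, nat_lit 8122, nat_lit 8388, nat_lit 8639, nat_lit 9045, nat_lit 9422, nat_lit 9439, nat_lit 9614, nat_lit 9719]], [nat_lit 38, nat_lit 55, nat_lit 21, nat_lit 31], [nat_lit 1, nat_lit 17, nat_lit 5, nat_lit 9, nat_lit 23, nat_lit 6, nat_lit 7, nat_lit 13, nat_lit 10, nat_lit 11, nat_lit 3, nat_lit 2]),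
  (nat_lit 0x1010000000000000001000001000000010100010000010000010000000001010000000000000100000100000001000001000100000000, nat_lit 99, [[nat_lit 126, nat_lit 189, nat_lit 404, nat_lit 709, nat_lit 1123, nat_lit 1137, nat_lit 1206, nat_lit 1250, nat_lit 8246, nat_lit 8309, nat_lit 8524, nat_lit 8829, nat_lit 9243, nat_lit 9257, nat_lit 9326, nat_lit 9370]], [nat_lit 9, nat_lit 6, nat_lit 42, nat_lit 54], [nat_lit 95, nat_lit 92, nat_lit 3, nat_lit 26, nat_lit 9, nat_lit 8, nat_lit 10, nat_lit 4, nat_lit 1, nat_lit 7, nat_lit 2, nat_lit 5]),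
  (nat_lit 0x10101010000000001010000010100000000000000000001010001000100000000000000000000000000000000000100000101000100, nat_lit 0, [[nat_lit 58, nat_lit 23]], [], []),
  (nat_lit 0x10101010000000001010000010100000000000000000001010001000100000000000000000000000000000000000001010000010001, nat_lit 0, [[nat_lit 62, nat_lit 22]], [], []),
  (nat_lit 0x1010000010100000001000000000100000100010000000100000000010000010001000000000000000000010001000001000000000001, nat_lit 99, [[nat_lit 2158, nat_lit 2159, nat_lit 2160, nat_lit 2202, nat_lit 3292, nat_lit 3336, nat_lit 3337, nat_lit 3338, nat_lit 10278, nat_lit 10279, nat_lit 10280, nat_lit 10322, nat_lit 11412, nat_lit 11456, nat_lit 11457, nat_lit 11458]], [nat_lit 45, nat_lit 49, nat_lit 9, nat_lit 0], [nat_lit 34, nat_lit 31, nat_lit 27, nat_lit 40, nat_lit 22, nat_lit 1756, nat_lit 4, nat_lit 3, nat_lit 5, nat_lit 2, nat_lit 1, nat_lit 6]),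
  (nat_lit 0x100000000000100010000010100000101000000010000000000010001000000010000000001000000010001000000000100000100000000, nat_lit 99, [[nat_lit 343, nat_lit 675, nat_lit 736, nat_lit 993, nat_lit 1102, nat_lit 1479, nat_lit 1553, nat_lit 1594, nat_lit 8463, nat_lit 8795, nat_lit 8856, nat_lit 9113, nat_lit 9222, nat_lit 9599, nat_lit 9673, nat_lit 9714]], [nat_lit 47, nat_lit 39, nat_lit 4, nat_lit 18], [nat_lit 23, nat_lit 25, nat_lit 1, nat_lit 4, nat_lit 12, nat_lit 28, nat_lit 31, nat_lit 10, nat_lit 2, nat_lit 3, nat_lit 5, nat_lit 6]),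
  (nat_lit 0x10000010001000100000000000000000000000000000000000101000001000101010000000001010000010100000101, nat_lit 0, [[nat_lit 37, nat_lit 24]], [], []),
  (nat_lit 0x10001000100000100000000000000000000000000000000010101010000000000010100000100010000010101010000, nat_lit 0, [[nat_lit 37, nat_lit 24]], [], []),
  (nat_lit 0x10001000100000100000000000000000000000000000000010101010000000001000001010001000000010101010000, nat_lit 0, [[nat_lit 17, nat_lit 9]], [], []),
  (nat_lit 0x10000010001000100000000000000000000000000000000010000010100010001010000000001010000010100000101, nat_lit 0, [[nat_lit 25, nat_lit 5]], [], []),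
  (nat_lit 0x10000000100000000000100000100000000010001000100000000000100000100010100010000000001000001000000000100010000, nat_lit 99, [[nat_lit 150, nat_lit 368, nat_lit 408, nat_lit 480, nat_lit 734, nat_lit 1151, nat_lit 1194, nat_lit 1664, nat_lit 8270, nat_lit 8488, nat_lit 8528, nat_lit 8600, nat_lit 8854, nat_lit 9271, nat_lit 9314, nat_lit 9784]], [nat_lit 4, nat_lit 53, nat_lit 31, nat_lit 9], [nat_lit 10, nat_lit 2, nat_lit 39, nat_lit 4, nat_lit 12, nat_lit 15, nat_lit 18, nat_lit 23, nat_lit 1, nat_lit 7, nat_lit 3, nat_lit 6]),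
  (nat_lit 0x10100000000000001000100000100000100000100000101000001000000010000010000000100010000000100000000010000, nat_lit 99, [[nat_lit 119, nat_lit 160, nat_lit 163, nat_lit 695, nat_lit 1247, nat_lit 1260, nat_lit 1321, nat_lit 1406, nat_lit 8239, nat_lit 8280, nat_lit 8283, nat_lit 8815, nat_lit 9367, nat_lit 9380, nat_lit 9441, nat_lit 9526]], [nat_lit 34, nat_lit 20, nat_lit 42, nat_lit 2], [nat_lit 13, nat_lit 69, nat_lit 63, nat_lit 1, nat_lit 10, nat_lit 17, nat_lit 5, nat_lit 7, nat_lit 6, nat_lit 11, nat_lit 2, nat_lit 4]),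
  (nat_lit 0x100000100000000000100000000000101000100000100010001000000010000000000010001000000000100000001000000000000010100, nat_lit 99, [[nat_lit 6005, nat_lit 6056, nat_lit 6057, nat_lit 6058, nat_lit 7069, nat_lit 7070, nat_lit 7071, nat_lit 7138, nat_lit 14125, nat_lit 14176, nat_lit 14177, nat_lit 14178, nat_lit 15189, nat_lit 15190, nat_lit 15191, nat_lit 15258]], [nat_lit 37, nat_lit 30, nat_lit 20, nat_lit 52], [nat_lit 28, nat_lit 56, nat_lit 1, nat_lit 6, nat_lit 5, nat_lit 9, nat_lit 3, nat_lit 2, nat_lit 8, nat_lit 4, nat_lit 10, nat_lit 5816]),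
  (nat_lit 0x1000000000100000000010000000100000000010000010000000000010001000100000000000100010100010000010100000001000000, nat_lit 99, [[nat_lit 4190, nat_lit 4251, nat_lit 4302, nat_lit 4449, nat_lit 4836, nat_lit 4839, nat_lit 4889, nat_lit 5045, nat_lit 12310, nat_lit 12371, nat_lit 12422, nat_lit 12569, nat_lit 12956, nat_lit 12959, nat_lit 13009, nat_lit 13165]], [nat_lit 13, nat_lit 24, nat_lit 16, nat_lit 35], [nat_lit 6, nat_lit 17, nat_lit 28, nat_lit 11, nat_lit 3, nat_lit 5, nat_lit 9, nat_lit 7, nat_lit 2, nat_lit 4, nat_lit 12, nat_lit 1896]),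
  (nat_lit 0x100000001000000010000000000000100000001000000010000000001000001010000010000000000000001010000000001010000010100, nat_lit 99, [[nat_lit 5958, nat_lit 5963, nat_lit 5964, nat_lit 5965, nat_lit 7026, nat_lit 7027, nat_lit 7028, nat_lit 7033, nat_lit 14078, nat_lit 14083, nat_lit 14084, nat_lit 14085, nat_lit 15146, nat_lit 15147, nat_lit 15148, nat_lit 15153]], [nat_lit 51, nat_lit 12, nat_lit 27, nat_lit 40], [nat_lit 18, nat_lit 26, nat_lit 5, nat_lit 1, nat_lit 8, nat_lit 3, nat_lit 9, nat_lit 10, nat_lit 4, nat_lit 2, nat_lit 6, nat_lit 5816]),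
  (nat_lit 0x10001010000000000010001000001000101000100000001000000000001000100000000010000010000000000000000010100, nat_lit 99, [[nat_lit 6613, nat_lit 6634, nat_lit 6635, nat_lit 6636, nat_lit 7845, nat_lit 7846, nat_lit 7847, nat_lit 7864, nat_lit 14733, nat_lit 14754, nat_lit 14755, nat_lit 14756, nat_lit 15965, nat_lit 15966, nat_lit 15967, nat_lit 15984]], [nat_lit 19, nat_lit 27, nat_lit 39, nat_lit 47], [nat_lit 18, nat_lit 103, nat_lit 19, nat_lit 7, nat_lit 8, nat_lit 10, nat_lit 1, nat_lit 9, nat_lit 2, nat_lit 4, nat_lit 3, nat_lit 5816]),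
  (nat_lit 0x100000100010001000000000000000001010101000000000000000000000000000000000000000000000101000001010001000100010100, nat_lit 0, [[nat_lit 14, nat_lit 5]], [], []),
  (nat_lit 0x1010001000001000100000001000000000001000100000100000000010000000000000100000100000000010001000001000000000001, nat_lit 99, [[nat_lit 2156, nat_lit 2157, nat_lit 2161, nat_lit 2203, nat_lit 3293, nat_lit 3334, nat_lit 3335, nat_lit 3339, nat_lit 10276, nat_lit 10277, nat_lit 10281, nat_lit 10323, nat_lit 11413, nat_lit 11454, nat_lit 11455, nat_lit 11459]], [nat_lit 0, nat_lit 26, nat_lit 16, nat_lit 53], [nat_lit 19, nat_lit 18, nat_lit 32, nat_lit 1, nat_lit 2, nat_lit 9, nat_lit 23, nat_lit 1757, nat_lit 5, nat_lit 6, nat_lit 3, nat_lit 4]),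
  (nat_lit 0x100000001010001000000000001000001000000000000000101000000010000010001010000000001000001000001000000000100, nat_lit 99, [[nat_lit 6278, nat_lit 6279, nat_lit 6320, nat_lit 6321, nat_lit 7412, nat_lit 7413, nat_lit 7474, nat_lit 7475, nat_lit 14398, nat_lit 14399, nat_lit 14440, nat_lit 14441, nat_lit 15532, nat_lit 15533, nat_lit 15594, nat_lit 15595]], [nat_lit 27, nat_lit 12, nat_lit 1, nat_lit 18], [nat_lit 2, nat_lit 9, nat_lit 32, nat_lit 41, nat_lit 17, nat_lit 21, nat_lit 13, nat_lit 5816, nat_lit 1, nat_lit 3, nat_lit 4, nat_lit 10]),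
  (nat_lit 0x10001000100000000000100010100000101000000000100000100010000000000000100000001000000010100010000000000, nat_lit 99, [[nat_lit 4089, nat_lit 4613, nat_lit 4800, nat_lit 4840, nat_lit 5044, nat_lit 5205, nat_lit 5693, nat_lit 5803, nat_lit 12209, nat_lit 12733, nat_lit 12920, nat_lit 12960, nat_lit 13164, nat_lit 13325, nat_lit 13813, nat_lit 13923]], [nat_lit 40, nat_lit 25, nat_lit 48, nat_lit 16], [nat_lit 79, nat_lit 77, nat_lit 12, nat_lit 6, nat_lit 5, nat_lit 16, nat_lit 7, nat_lit 9, nat_lit 1, nat_lit 13, nat_lit 4, nat_lit 2]),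
  (nat_lit 0x1000001000000000001000100010000000000010001010001000001010000000100000000010000000001000000000100000001, nat_lit 99, [[nat_lit 2452, nat_lit 2453, nat_lit 2487, nat_lit 2488, nat_lit 3642, nat_lit 3643, nat_lit 3687, nat_lit 3688, nat_lit 10572, nat_lit 10573, nat_lit 10607, nat_lit 10608, nat_lit 11762, nat_lit 11763, nat_lit 11807, nat_lit 11808]], [nat_lit 27, nat_lit 23, nat_lit 42, nat_lit 51], [nat_lit 122, nat_lit 15, nat_lit 44, nat_lit 7, nat_lit 2, nat_lit 10, nat_lit 3, nat_lit 1, nat_lit 4, nat_lit 6, nat_lit 5, nat_lit 1756])]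

def BK30 : List Ent := [(nat_lit 0x100010000010100010101010000000000000000000000000000010101010000000000000000000000000000000000000001010001000100, nat_lit 0, [[nat_lit 8, nat_lit 2]], [], []),
  (nat_lit 0x1000100000000000101000000000000000001010000000001000101000100010000000100000001000000000000010100000000010000, nat_lit 99, [[nat_lit 78, nat_lit 337, nat_lit 384, nat_lit 790, nat_lit 866, nat_lit 867, nat_lit 970, nat_lit 1264, nat_lit 8198, nat_lit 8457, nat_lit 8504, nat_lit 8910, nat_lit 8986, nat_lit 8987, nat_lit 9090, nat_lit 9384]], [nat_lit 45, nat_lit 35, nat_lit 2, nat_lit 52], [nat_lit 6, nat_lit 12, nat_lit 14, nat_lit 21, nat_lit 1, nat_lit 16, nat_lit 7, nat_lit 5, nat_lit 10, nat_lit 13, nat_lit 4, nat_lit 2]),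
  (nat_lit 0x100010000000000010000010000000001000000000001000100010001000100000001000000000100010000000001000100000000010000, nat_lit 99, [[nat_lit 468, nat_lit 532, nat_lit 599, nat_lit 1047, nat_lit 1288, nat_lit 1565, nat_lit 1615, nat_lit 1690, nat_lit 8588, nat_lit 8652, nat_lit 8719, nat_lit 9167, nat_lit 9408, nat_lit 9685, nat_lit 9735, nat_lit 9810]], [nat_lit 9, nat_lit 29, nat_lit 7, nat_lit 47], [nat_lit 29, nat_lit 47, nat_lit 58, nat_lit 6, nat_lit 3, nat_lit 18, nat_lit 14, nat_lit 5, nat_lit 9, nat_lit 1, nat_lit 4, nat_lit 2]),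
  (nat_lit 0x10101010000000000000000000000000000000000000000010100000101000000010001000101000100000100010001, nat_lit 0, [[nat_lit 8, nat_lit 2]], [], []),
  (nat_lit 0x1000001000000000100010000000001000001000000000000010000010000010000010001010000000001000001000000010001000000, nat_lit 99, [[nat_lit 4079, nat_lit 4110, nat_lit 4343, nat_lit 4499, nat_lit 4545, nat_lit 5132, nat_lit 5156, nat_lit 5711, nat_lit 12199, nat_lit 12230, nat_lit 12463, nat_lit 12619, nat_lit 12665, nat_lit 13252, nat_lit 13276, nat_lit 13831]], [nat_lit 17, nat_lit 54, nat_lit 44, nat_lit 5], [nat_lit 31, nat_lit 44, nat_lit 4, nat_lit 10, nat_lit 20, nat_lit 9, nat_lit 3, nat_lit 1, nat_lit 5, nat_lit 6, nat_lit 13, nat_lit 1896]),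
  (nat_lit 0x1010101010101010000000000000000000000000000000000000000000000000000000000000000, nat_lit 2, [[nat_lit 2017], [nat_lit 7047], [nat_lit 3108], [nat_lit 5219], [nat_lit 1039], [nat_lit 7164], [nat_lit 5979], [nat_lit 3102], [nat_lit 3370, nat_lit 3359], [nat_lit 5253, nat_lit 5227], [nat_lit 3219, nat_lit 3215], [nat_lit 2963, nat_lit 2956]], [], []),
  (nat_lit 0x100000000010000000100010000000000000000000100010000010000010000000101000100000101000000010000000000000100010000, nat_lit 99, [[nat_lit 194, nat_lit 535, nat_lit 536, nat_lit 688, nat_lit 787, nat_lit 1073, nat_lit 1404, nat_lit 1476, nat_lit 8314, nat_lit 8655, nat_lit 8656, nat_lit 8808, nat_lit 8907, nat_lit 9193, nat_lit 9524, nat_lit 9596]], [nat_lit 4, nat_lit 15, nat_lit 19, nat_lit 29], [nat_lit 1760, nat_lit 1, nat_lit 5, nat_lit 23, nat_lit 26, nat_lit 11, nat_lit 8, nat_lit 15, nat_lit 2, nat_lit 7, nat_lit 3, nat_lit 6]),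
  (nat_lit 0x101010100000000010000010100010001010000000001010000000000000000000100010001010000000000000000000000000000000000, nat_lit 0, [[nat_lit 55, nat_lit 15]], [], []),
  (nat_lit 0x100000001000000010000000000000100000100000001000100010000000000000000000001000100000001010000000100000100010100, nat_lit 99, [[nat_lit 6582, nat_lit 6583, nat_lit 6584, nat_lit 6587, nat_lit 7794, nat_lit 7801, nat_lit 7802, nat_lit 7803, nat_lit 14702, nat_lit 14703, nat_lit 14704, nat_lit 14707, nat_lit 15914, nat_lit 15921, nat_lit 15922, nat_lit 15923]], [nat_lit 12, nat_lit 31, nat_lit 2, nat_lit 18], [nat_lit 7, nat_lit 9, nat_lit 1, nat_lit 10, nat_lit 13, nat_lit 19, nat_lit 20, nat_lit 3, nat_lit 2, nat_lit 4, nat_lit 5, nat_lit 5816]),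
  (nat_lit 0x1000101000100000001000000000100000001000100000000010000000100000100010000000000000000000100010000000101000000, nat_lit 99, [[nat_lit 4281, nat_lit 4720, nat_lit 4867, nat_lit 4887, nat_lit 4901, nat_lit 5270, nat_lit 5533, nat_lit 5541, nat_lit 12401, nat_lit 12840, nat_lit 12987, nat_lit 13007, nat_lit 13021, nat_lit 13390, nat_lit 13653, nat_lit 13661]], [nat_lit 20, nat_lit 29, nat_lit 8, nat_lit 34], [nat_lit 32, nat_lit 60, nat_lit 6, nat_lit 3, nat_lit 7, nat_lit 5, nat_lit 14, nat_lit 13, nat_lit 1, nat_lit 4, nat_lit 12, nat_lit 1896]),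
  (nat_lit 0x101010100000000000000000000000000000000000001010000010100010001000101000100000100010001, nat_lit 0, [[nat_lit 37, nat_lit 24]], [], []),
  (nat_lit 0x1000101000100000001000000000101000000000000010100000000010000010001000000000000000000000100010000010000010000, nat_lit 99, [[nat_lit 207, nat_lit 476, nat_lit 954, nat_lit 974, nat_lit 1021, nat_lit 1591, nat_lit 1677, nat_lit 1748, nat_lit 8327, nat_lit 8596, nat_lit 9074, nat_lit 9094, nat_lit 9141, nat_lit 9711, nat_lit 9797, nat_lit 9868]], [nat_lit 5, nat_lit 52, nat_lit 8, nat_lit 45], [nat_lit 27, nat_lit 28, nat_lit 17, nat_lit 8, nat_lit 12, nat_lit 15, nat_lit 1, nat_lit 2, nat_lit 4, nat_lit 23, nat_lit 3, nat_lit 10]),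
  (nat_lit 0x100000100000000000100000000000100010100010000010000000100000100010000000000000100000100000001000000000001000001, nat_lit 99, [[nat_lit 2544, nat_lit 2581, nat_lit 3776, nat_lit 3778, nat_lit 3779, nat_lit 3812, nat_lit 3813, nat_lit 3817, nat_lit 10664, nat_lit 10701, nat_lit 11896, nat_lit 11898, nat_lit 11899, nat_lit 11932, nat_lit 11933, nat_lit 11937]], [nat_lit 25, nat_lit 37, nat_lit 55, nat_lit 13], [nat_lit 5, nat_lit 9, nat_lit 6, nat_lit 7, nat_lit 16, nat_lit 18, nat_lit 2, nat_lit 3, nat_lit 1, nat_lit 4, nat_lit 1756, nat_lit 1896]),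
  (nat_lit 0x10000000100000000000100000100000000000100010000000101000000010000010100000100000001000001000001000000000100, nat_lit 99, [[nat_lit 6272, nat_lit 6277, nat_lit 6322, nat_lit 6327, nat_lit 7408, nat_lit 7409, nat_lit 7478, nat_lit 7479, nat_lit 14392, nat_lit 14397, nat_lit 14442, nat_lit 14447, nat_lit 15528, nat_lit 15529, nat_lit 15598, nat_lit 15599]], [nat_lit 27, nat_lit 20, nat_lit 32, nat_lit 53], [nat_lit 9, nat_lit 15, nat_lit 22, nat_lit 3, nat_lit 11, nat_lit 1, nat_lit 7, nat_lit 5, nat_lit 6, nat_lit 2, nat_lit 4, nat_lit 5816]),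
  (nat_lit 0x100000000010000000000000100000100000000000100010000010000010000000100010001000100010000000100000001000000000100, nat_lit 99, [[nat_lit 7510, nat_lit 7511, nat_lit 7514, nat_lit 7515, nat_lit 7516, nat_lit 7517, nat_lit 7520, nat_lit 7521, nat_lit 15630, nat_lit 15631, nat_lit 15634, nat_lit 15635, nat_lit 15636, nat_lit 15637, nat_lit 15640, nat_lit 15641]], [nat_lit 43, nat_lit 20, nat_lit 29, nat_lit 1], [nat_lit 22, nat_lit 15, nat_lit 28, nat_lit 43, nat_lit 21, nat_lit 5816, nat_lit 2, nat_lit 3, nat_lit 8, nat_lit 9, nat_lit 6, nat_lit 4]),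
  (nat_lit 0x101010100000000000101000001000101010000000001010000000000000000000100010001010000000000000000000000000000000000, nat_lit 0, [[nat_lit 64, nat_lit 12]], [], []),
  (nat_lit 0x10100000101000100010001010000000000000000000100010000010100000000000000000000000000000000000000010101010000, nat_lit 0, [[nat_lit 71, nat_lit 68]], [], []),
  (nat_lit 0x100010000010001010000000100000000010000000001000001000001000000000000000001010000010100000000000001000000000001, nat_lit 99, [[nat_lit 2350, nat_lit 2351, nat_lit 2355, nat_lit 2365, nat_lit 3515, nat_lit 3524, nat_lit 3525, nat_lit 3529, nat_lit 10470, nat_lit 10471, nat_lit 10475, nat_lit 10485, nat_lit 11635, nat_lit 11644, nat_lit 11645, nat_lit 11649]], [nat_lit 6, nat_lit 47, nat_lit 48, nat_lit 38], [nat_lit 1, nat_lit 29, nat_lit 12, nat_lit 32, nat_lit 16, nat_lit 4, nat_lit 7, nat_lit 6, nat_lit 3, nat_lit 2, nat_lit 5, nat_lit 1756]),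
  (nat_lit 0x10000000001000000010001000000010000010000000000000001000001000000000100010000000001010000000100000101000001, nat_lit 99, [[nat_lit 2511, nat_lit 2512, nat_lit 2513, nat_lit 2514, nat_lit 3717, nat_lit 3718, nat_lit 3719, nat_lit 3720, nat_lit 10631, nat_lit 10632, nat_lit 10633, nat_lit 10634, nat_lit 11837, nat_lit 11838, nat_lit 11839, nat_lit 11840]], [nat_lit 3, nat_lit 17, nat_lit 24, nat_lit 42], [nat_lit 1948, nat_lit 1801, nat_lit 7, nat_lit 25, nat_lit 24, nat_lit 26, nat_lit 11, nat_lit 3, nat_lit 8, nat_lit 2, nat_lit 6, nat_lit 1]),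
  (nat_lit 0x1000001010000010000000001000000000001000100010000010001000100000001000001000000000000010100000000010000, nat_lit 99, [[nat_lit 104, nat_lit 442, nat_lit 469, nat_lit 1048, nat_lit 1199, nat_lit 1266, nat_lit 1361, nat_lit 1391, nat_lit 8224, nat_lit 8562, nat_lit 8589, nat_lit 9168, nat_lit 9319, nat_lit 9386, nat_lit 9481, nat_lit 9511]], [nat_lit 39, nat_lit 31, nat_lit 47, nat_lit 7], [nat_lit 204, nat_lit 124, nat_lit 10, nat_lit 28, nat_lit 13, nat_lit 1, nat_lit 2, nat_lit 8, nat_lit 14, nat_lit 3, nat_lit 5, nat_lit 12]),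
  (nat_lit 0x10000000001000100000000010000000001000000010000000000010100000101000000000001000000000001000001010001000001, nat_lit 99, [[nat_lit 2603, nat_lit 2604, nat_lit 2605, nat_lit 2616, nat_lit 3841, nat_lit 3848, nat_lit 3849, nat_lit 3850, nat_lit 10723, nat_lit 10724, nat_lit 10725, nat_lit 10736, nat_lit 11961, nat_lit 11968, nat_lit 11969, nat_lit 11970]], [nat_lit 0, nat_lit 46, nat_lit 25, nat_lit 22], [nat_lit 11, nat_lit 19, nat_lit 92, nat_lit 1763, nat_lit 5, nat_lit 1, nat_lit 3, nat_lit 7, nat_lit 2, nat_lit 8, nat_lit 9, nat_lit 1896]),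
  (nat_lit 0x10000000001000000010001000000000001000000010000000000010100010000010000000000000001010000000100010001000100, nat_lit 99, [[nat_lit 5950, nat_lit 5953, nat_lit 7002, nat_lit 7003, nat_lit 7004, nat_lit 7011, nat_lit 7012, nat_lit 7013, nat_lit 14070, nat_lit 14073, nat_lit 15122, nat_lit 15123, nat_lit 15124, nat_lit 15131, nat_lit 15132, nat_lit 15133]], [nat_lit 23, nat_lit 53, nat_lit 25, nat_lit 1], [nat_lit 138, nat_lit 42, nat_lit 14, nat_lit 21, nat_lit 1, nat_lit 5844, nat_lit 1896, nat_lit 2, nat_lit 4, nat_lit 6, nat_lit 3, nat_lit 9]),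
  (nat_lit 0x10100000101010001000100000101000001000100010000000000000000010101010000000000000000000000000000000000000000, nat_lit 0, [[nat_lit 23, nat_lit 19]], [], [])]

def BK31 : List Ent := [(nat_lit 0x10001000001010001010101000000000100000101000100000000000000000001010000010100000000000000000000, nat_lit 0, [[nat_lit 26, nat_lit 10]], [], []),
  (nat_lit 0x100010000010100000000000000000001000001010001000000000000000000000000000000000000010001000101000001010001000100, nat_lit 0, [[nat_lit 8, nat_lit 2]], [], []),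
  (nat_lit 0x1000000000100010000000001000001000100000000000100000100000000010000000000010001000100010001000000010000000001, nat_lit 99, [[nat_lit 2406, nat_lit 2407, nat_lit 2408, nat_lit 2419, nat_lit 3586, nat_lit 3601, nat_lit 3602, nat_lit 3603, nat_lit 10526, nat_lit 10527, nat_lit 10528, nat_lit 10539, nat_lit 11706, nat_lit 11721, nat_lit 11722, nat_lit 11723]], [nat_lit 31, nat_lit 23, nat_lit 13, nat_lit 0], [nat_lit 6, nat_lit 13, nat_lit 5, nat_lit 24, nat_lit 2, nat_lit 12, nat_lit 21, nat_lit 1756, nat_lit 3, nat_lit 1, nat_lit 9, nat_lit 10]),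
  (nat_lit 0x1010001000100000000000000000000000000000000000100000101000100010100000000010100000101000001010000000000000000, nat_lit 0, [[nat_lit 35, nat_lit 1]], [], []),
  (nat_lit 0x100000000010000000100010000000001000001000000000100000000000100000101000001010001000000010000000000010001000000, nat_lit 99, [[nat_lit 4455, nat_lit 4779, nat_lit 5125, nat_lit 5135, nat_lit 5246, nat_lit 5404, nat_lit 5483, nat_lit 5793, nat_lit 12575, nat_lit 12899, nat_lit 13245, nat_lit 13255, nat_lit 13366, nat_lit 13524, nat_lit 13603, nat_lit 13913]], [nat_lit 17, nat_lit 15, nat_lit 44, nat_lit 25], [nat_lit 14, nat_lit 21, nat_lit 1, nat_lit 2, nat_lit 5, nat_lit 3, nat_lit 4, nat_lit 6, nat_lit 9, nat_lit 10, nat_lit 12, nat_lit 1896]),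
  (nat_lit 0x101010100000000010000010100010000000000000000000000010100000101000000000000000000000000000000000100010000010100, nat_lit 0, [[nat_lit 30, nat_lit 15]], [], []),
  (nat_lit 0x10001000001010001010101000000000001010000010001000000000000000001010000010100000000000000000000, nat_lit 0, [[nat_lit 19, nat_lit 1]], [], []),
  (nat_lit 0x10000000100000100010000000001000001000000000001000000000001010001000100010000000100000000010000010001000000, nat_lit 99, [[nat_lit 4950, nat_lit 4993, nat_lit 5298, nat_lit 5488, nat_lit 5602, nat_lit 5640, nat_lit 5708, nat_lit 5765, nat_lit 13070, nat_lit 13113, nat_lit 13418, nat_lit 13608, nat_lit 13722, nat_lit 13760, nat_lit 13828, nat_lit 13885]], [nat_lit 36, nat_lit 3, nat_lit 30, nat_lit 44], [nat_lit 28, nat_lit 6, nat_lit 15, nat_lit 33, nat_lit 16, nat_lit 1897, nat_lit 3, nat_lit 4, nat_lit 2, nat_lit 13, nat_lit 1, nat_lit 9]),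
  (nat_lit 0x1010001000100000000000000000000000000000000000001010000010001010100000000010100000101000001010000000000000000, nat_lit 0, [[nat_lit 10, nat_lit 4]], [], []),
  (nat_lit 0x100000101000100000000000000000000000000000000000100010001000001010000010001000101000100000101000000000000000000, nat_lit 0, [[nat_lit 43, nat_lit 28]], [], []),
  (nat_lit 0x101000001010000000000000000000001000001000100010000000000000000000000000000000000010100000100010101000000000101, nat_lit 0, [[nat_lit 30, nat_lit 27]], [], []),
  (nat_lit 0x101000001010000000000000000000001000001000100010000000000000000000000000000000001000001010001000101000000000101, nat_lit 0, [[nat_lit 41, nat_lit 37]], [], []),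
  (nat_lit 0x10001000001010000000000010101010100000101000100000000000000000000000101000001010000000000000000, nat_lit 0, [[nat_lit 14, nat_lit 5]], [], []),
  (nat_lit 0x100010000010100000000000000000000010100000100010000000000000000000000000000000000010001000101000001010001000100, nat_lit 99, [[nat_lit 5835, nat_lit 5836, nat_lit 5841, nat_lit 5842, nat_lit 6830, nat_lit 6831, nat_lit 6838, nat_lit 6839, nat_lit 6989, nat_lit 6990, nat_lit 6995, nat_lit 6996, nat_lit 7940, nat_lit 7941, nat_lit 7948, nat_lit 7949, nat_lit 13955, nat_lit 13956, nat_lit 13961, nat_lit 13962, nat_lit 14950, nat_lit 14951, nat_lit 14958, nat_lit 14959, nat_lit 15109, nat_lit 15110, nat_lit 15115, nat_lit 15116, nat_lit 16060, nat_lit 16061, nat_lit 16068, nat_lit 16069]], [nat_lit 53, nat_lit 49, nat_lit 38, nat_lit 34, nat_lit 5], [nat_lit 22, nat_lit 14, nat_lit 6, nat_lit 18, nat_lit 3, nat_lit 2, nat_lit 4, nat_lit 7, nat_lit 1, nat_lit 1896, nat_lit 5816]),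
  (nat_lit 0x10001000000000001000000010000000000010000010001010000000000000001000001000000010001000100010000000100000100, nat_lit 99, [[nat_lit 6465, nat_lit 6480, nat_lit 6481, nat_lit 6482, nat_lit 7643, nat_lit 7644, nat_lit 7645, nat_lit 7664, nat_lit 14585, nat_lit 14600, nat_lit 14601, nat_lit 14602, nat_lit 15763, nat_lit 15764, nat_lit 15765, nat_lit 15784]], [nat_lit 35, nat_lit 14, nat_lit 51, nat_lit 45], [nat_lit 15, nat_lit 17, nat_lit 6, nat_lit 21, nat_lit 1, nat_lit 11, nat_lit 3, nat_lit 5, nat_lit 13, nat_lit 2, nat_lit 7, nat_lit 5816]),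
  (nat_lit 0x10001000001010000000000010101010001010000010001000000000000000000000101000001010000000000000000, nat_lit 0, [[nat_lit 40, nat_lit 17]], [], []),
  (nat_lit 0x100000100010000000000000100010000010000000001000100000000000101000000000000010000000000010100010001000100, nat_lit 99, [[nat_lit 6707, nat_lit 6714, nat_lit 7953, nat_lit 7954, nat_lit 7955, nat_lit 7966, nat_lit 7967, nat_lit 7968, nat_lit 14827, nat_lit 14834, nat_lit 16073, nat_lit 16074, nat_lit 16075, nat_lit 16086, nat_lit 16087, nat_lit 16088]], [nat_lit 3, nat_lit 21, nat_lit 28, nat_lit 49], [nat_lit 63, nat_lit 20, nat_lit 25, nat_lit 5, nat_lit 24, nat_lit 1896, nat_lit 2, nat_lit 1, nat_lit 4, nat_lit 6, nat_lit 9, nat_lit 5816]),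
  (nat_lit 0x10000010001000100000000000000000000000000000000000101000001000100000101010100000000010100000101, nat_lit 0, [[nat_lit 37, nat_lit 24]], [], []),
  (nat_lit 0x10000010001000100000000000000000000000000000000010000010100010000000101010100000000010100000101, nat_lit 0, [[nat_lit 37, nat_lit 24]], [], []),
  (nat_lit 0x100000000000100000100010001000100010000000100000100000000000001000100000100000001000100000000000000000000010001, nat_lit 99, [[nat_lit 1831, nat_lit 1832, nat_lit 2859, nat_lit 2860, nat_lit 2864, nat_lit 2865, nat_lit 2866, nat_lit 2867, nat_lit 9951, nat_lit 9952, nat_lit 10979, nat_lit 10980, nat_lit 10984, nat_lit 10985, nat_lit 10986, nat_lit 10987]], [nat_lit 49, nat_lit 24, nat_lit 0, nat_lit 38], [nat_lit 147, nat_lit 1777, nat_lit 5, nat_lit 6, nat_lit 7, nat_lit 3, nat_lit 2, nat_lit 1, nat_lit 10, nat_lit 8, nat_lit 4, nat_lit 12]),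
  (nat_lit 0x101010100000000000101000001000100000000000000000000010100000101000000000000000000000000000000000100010000010100, nat_lit 0, [[nat_lit 30, nat_lit 15]], [], []),
  (nat_lit 0x100010000000000010000000100010001000000000000000000010001000100000000000100010001000100010001000000010000, nat_lit 99, [[nat_lit 64, nat_lit 87, nat_lit 157, nat_lit 249, nat_lit 674, nat_lit 838, nat_lit 1219, nat_lit 1337, nat_lit 8184, nat_lit 8207, nat_lit 8277, nat_lit 8369, nat_lit 8794, nat_lit 8958, nat_lit 9339, nat_lit 9457]], [nat_lit 16, nat_lit 50, nat_lit 6, nat_lit 36], [nat_lit 192, nat_lit 29, nat_lit 15, nat_lit 2, nat_lit 6, nat_lit 10, nat_lit 3, nat_lit 5, nat_lit 4, nat_lit 8, nat_lit 7, nat_lit 1]),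
  (nat_lit 0x1010001000001010000000100000000000001000100000100000000010000000100010000000000000000000100010000010000010000, nat_lit 99, [[nat_lit 215, nat_lit 340, nat_lit 766, nat_lit 1002, nat_lit 1342, nat_lit 1390, nat_lit 1600, nat_lit 1714, nat_lit 8335, nat_lit 8460, nat_lit 8886, nat_lit 9122, nat_lit 9462, nat_lit 9510, nat_lit 9720, nat_lit 9834]], [nat_lit 26, nat_lit 10, nat_lit 48, nat_lit 36], [nat_lit 3, nat_lit 121, nat_lit 47, nat_lit 4, nat_lit 5, nat_lit 1, nat_lit 2, nat_lit 6, nat_lit 7, nat_lit 9, nat_lit 12, nat_lit 13]),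
  (nat_lit 0x1000101000001000000000000000000000000000000000000010101010000000001010000010101000100010000010000000000000000, nat_lit 0, [[nat_lit 35, nat_lit 34]], [], []),
  (nat_lit 0x10100000101000100010001010000000000000000000001000101000001000000000000000000000000000000000101000000000101, nat_lit 0, [[nat_lit 71, nat_lit 68]], [], []),
  (nat_lit 0x1000000000001000100010100010000000001000001000100000000000001010000000001000000000000000101000000000001000100, nat_lit 99, [[nat_lit 5867, nat_lit 5868, nat_lit 6895, nat_lit 6896, nat_lit 6948, nat_lit 6949, nat_lit 6950, nat_lit 6951, nat_lit 13987, nat_lit 13988, nat_lit 15015, nat_lit 15016, nat_lit 15068, nat_lit 15069, nat_lit 15070, nat_lit 15071]], [nat_lit 9, nat_lit 24, nat_lit 48, nat_lit 36], [nat_lit 12, nat_lit 29, nat_lit 14, nat_lit 25, nat_lit 1, nat_lit 2, nat_lit 6, nat_lit 3, nat_lit 5, nat_lit 4, nat_lit 1896, nat_lit 5816]),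
  (nat_lit 0x101000000000101000000000000000000000000000000000100000100010001000100010100000101010101000000000000000000000000, nat_lit 0, [[nat_lit 60, nat_lit 6]], [], []),
  (nat_lit 0x1010000010001000000000000000000000000000000000100010001000001010000010001000101000100000101000000000000000000, nat_lit 99, [[nat_lit 4159, nat_lit 4259, nat_lit 4311, nat_lit 4473, nat_lit 4507, nat_lit 4838, nat_lit 4931, nat_lit 5218, nat_lit 5219, nat_lit 5315, nat_lit 5385, nat_lit 5393, nat_lit 5448, nat_lit 5478, nat_lit 5546, nat_lit 5698, nat_lit 12279, nat_lit 12379, nat_lit 12431, nat_lit 12593, nat_lit 12627, nat_lit 12958, nat_lit 13051, nat_lit 13338, nat_lit 13339, nat_lit 13435, nat_lit 13505, nat_lit 13513, nat_lit 13568, nat_lit 13598, nat_lit 13666, nat_lit 13818]], [nat_lit 10, nat_lit 29, nat_lit 54, nat_lit 27, nat_lit 15], [nat_lit 26, nat_lit 16, nat_lit 59, nat_lit 7, nat_lit 5, nat_lit 3, nat_lit 1, nat_lit 1896, nat_lit 2, nat_lit 9, nat_lit 6]),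
  (nat_lit 0x100000000000001000000010000000101000100000000000000000000010001000100000000000101000001010000010000000100000100, nat_lit 99, [[nat_lit 6470, nat_lit 6475, nat_lit 7650, nat_lit 7651, nat_lit 7652, nat_lit 7657, nat_lit 7658, nat_lit 7659, nat_lit 14590, nat_lit 14595, nat_lit 15770, nat_lit 15771, nat_lit 15772, nat_lit 15777, nat_lit 15778, nat_lit 15779]], [nat_lit 11, nat_lit 24, nat_lit 44, nat_lit 48], [nat_lit 6, nat_lit 15, nat_lit 17, nat_lit 2, nat_lit 3, nat_lit 4, nat_lit 12, nat_lit 13, nat_lit 1, nat_lit 7, nat_lit 10, nat_lit 5816])]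

def BK32 : List Ent := [(nat_lit 0x100000000000100000101000001010000000001000001000000000100010000000100000100000000010001000000000000000000010001, nat_lit 99, [[nat_lit 2692, nat_lit 2693, nat_lit 2713, nat_lit 2714, nat_lit 3958, nat_lit 3959, nat_lit 3993, nat_lit 3994, nat_lit 10812, nat_lit 10813, nat_lit 10833, nat_lit 10834, nat_lit 12078, nat_lit 12079, nat_lit 12113, nat_lit 12114]], [nat_lit 28, nat_lit 12, nat_lit 36, nat_lit 49], [nat_lit 6, nat_lit 113, nat_lit 46, nat_lit 12, nat_lit 9, nat_lit 2, nat_lit 3, nat_lit 7, nat_lit 4, nat_lit 5, nat_lit 1, nat_lit 1756]),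
  (nat_lit 0x1000100000000010100000001000100010001000100000001000000010000000000000100010000010000000000000000010100, nat_lit 99, [[nat_lit 6012, nat_lit 6013, nat_lit 6017, nat_lit 6040, nat_lit 7093, nat_lit 7120, nat_lit 7122, nat_lit 7123, nat_lit 14132, nat_lit 14133, nat_lit 14137, nat_lit 14160, nat_lit 15213, nat_lit 15240, nat_lit 15242, nat_lit 15243]], [nat_lit 39, nat_lit 11, nat_lit 27, nat_lit 2], [nat_lit 63, nat_lit 14, nat_lit 17, nat_lit 5, nat_lit 7, nat_lit 11, nat_lit 3, nat_lit 4, nat_lit 6, nat_lit 2, nat_lit 1, nat_lit 5816]),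
  (nat_lit 0x10001000000000001000000010000010001000000000100000100000000000100000000000100010001000100010000010000000001, nat_lit 99, [[nat_lit 2399, nat_lit 2426, nat_lit 3573, nat_lit 3574, nat_lit 3575, nat_lit 3614, nat_lit 3615, nat_lit 3616, nat_lit 10519, nat_lit 10546, nat_lit 11693, nat_lit 11694, nat_lit 11695, nat_lit 11734, nat_lit 11735, nat_lit 11736]], [nat_lit 16, nat_lit 14, nat_lit 41, nat_lit 53], [nat_lit 52, nat_lit 5, nat_lit 10, nat_lit 11, nat_lit 1, nat_lit 2, nat_lit 3, nat_lit 7, nat_lit 9, nat_lit 12, nat_lit 13, nat_lit 1756]),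
  (nat_lit 0x10000010000000101000001010000000001000001000000010001000000010000000001000000000000000101000000000000010001, nat_lit 99, [[nat_lit 1810, nat_lit 1813, nat_lit 1852, nat_lit 1853, nat_lit 2838, nat_lit 2841, nat_lit 2886, nat_lit 2887, nat_lit 9930, nat_lit 9933, nat_lit 9972, nat_lit 9973, nat_lit 10958, nat_lit 10961, nat_lit 11006, nat_lit 11007]], [nat_lit 41, nat_lit 33, nat_lit 53, nat_lit 10], [nat_lit 49, nat_lit 28, nat_lit 34, nat_lit 2, nat_lit 7, nat_lit 9, nat_lit 10, nat_lit 3, nat_lit 1, nat_lit 4, nat_lit 5, nat_lit 1756]),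
  (nat_lit 0x100010000000100000100000000000000000101000100000100000000000001000001000000010100000101000100000001000000, nat_lit 99, [[nat_lit 4129, nat_lit 4143, nat_lit 4289, nat_lit 4588, nat_lit 5033, nat_lit 5567, nat_lit 5656, nat_lit 5695, nat_lit 12249, nat_lit 12263, nat_lit 12409, nat_lit 12708, nat_lit 13153, nat_lit 13687, nat_lit 13776, nat_lit 13815]], [nat_lit 46, nat_lit 18, nat_lit 7, nat_lit 50], [nat_lit 11, nat_lit 33, nat_lit 4, nat_lit 8, nat_lit 7, nat_lit 9, nat_lit 10, nat_lit 2, nat_lit 13, nat_lit 1, nat_lit 3, nat_lit 1896]),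
  (nat_lit 0x100000001000000000000010001000001000000000100000001000100000000000000000001000100000100000100000001010001000001, nat_lit 99, [[nat_lit 2606, nat_lit 2607, nat_lit 2608, nat_lit 2613, nat_lit 2614, nat_lit 2615, nat_lit 3842, nat_lit 3847, nat_lit 10726, nat_lit 10727, nat_lit 10728, nat_lit 10733, nat_lit 10734, nat_lit 10735, nat_lit 11962, nat_lit 11967]], [nat_lit 34, nat_lit 30, nat_lit 0, nat_lit 13], [nat_lit 30, nat_lit 31, nat_lit 52, nat_lit 16, nat_lit 34, nat_lit 1760, nat_lit 4, nat_lit 2, nat_lit 3, nat_lit 9, nat_lit 13, nat_lit 1896]),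
  (nat_lit 0x100000001000000000100000000010000000100000001000100010000000000010000010000000000010000000000010100000101000001, nat_lit 99, [[nat_lit 2506, nat_lit 2507, nat_lit 2508, nat_lit 2519, nat_lit 3710, nat_lit 3725, nat_lit 3726, nat_lit 3727, nat_lit 10626, nat_lit 10627, nat_lit 10628, nat_lit 10639, nat_lit 11830, nat_lit 11845, nat_lit 11846, nat_lit 11847]], [nat_lit 8, nat_lit 55, nat_lit 33, nat_lit 20], [nat_lit 7, nat_lit 37, nat_lit 38, nat_lit 16, nat_lit 5, nat_lit 2, nat_lit 3, nat_lit 1, nat_lit 4, nat_lit 13, nat_lit 1756, nat_lit 1896]),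
  (nat_lit 0x10100000101000000000000000000000000000000000000000100010100000100000000010101010100000101000100, nat_lit 0, [[nat_lit 25, nat_lit 12]], [], []),
  (nat_lit 0x10100000101000000000000000000000000000000000000000100010100000100000000010101010001010000010001, nat_lit 0, [[nat_lit 31, nat_lit 27]], [], []),
  (nat_lit 0x10101010000000000000000000000000000000000000100000100010001010001000001010001010101000000000000000000000000, nat_lit 0, [[nat_lit 60, nat_lit 6]], [], []),
  (nat_lit 0x101010100000000000000000000000001010000000001010000000000000000000000000000000000010100010001000001000101000001, nat_lit 0, [[nat_lit 41, nat_lit 37]], [], []),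
  (nat_lit 0x10000010000010000010100000100010000000100000001000000000100000001000000010000000000000101000001010000000000, nat_lit 99, [[nat_lit 4196, nat_lit 4412, nat_lit 4451, nat_lit 4551, nat_lit 4816, nat_lit 5439, nat_lit 5497, nat_lit 5576, nat_lit 12316, nat_lit 12532, nat_lit 12571, nat_lit 12671, nat_lit 12936, nat_lit 13559, nat_lit 13617, nat_lit 13696]], [nat_lit 34, nat_lit 47, nat_lit 21, nat_lit 5], [nat_lit 63, nat_lit 81, nat_lit 61, nat_lit 3, nat_lit 7, nat_lit 5, nat_lit 13, nat_lit 1, nat_lit 14, nat_lit 2, nat_lit 4, nat_lit 6]),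
  (nat_lit 0x101010100000000000000000000000000000000010100000101000001000100010000010100000100010001, nat_lit 0, [[nat_lit 11, nat_lit 3]], [], []),
  (nat_lit 0x100010100000100000000000000000000000000000000000001010101000001010000010100000100010001000001, nat_lit 0, [[nat_lit 40, nat_lit 17]], [], []),
  (nat_lit 0x10101010101010100000000000000000101010101010101000000000000000000000000000000000000000000000000, nat_lit 0, [[nat_lit 1784, nat_lit 1763]], [], []),
  (nat_lit 0x1010000000000000100000000000101000001010000010001000000010000000000010001000000010000010000000100010000000000, nat_lit 99, [[nat_lit 4184, nat_lit 4285, nat_lit 4395, nat_lit 4440, nat_lit 4849, nat_lit 4853, nat_lit 5114, nat_lit 5754, nat_lit 12304, nat_lit 12405, nat_lit 12515, nat_lit 12560, nat_lit 12969, nat_lit 12973, nat_lit 13234, nat_lit 13874]], [nat_lit 40, nat_lit 18, nat_lit 30, nat_lit 7], [nat_lit 8, nat_lit 31, nat_lit 46, nat_lit 20, nat_lit 5, nat_lit 10, nat_lit 2, nat_lit 4, nat_lit 3, nat_lit 7, nat_lit 6, nat_lit 9]),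
  (nat_lit 0x1000000000100000000010000000100000000010000010000000000010001000100000000000101000001000101000100000001000000, nat_lit 99, [[nat_lit 4104, nat_lit 4231, nat_lit 4510, nat_lit 4638, nat_lit 4645, nat_lit 5605, nat_lit 5658, nat_lit 5728, nat_lit 12224, nat_lit 12351, nat_lit 12630, nat_lit 12758, nat_lit 12765, nat_lit 13725, nat_lit 13778, nat_lit 13848]], [nat_lit 44, nat_lit 24, nat_lit 7, nat_lit 10], [nat_lit 52, nat_lit 2, nat_lit 19, nat_lit 15, nat_lit 6, nat_lit 1, nat_lit 11, nat_lit 3, nat_lit 5, nat_lit 4, nat_lit 8, nat_lit 1896]),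
  (nat_lit 0x1000001000101000000000001000000000001000001000101000100010000000100000000000100010000000000000100000001, nat_lit 99, [[nat_lit 2055, nat_lit 2056, nat_lit 2062, nat_lit 2063, nat_lit 3175, nat_lit 3176, nat_lit 3184, nat_lit 3185, nat_lit 10175, nat_lit 10176, nat_lit 10182, nat_lit 10183, nat_lit 11295, nat_lit 11296, nat_lit 11304, nat_lit 11305]], [nat_lit 19, nat_lit 33, nat_lit 48, nat_lit 30], [nat_lit 89, nat_lit 33, nat_lit 6, nat_lit 5, nat_lit 12, nat_lit 14, nat_lit 17, nat_lit 1, nat_lit 3, nat_lit 2, nat_lit 10, nat_lit 1756]),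
  (nat_lit 0x10100000101000000000000000000010100010001000000000000000000000000000000000000010100000100010101000000000101, nat_lit 0, [[nat_lit 30, nat_lit 11]], [], []),
  (nat_lit 0x10100000101000000000000000000010100010001000000000000000000000000000000000001000001010001000101000000000101, nat_lit 0, [[nat_lit 23, nat_lit 19]], [], []),
  (nat_lit 0x10100000101000000000000000000000000000000000100010000010100000000000101010100010100000100010000000000000000, nat_lit 0, [[nat_lit 43, nat_lit 28]], [], []),
  (nat_lit 0x10100000101000000000000000000000000000000000100010000010100000000000101010101000001010001000000000000000000, nat_lit 0, [[nat_lit 79, nat_lit 66]], [], []),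
  (nat_lit 0x1000001010000010000000000000100000100000001000100010001000001000000000101000000000000010001000001000000, nat_lit 99, [[nat_lit 4696, nat_lit 4716, nat_lit 4768, nat_lit 4902, nat_lit 4999, nat_lit 5364, nat_lit 5667, nat_lit 5681, nat_lit 12816, nat_lit 12836, nat_lit 12888, nat_lit 13022, nat_lit 13119, nat_lit 13484, nat_lit 13787, nat_lit 13801]], [nat_lit 30, nat_lit 48, nat_lit 47, nat_lit 8], [nat_lit 17, nat_lit 34, nat_lit 15, nat_lit 24, nat_lit 2, nat_lit 1, nat_lit 20, nat_lit 4, nat_lit 6, nat_lit 3, nat_lit 8, nat_lit 1896]),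
  (nat_lit 0x1000101000001000000000101010100000000000000000101000000000101000000000000000000000000000000000001010001000100, nat_lit 0, [[nat_lit 29, nat_lit 14]], [], [])]

def BK33 : List Ent := [(nat_lit 0x1010101000000000100000101000100010100000000010100000000000000000001000100010100, nat_lit 0, [[nat_lit 7, nat_lit 5]], [], []),
  (nat_lit 0x1010101000000000000000000000000000000000000010000010001000101000100000101000000000001010101, nat_lit 0, [[nat_lit 45, nat_lit 20]], [], []),
  (nat_lit 0x10101010101010100000000000000000000000000000000, nat_lit 2, [[nat_lit 2928], [nat_lit 7943], [nat_lit 5981], [nat_lit 7170], [nat_lit 3105], [nat_lit 5302], [nat_lit 6990], [nat_lit 6705], [nat_lit 5161, nat_lit 5148], [nat_lit 5425, nat_lit 5250], [nat_lit 4976, nat_lit 4961], [nat_lit 6153, nat_lit 5810]], [], []),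
  (nat_lit 0x1010101000000000001010000010001010100000000010100000000000000000001000100010100, nat_lit 0, [[nat_lit 40, nat_lit 17]], [], []),
  (nat_lit 0x100000100000000000000010100000001000100010001000000010000000001000000010001000000000001000000010000000000010100, nat_lit 99, [[nat_lit 6009, nat_lit 6048, nat_lit 7081, nat_lit 7082, nat_lit 7083, nat_lit 7130, nat_lit 7131, nat_lit 7132, nat_lit 14129, nat_lit 14168, nat_lit 15201, nat_lit 15202, nat_lit 15203, nat_lit 15250, nat_lit 15251, nat_lit 15252]], [nat_lit 12, nat_lit 52, nat_lit 35, nat_lit 18], [nat_lit 65, nat_lit 31, nat_lit 18, nat_lit 10, nat_lit 1, nat_lit 9, nat_lit 7, nat_lit 2, nat_lit 3, nat_lit 5, nat_lit 6, nat_lit 5816]),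
  (nat_lit 0x100000101000100000000000000000000000000000000000100010001000001010000010001000100010001010000010000000000000000, nat_lit 99, [[nat_lit 24, nat_lit 133, nat_lit 168, nat_lit 399, nat_lit 561, nat_lit 816, nat_lit 1064, nat_lit 1066, nat_lit 1162, nat_lit 1176, nat_lit 1271, nat_lit 1352, nat_lit 1372, nat_lit 1531, nat_lit 1660, nat_lit 1721, nat_lit 8144, nat_lit 8253, nat_lit 8288, nat_lit 8519, nat_lit 8681, nat_lit 8936, nat_lit 9184, nat_lit 9186, nat_lit 9282, nat_lit 9296, nat_lit 9391, nat_lit 9472, nat_lit 9492, nat_lit 9651, nat_lit 9780, nat_lit 9841]], [nat_lit 12, nat_lit 23, nat_lit 51, nat_lit 52, nat_lit 49], [nat_lit 1, nat_lit 26, nat_lit 10, nat_lit 13, nat_lit 20, nat_lit 3, nat_lit 8, nat_lit 1756, nat_lit 4, nat_lit 2, nat_lit 5]),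
  (nat_lit 0x100000000010000010001000000000000000000000100010000010000010000010001000001000100000100000000010100000000000001, nat_lit 99, [[nat_lit 2320, nat_lit 2321, nat_lit 2322, nat_lit 2323, nat_lit 3420, nat_lit 3421, nat_lit 3426, nat_lit 3427, nat_lit 10440, nat_lit 10441, nat_lit 10442, nat_lit 10443, nat_lit 11540, nat_lit 11541, nat_lit 11546, nat_lit 11547]], [nat_lit 55, nat_lit 34, nat_lit 13, nat_lit 16], [nat_lit 42, nat_lit 59, nat_lit 4, nat_lit 44, nat_lit 14, nat_lit 12, nat_lit 9, nat_lit 6, nat_lit 5, nat_lit 1, nat_lit 2, nat_lit 1756]),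
  (nat_lit 0x1000101000100010000000100000001000000000000010100000000010000000100010000000000010100000000000000000101000000, nat_lit 99, [[nat_lit 4432, nat_lit 4487, nat_lit 4783, nat_lit 5003, nat_lit 5346, nat_lit 5370, nat_lit 5378, nat_lit 5662, nat_lit 12552, nat_lit 12607, nat_lit 12903, nat_lit 13123, nat_lit 13466, nat_lit 13490, nat_lit 13498, nat_lit 13782]], [nat_lit 51, nat_lit 13, nat_lit 26, nat_lit 47], [nat_lit 14, nat_lit 44, nat_lit 17, nat_lit 12, nat_lit 15, nat_lit 1, nat_lit 3, nat_lit 5, nat_lit 4, nat_lit 2, nat_lit 10, nat_lit 1896]),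
  (nat_lit 0x1000100010000000000010001000001010000010000010000000001000100000000010000000100000001000001000100000000, nat_lit 99, [[nat_lit 29, nat_lit 553, nat_lit 740, nat_lit 780, nat_lit 984, nat_lit 1145, nat_lit 1633, nat_lit 1743, nat_lit 8149, nat_lit 8673, nat_lit 8860, nat_lit 8900, nat_lit 9104, nat_lit 9265, nat_lit 9753, nat_lit 9863]], [nat_lit 51, nat_lit 24, nat_lit 35, nat_lit 22], [nat_lit 22, nat_lit 56, nat_lit 25, nat_lit 14, nat_lit 2, nat_lit 12, nat_lit 4, nat_lit 6, nat_lit 5, nat_lit 3, nat_lit 1, nat_lit 10]),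
  (nat_lit 0x101000001010100010001000001010000010001000100000000000000000101010100000000, nat_lit 0, [[nat_lit 31, nat_lit 18]], [], []),
  (nat_lit 0x10001000100000100010100010001000100010000010100000000000000000000010100000100010000000000000000, nat_lit 0, [[nat_lit 35, nat_lit 13]], [], []),
  (nat_lit 0x10001000100000100010100010001000100010000010100000000000000000001000001010001000000000000000000, nat_lit 99, [[nat_lit 4119, nat_lit 4225, nat_lit 4409, nat_lit 4437, nat_lit 4439, nat_lit 4650, nat_lit 4758, nat_lit 4772, nat_lit 4881, nat_lit 4978, nat_lit 5058, nat_lit 5143, nat_lit 5194, nat_lit 5206, nat_lit 5540, nat_lit 5782, nat_lit 12239, nat_lit 12345, nat_lit 12529, nat_lit 12557, nat_lit 12559, nat_lit 12770, nat_lit 12878, nat_lit 12892, nat_lit 13001, nat_lit 13098, nat_lit 13178, nat_lit 13263, nat_lit 13314, nat_lit 13326, nat_lit 13660, nat_lit 13902]], [nat_lit 9, nat_lit 33, nat_lit 37, nat_lit 47, nat_lit 35], [nat_lit 3, nat_lit 7, nat_lit 9, nat_lit 13, nat_lit 28, nat_lit 8, nat_lit 10, nat_lit 20, nat_lit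 1, nat_lit 2, nat_lit 5]),
  (nat_lit 0x10001000000000000010000000101000100000000000000000001000100000001000001000001000100000100010000000100000100, nat_lit 99, [[nat_lit 6177, nat_lit 6188, nat_lit 6189, nat_lit 6190, nat_lit 7291, nat_lit 7292, nat_lit 7293, nat_lit 7316, nat_lit 14297, nat_lit 14308, nat_lit 14309, nat_lit 14310, nat_lit 15411, nat_lit 15412, nat_lit 15413, nat_lit 15436]], [nat_lit 27, nat_lit 13, nat_lit 37, nat_lit 18], [nat_lit 15, nat_lit 17, nat_lit 22, nat_lit 2, nat_lit 1, nat_lit 4, nat_lit 5, nat_lit 3, nat_lit 7, nat_lit 8, nat_lit 10, nat_lit 5816]),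
  (nat_lit 0x101010101000001010001000101000000000101000000000000000000010001000101000000000000000000, nat_lit 0, [[nat_lit 13, nat_lit 1]], [], []),
  (nat_lit 0x10001000000000000010000000100000000000101000000000000010001000100000000000100010001010001000000010000000001, nat_lit 99, [[nat_lit 2409, nat_lit 2416, nat_lit 2417, nat_lit 2418, nat_lit 3587, nat_lit 3588, nat_lit 3589, nat_lit 3600, nat_lit 10529, nat_lit 10536, nat_lit 10537, nat_lit 10538, nat_lit 11707, nat_lit 11708, nat_lit 11709, nat_lit 11720]], [nat_lit 22, nat_lit 0, nat_lit 24, nat_lit 51], [nat_lit 15, nat_lit 19, nat_lit 2, nat_lit 23, nat_lit 11, nat_lit 1, nat_lit 7, nat_lit 1756, nat_lit 3, nat_lit 5, nat_lit 4, nat_lit 9]),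
  (nat_lit 0x10100000000000001000100000001010000000001000100010001000100000001000000000100010000000000010000000100, nat_lit 99, [[nat_lit 6520, nat_lit 6521, nat_lit 6539, nat_lit 6540, nat_lit 6541, nat_lit 6542, nat_lit 7710, nat_lit 7711, nat_lit 14640, nat_lit 14641, nat_lit 14659, nat_lit 14660, nat_lit 14661, nat_lit 14662, nat_lit 15830, nat_lit 15831]], [nat_lit 35, nat_lit 49, nat_lit 1, nat_lit 18], [nat_lit 11, nat_lit 121, nat_lit 26, nat_lit 20, nat_lit 27, nat_lit 5816, nat_lit 9, nat_lit 3, nat_lit 4, nat_lit 7, nat_lit 2, nat_lit 5]),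
  (nat_lit 0x1010001000100000100010100000100000000010101010000000000000000010100000000010100000000000000000000000000000000, nat_lit 0, [[nat_lit 55, nat_lit 15]], [], []),
  (nat_lit 0x101010100010100000100010101000000000101000000000000000000010001000101000000000000000000, nat_lit 0, [[nat_lit 32, nat_lit 2]], [], []),
  (nat_lit 0x1000001010000010000000000000100000100000100010001000100000001000000000101000000000000010001000001000000, nat_lit 99, [[nat_lit 4090, nat_lit 4470, nat_lit 4500, nat_lit 4651, nat_lit 4878, nat_lit 4885, nat_lit 5519, nat_lit 5672, nat_lit 12210, nat_lit 12590, nat_lit 12620, nat_lit 12771, nat_lit 12998, nat_lit 13005, nat_lit 13639, nat_lit 13792]], [nat_lit 8, nat_lit 34, nat_lit 48, nat_lit 16], [nat_lit 22, nat_lit 33, nat_lit 4, nat_lit 14, nat_lit 12, nat_lit 3, nat_lit 6, nat_lit 5, nat_lit 11, nat_lit 2, nat_lit 1, nat_lit 1896]),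
  (nat_lit 0x1000001000101000000000000000001010000000001010000010100000100000001000000000100010000000100000000010000, nat_lit 99, [[nat_lit 55, nat_lit 385, nat_lit 697, nat_lit 739, nat_lit 754, nat_lit 899, nat_lit 1203, nat_lit 1502, nat_lit 8175, nat_lit 8505, nat_lit 8817, nat_lit 8859, nat_lit 8874, nat_lit 9019, nat_lit 9323, nat_lit 9622]], [nat_lit 13, nat_lit 35, nat_lit 26, nat_lit 7], [nat_lit 18, nat_lit 144, nat_lit 3, nat_lit 7, nat_lit 2, nat_lit 19, nat_lit 14, nat_lit 20, nat_lit 4, nat_lit 1, nat_lit 6, nat_lit 5]),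
  (nat_lit 0x1010001000001010000000100000000000100010000000001000001000000000000000001010000000000000100010100000000000100, nat_lit 99, [[nat_lit 6401, nat_lit 6434, nat_lit 6435, nat_lit 6439, nat_lit 7562, nat_lit 7563, nat_lit 7565, nat_lit 7599, nat_lit 14521, nat_lit 14554, nat_lit 14555, nat_lit 14559, nat_lit 15682, nat_lit 15683, nat_lit 15685, nat_lit 15719]], [nat_lit 53, nat_lit 27, nat_lit 7, nat_lit 35], [nat_lit 2, nat_lit 4, nat_lit 11, nat_lit 6, nat_lit 13, nat_lit 17, nat_lit 20, nat_lit 1, nat_lit 3, nat_lit 5, nat_lit 7, nat_lit 5816]),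
  (nat_lit 0x10000000001000001000100000000000100000001000001000100000000010000010000000000010000000000010100010001000100, nat_lit 99, [[nat_lit 6813, nat_lit 6824, nat_lit 6825, nat_lit 6826, nat_lit 8103, nat_lit 8104, nat_lit 8105, nat_lit 8112, nat_lit 14933, nat_lit 14944, nat_lit 14945, nat_lit 14946, nat_lit 16223, nat_lit 16224, nat_lit 16225, nat_lit 16232]], [nat_lit 48, nat_lit 1, nat_lit 37, nat_lit 45], [nat_lit 1, nat_lit 13, nat_lit 26, nat_lit 6, nat_lit 10, nat_lit 5844, nat_lit 1898, nat_lit 2, nat_lit 4, nat_lit 5, nat_lit 7, nat_lit 9]),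
  (nat_lit 0x1010000010001000000000000000000000000000000000100010001000001010000010001000100010001010000010000000000000000, nat_lit 0, [[nat_lit 43, nat_lit 28]], [], []),
  (nat_lit 0x101000000000101010100000101000001000100010000010000000000000000000100010100000100000000000000000000000000000000, nat_lit 0, [[nat_lit 25, nat_lit 12]], [], []),
  (nat_lit 0x100000101000001010000000100000001000000000000010000000100000001000000000100000101000001000000000000000101000000, nat_lit 99, [[nat_lit 4100, nat_lit 4169, nat_lit 4172, nat_lit 4911, nat_lit 4951, nat_lit 5087, nat_lit 5303, nat_lit 5535, nat_lit 12220, nat_lit 12289, nat_lit 12292, nat_lit 13031, nat_lit 13071, nat_lit 13207, nat_lit 13423, nat_lit 13655]], [nat_lit 43, nat_lit 48, nat_lit 12, nat_lit 19], [nat_lit 27, nat_lit 6, nat_lit 30, nat_lit 15, nat_lit 14, nat_lit 21, nat_lit 1, nat_lit 3, nat_lit 7, nat_lit 2, nat_lit 10, nat_lit 1896]),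
  (nat_lit 0x10001000100000000000101000001010000010000000100000100010000000000000100000001000000010100010000000000, nat_lit 99, [[nat_lit 4869, nat_lit 4871, nat_lit 4989, nat_lit 5064, nat_lit 5102, nat_lit 5121, nat_lit 5232, nat_lit 5547, nat_lit 12989, nat_lit 12991, nat_lit 13109, nat_lit 13184, nat_lit 13222, nat_lit 13241, nat_lit 13352, nat_lit 13667]], [nat_lit 25, nat_lit 39, nat_lit 48, nat_lit 8], [nat_lit 34, nat_lit 42, nat_lit 17, nat_lit 22, nat_lit 38, nat_lit 6, nat_lit 15, nat_lit 3, nat_lit 1, nat_lit 7, nat_lit 2, nat_lit 4])]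

def BK34 : List Ent := [(nat_lit 0x1010001000100000000000000000001010101000000000000000000000000000000000000000001010000010100000001000100010100, nat_lit 0, [[nat_lit 19, nat_lit 1]], [], []),
  (nat_lit 0x100010000000100000100000001000100000000000001010000000000000100000000000101000001010000010001000000010000, nat_lit 99, [[nat_lit 85, nat_lit 366, nat_lit 882, nat_lit 894, nat_lit 1057, nat_lit 1181, nat_lit 1465, nat_lit 1570, nat_lit 8205, nat_lit 8486, nat_lit 9002, nat_lit 9014, nat_lit 9177, nat_lit 9301, nat_lit 9585, nat_lit 9690]], [nat_lit 50, nat_lit 11, nat_lit 43, nat_lit 29], [nat_lit 6, nat_lit 49, nat_lit 18, nat_lit 16, nat_lit 39, nat_lit 2, nat_lit 4, nat_lit 5, nat_lit 7, nat_lit 9, nat_lit 1, nat_lit 8]),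
  (nat_lit 0x101000000010001000100010000010000000100000000010001000000000001000000010000000000000101000000000000010001, nat_lit 99, [[nat_lit 2684, nat_lit 2685, nat_lit 2721, nat_lit 2722, nat_lit 2723, nat_lit 2724, nat_lit 3950, nat_lit 3951, nat_lit 10804, nat_lit 10805, nat_lit 10841, nat_lit 10842, nat_lit 10843, nat_lit 10844, nat_lit 12070, nat_lit 12071]], [nat_lit 45, nat_lit 17, nat_lit 9, nat_lit 51], [nat_lit 30, nat_lit 13, nat_lit 4, nat_lit 12, nat_lit 14, nat_lit 9, nat_lit 3, nat_lit 1, nat_lit 5, nat_lit 6, nat_lit 2, nat_lit 1756]),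
  (nat_lit 0x10000000100000000000001010000010100000000000000010000010000010000010100000100010000000100000001000000000100, nat_lit 99, [[nat_lit 6354, nat_lit 6355, nat_lit 6356, nat_lit 6357, nat_lit 7512, nat_lit 7513, nat_lit 7518, nat_lit 7519, nat_lit 14474, nat_lit 14475, nat_lit 14476, nat_lit 14477, nat_lit 15632, nat_lit 15633, nat_lit 15638, nat_lit 15639]], [nat_lit 10, nat_lit 42, nat_lit 6, nat_lit 37], [nat_lit 26, nat_lit 58, nat_lit 7, nat_lit 16, nat_lit 5, nat_lit 3, nat_lit 9, nat_lit 8, nat_lit 2, nat_lit 1, nat_lit 6, nat_lit 5816]),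
  (nat_lit 0x10100010000010000000000000100000100000100000101000001010000000100000000000001000100000001000001000000, nat_lit 99, [[nat_lit 4115, nat_lit 4445, nat_lit 4757, nat_lit 4799, nat_lit 4814, nat_lit 4959, nat_lit 5263, nat_lit 5562, nat_lit 12235, nat_lit 12565, nat_lit 12877, nat_lit 12919, nat_lit 12934, nat_lit 13079, nat_lit 13383, nat_lit 13682]], [nat_lit 44, nat_lit 12, nat_lit 37, nat_lit 19], [nat_lit 21, nat_lit 28, nat_lit 1, nat_lit 13, nat_lit 16, nat_lit 23, nat_lit 14, nat_lit 4, nat_lit 2, nat_lit 3, nat_lit 6, nat_lit 1896]),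
  (nat_lit 0x10001000000000100000100000000000000000101000000000000010001010000000000010000010100010000010100000001000000, nat_lit 99, [[nat_lit 4582, nat_lit 4803, nat_lit 4918, nat_lit 5130, nat_lit 5175, nat_lit 5265, nat_lit 5543, nat_lit 5631, nat_lit 12702, nat_lit 12923, nat_lit 13038, nat_lit 13250, nat_lit 13295, nat_lit 13385, nat_lit 13663, nat_lit 13751]], [nat_lit 26, nat_lit 7, nat_lit 8, nat_lit 23], [nat_lit 1, nat_lit 3, nat_lit 9, nat_lit 8, nat_lit 10, nat_lit 19, nat_lit 5, nat_lit 6, nat_lit 2, nat_lit 4, nat_lit 13, nat_lit 1896]),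
  (nat_lit 0x1000000010000000100000000010001000000000100000000000001000001000000000001000100000100000100000001000100010001, nat_lit 99, [[nat_lit 2754, nat_lit 2761, nat_lit 2762, nat_lit 2763, nat_lit 4046, nat_lit 4047, nat_lit 4048, nat_lit 4051, nat_lit 10874, nat_lit 10881, nat_lit 10882, nat_lit 10883, nat_lit 12166, nat_lit 12167, nat_lit 12168, nat_lit 12171]], [nat_lit 54, nat_lit 16, nat_lit 39, nat_lit 4], [nat_lit 1, nat_lit 48, nat_lit 58, nat_lit 4, nat_lit 8, nat_lit 10, nat_lit 16, nat_lit 17, nat_lit 3, nat_lit 2, nat_lit 6, nat_lit 1756]),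
  (nat_lit 0x100010000000000010000010000000000010000000000010001010000010100010000000100000000010000000001000000010000000100, nat_lit 99, [[nat_lit 6100, nat_lit 6101, nat_lit 6148, nat_lit 6149, nat_lit 7200, nat_lit 7205, nat_lit 7266, nat_lit 7267, nat_lit 14220, nat_lit 14221, nat_lit 14268, nat_lit 14269, nat_lit 15320, nat_lit 15325, nat_lit 15386, nat_lit 15387]], [nat_lit 47, nat_lit 9, nat_lit 25, nat_lit 53], [nat_lit 25, nat_lit 42, nat_lit 14, nat_lit 7, nat_lit 16, nat_lit 5, nat_lit 8, nat_lit 2, nat_lit 1, nat_lit 3, nat_lit 9, nat_lit 5816]),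
  (nat_lit 0x1010001000100000000000000000000000000010101010000000000000000000000000000000000000101000001010001000100010100, nat_lit 0, [[nat_lit 35, nat_lit 1]], [], []),
  (nat_lit 0x10101010000010100000101000001000100010000010000000000000000010001000001010000000000000000000000000000000000, nat_lit 0, [[nat_lit 54, nat_lit 14]], [], []),
  (nat_lit 0x1010000000001010101000001010000000100010001010000000000000000000100010000010100, nat_lit 0, [[nat_lit 40, nat_lit 17]], [], []),
  (nat_lit 0x100000001000000000000010001000000000001000000010000000001000001000000000100010000000100000100000001000100010001, nat_lit 99, [[nat_lit 2648, nat_lit 2653, nat_lit 3896, nat_lit 3897, nat_lit 3898, nat_lit 3903, nat_lit 3904, nat_lit 3905, nat_lit 10768, nat_lit 10773, nat_lit 12016, nat_lit 12017, nat_lit 12018, nat_lit 12023, nat_lit 12024, nat_lit 12025]], [nat_lit 2, nat_lit 51, nat_lit 36, nat_lit 42], [nat_lit 22, nat_lit 25, nat_lit 30, nat_lit 32, nat_lit 4, nat_lit 1, nat_lit 7, nat_lit 5, nat_lit 6, nat_lit 3, nat_lit 2, nat_lit 1756]),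
  (nat_lit 0x1010000000000000000010100000000010100010000010000010000000001000000010001000001000000000100000100010000000000, nat_lit 99, [[nat_lit 4264, nat_lit 4567, nat_lit 4781, nat_lit 5057, nat_lit 5355, nat_lit 5377, nat_lit 5784, nat_lit 5801, nat_lit 12384, nat_lit 12687, nat_lit 12901, nat_lit 13177, nat_lit 13475, nat_lit 13497, nat_lit 13904, nat_lit 13921]], [nat_lit 53, nat_lit 43, nat_lit 5, nat_lit 10], [nat_lit 38, nat_lit 34, nat_lit 14, nat_lit 35, nat_lit 24, nat_lit 5, nat_lit 16, nat_lit 4, nat_lit 1, nat_lit 2, nat_lit 3, nat_lit 6]),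
  (nat_lit 0x10100000000000001000100000001010000000100010001000100000100000001000000000100010000000000010000000100, nat_lit 99, [[nat_lit 6109, nat_lit 6110, nat_lit 6130, nat_lit 6131, nat_lit 7225, nat_lit 7226, nat_lit 7252, nat_lit 7253, nat_lit 14229, nat_lit 14230, nat_lit 14250, nat_lit 14251, nat_lit 15345, nat_lit 15346, nat_lit 15372, nat_lit 15373]], [nat_lit 22, nat_lit 36, nat_lit 50, nat_lit 31], [nat_lit 1, nat_lit 10, nat_lit 19, nat_lit 2, nat_lit 4, nat_lit 8, nat_lit 16, nat_lit 18, nat_lit 6, nat_lit 3, nat_lit 9, nat_lit 5816]),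
  (nat_lit 0x101000001010000010001000100000100010100010001000000000000000000000000000101010100000000000000000000000000000000, nat_lit 0, [[nat_lit 55, nat_lit 15]], [], []),
  (nat_lit 0x1010000010100000000000000000000000000000000000100010100000100000000010101010100000101000100, nat_lit 0, [[nat_lit 37, nat_lit 24]], [], []),
  (nat_lit 0x1010000010100000000000000000000000000000000000100010100000100000000010101010001010000010001, nat_lit 0, [[nat_lit 37, nat_lit 24]], [], []),
  (nat_lit 0x1000001000000000000000100000101000001000000000000010000010000000100010001000100000100000000010100000000000001, nat_lit 99, [[nat_lit 2268, nat_lit 2271, nat_lit 2316, nat_lit 2319, nat_lit 3428, nat_lit 3431, nat_lit 3484, nat_lit 3487, nat_lit 10388, nat_lit 10391, nat_lit 10436, nat_lit 10439, nat_lit 11548, nat_lit 11551, nat_lit 11604, nat_lit 11607]], [nat_lit 39, nat_lit 40, nat_lit 54, nat_lit 7], [nat_lit 47, nat_lit 39, nat_lit 7, nat_lit 3, nat_lit 4, nat_lit 10, nat_lit 2, nat_lit 5, nat_lit 6, nat_lit 12, nat_lit 13, nat_lit 1756]),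
  (nat_lit 0x10000000100000000000100000100010100000000000000010000010000000100010001000100000001000001000000010001000000, nat_lit 99, [[nat_lit 4131, nat_lit 4150, nat_lit 4740, nat_lit 4953, nat_lit 5363, nat_lit 5538, nat_lit 5563, nat_lit 5712, nat_lit 12251, nat_lit 12270, nat_lit 12860, nat_lit 13073, nat_lit 13483, nat_lit 13658, nat_lit 13683, nat_lit 13832]], [nat_lit 26, nat_lit 38, nat_lit 9, nat_lit 22], [nat_lit 15, nat_lit 3, nat_lit 5, nat_lit 7, nat_lit 1, nat_lit 17, nat_lit 9, nat_lit 14, nat_lit 6, nat_lit 2, nat_lit 4, nat_lit 1896]),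
  (nat_lit 0x10000010001000101000100000101000000000001010101000000000000000001010000000001010000000000000000, nat_lit 0, [[nat_lit 25, nat_lit 5]], [], []),
  (nat_lit 0x1000000000001000101000001010000010000000100000000000100010000000100000100000001000100000000000001010000000000, nat_lit 99, [[nat_lit 4403, nat_lit 4735, nat_lit 4796, nat_lit 5053, nat_lit 5162, nat_lit 5539, nat_lit 5613, nat_lit 5654, nat_lit 12523, nat_lit 12855, nat_lit 12916, nat_lit 13173, nat_lit 13282, nat_lit 13659, nat_lit 13733, nat_lit 13774]], [nat_lit 5, nat_lit 34, nat_lit 15, nat_lit 41], [nat_lit 35, nat_lit 8, nat_lit 3, nat_lit 9, nat_lit 7, nat_lit 28, nat_lit 2, nat_lit 4, nat_lit 5, nat_lit 6, nat_lit 1, nat_lit 12]),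
  (nat_lit 0x100000101000001000100000001000000000100010000000100000000010000000000000100000100010100000000000000000101000000, nat_lit 99, [[nat_lit 4394, nat_lit 4482, nat_lit 4527, nat_lit 4564, nat_lit 4813, nat_lit 4817, nat_lit 5261, nat_lit 5411, nat_lit 12514, nat_lit 12602, nat_lit 12647, nat_lit 12684, nat_lit 12933, nat_lit 12937, nat_lit 13381, nat_lit 13531]], [nat_lit 42, nat_lit 52, nat_lit 35, nat_lit 26], [nat_lit 7, nat_lit 5, nat_lit 12, nat_lit 16, nat_lit 2, nat_lit 3, nat_lit 4, nat_lit 6, nat_lit 8, nat_lit 1, nat_lit 13, nat_lit 1896]),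
  (nat_lit 0x1000000000001000100010100010000010000000100000000000100010000000001000000010000000000000101000100000100000000, nat_lit 99, [[nat_lit 149, nat_lit 243, nat_lit 313, nat_lit 631, nat_lit 881, nat_lit 1099, nat_lit 1169, nat_lit 1283, nat_lit 8269, nat_lit 8363, nat_lit 8433, nat_lit 8751, nat_lit 9001, nat_lit 9219, nat_lit 9289, nat_lit 9403]], [nat_lit 9, nat_lit 48, nat_lit 28, nat_lit 34], [nat_lit 25, nat_lit 14, nat_lit 37, nat_lit 44, nat_lit 29, nat_lit 34, nat_lit 5, nat_lit 1, nat_lit 4, nat_lit 8, nat_lit 2, nat_lit 3]),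
  (nat_lit 0x101010101010101000000000000000000000000000000000101010101010101000000000000000000000000000000000000000000000000, nat_lit 0, [[nat_lit 1804, nat_lit 140]], [], []),
  (nat_lit 0x10000000001000100000000010000000001000000010000000000010100000101000000000001000000000001000100000100010100, nat_lit 99, [[nat_lit 6662, nat_lit 6677, nat_lit 6678, nat_lit 6679, nat_lit 7898, nat_lit 7899, nat_lit 7900, nat_lit 7911, nat_lit 14782, nat_lit 14797, nat_lit 14798, nat_lit 14799, nat_lit 16018, nat_lit 16019, nat_lit 16020, nat_lit 16031]], [nat_lit 9, nat_lit 26, nat_lit 46, nat_lit 48], [nat_lit 89, nat_lit 17, nat_lit 37, nat_lit 9, nat_lit 5, nat_lit 1, nat_lit 6, nat_lit 3, nat_lit 2, nat_lit 8, nat_lit 12, nat_lit 5816]),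
  (nat_lit 0x100000000000001000000010000000100010001000000000001010000000000010000000000010001000001010000010001000000010000, nat_lit 99, [[nat_lit 296, nat_lit 311, nat_lit 614, nat_lit 620, nat_lit 652, nat_lit 1251, nat_lit 1433, nat_lit 1441, nat_lit 8416, nat_lit 8431, nat_lit 8734, nat_lit 8740, nat_lit 8772, nat_lit 9371, nat_lit 9553, nat_lit 9561]], [nat_lit 36, nat_lit 55, nat_lit 23, nat_lit 12], [nat_lit 3, nat_lit 11, nat_lit 13, nat_lit 18, nat_lit 16, nat_lit 7, nat_lit 5, nat_lit 8, nat_lit 9, nat_lit 14, nat_lit 2, nat_lit 1]),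
  (nat_lit 0x1000101000001000000000101010101000001010001000000000000000000010100000101000000000000000000000000000000000000, nat_lit 0, [[nat_lit 55, nat_lit 15]], [], []),
  (nat_lit 0x1000101000001000000000101010100010100000100010000000000000000010100000101000000000000000000000000000000000000, nat_lit 0, [[nat_lit 32, nat_lit 2]], [], [])]

def BK35 : List Ent := [(nat_lit 0x1000000010000000000010001000000010000010000000100010000000000000101000000000000010000000000010001010000010100, nat_lit 99, [[nat_lit 6683, nat_lit 6684, nat_lit 6685, nat_lit 6692, nat_lit 7913, nat_lit 7924, nat_lit 7925, nat_lit 7926, nat_lit 14803, nat_lit 14804, nat_lit 14805, nat_lit 14812, nat_lit 16033, nat_lit 16044, nat_lit 16045, nat_lit 16046]], [nat_lit 54, nat_lit 42, nat_lit 21, nat_lit 14], [nat_lit 3, nat_lit 47, nat_lit 4, nat_lit 10, nat_lit 1, nat_lit 5, nat_lit 8, nat_lit 7, nat_lit 6, nat_lit 9, nat_lit 12, nat_lit 5816]),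
  (nat_lit 0x1000100010000000000010001000100010001000100000001000000000001000100000000000100000001000100010000000000, nat_lit 99, [[nat_lit 4093, nat_lit 4153, nat_lit 4154, nat_lit 4531, nat_lit 4639, nat_lit 4883, nat_lit 4914, nat_lit 4969, nat_lit 12213, nat_lit 12273, nat_lit 12274, nat_lit 12651, nat_lit 12759, nat_lit 13003, nat_lit 13034, nat_lit 13089]], [nat_lit 33, nat_lit 41, nat_lit 27, nat_lit 21], [nat_lit 44, nat_lit 12, nat_lit 5, nat_lit 6, nat_lit 7, nat_lit 3, nat_lit 2, nat_lit 8, nat_lit 1, nat_lit 9, nat_lit 10, nat_lit 13]),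
  (nat_lit 0x1010000000000010000000000010000010001010001000100000001000000000001000100000000000001000000010000000001000001, nat_lit 99, [[nat_lit 1945, nat_lit 1996, nat_lit 1997, nat_lit 1998, nat_lit 3009, nat_lit 3010, nat_lit 3011, nat_lit 3078, nat_lit 10065, nat_lit 10116, nat_lit 10117, nat_lit 10118, nat_lit 11129, nat_lit 11130, nat_lit 11131, nat_lit 11198]], [nat_lit 31, nat_lit 41, nat_lit 33, nat_lit 53], [nat_lit 14, nat_lit 17, nat_lit 12, nat_lit 3, nat_lit 4, nat_lit 5, nat_lit 1, nat_lit 2, nat_lit 6, nat_lit 7, nat_lit 1756, nat_lit 1896]),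
  (nat_lit 0x1010001000100000000000000000001010101000000000000000000000000000000000000000000000101000001010100010001000001, nat_lit 0, [[nat_lit 30, nat_lit 3]], [], []),
  (nat_lit 0x100000000010000010001000000000001000001000000000100000000000100010001000100010000000100000000010001000000000100, nat_lit 99, [[nat_lit 6282, nat_lit 6283, nat_lit 6316, nat_lit 6317, nat_lit 7416, nat_lit 7417, nat_lit 7470, nat_lit 7471, nat_lit 14402, nat_lit 14403, nat_lit 14436, nat_lit 14437, nat_lit 15536, nat_lit 15537, nat_lit 15590, nat_lit 15591]], [nat_lit 31, nat_lit 45, nat_lit 36, nat_lit 6], [nat_lit 15, nat_lit 5, nat_lit 2, nat_lit 6, nat_lit 14, nat_lit 20, nat_lit 10, nat_lit 3, nat_lit 4, nat_lit 1, nat_lit 7, nat_lit 5816]),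
  (nat_lit 0x1010101000000000000000000000000000000000000000101000100010001000100000101000101010100000000, nat_lit 0, [[nat_lit 45, nat_lit 20]], [], []),
  (nat_lit 0x1010000010100000100000001000000010000000001000000010000000100000000000001010000010100000000000000010000010000, nat_lit 99, [[nat_lit 40, nat_lit 109, nat_lit 112, nat_lit 851, nat_lit 891, nat_lit 1027, nat_lit 1243, nat_lit 1475, nat_lit 8160, nat_lit 8229, nat_lit 8232, nat_lit 8971, nat_lit 9011, nat_lit 9147, nat_lit 9363, nat_lit 9595]], [nat_lit 53, nat_lit 17, nat_lit 46, nat_lit 5], [nat_lit 10, nat_lit 18, nat_lit 39, nat_lit 13, nat_lit 1, nat_lit 2, nat_lit 4, nat_lit 8, nat_lit 14, nat_lit 15, nat_lit 3, nat_lit 5]),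
  (nat_lit 0x100000000010000000100010000000000010100000000000000000101000000000100010100010001000000010000000100000000000001, nat_lit 99, [[nat_lit 2291, nat_lit 2292, nat_lit 2299, nat_lit 2300, nat_lit 3447, nat_lit 3448, nat_lit 3463, nat_lit 3464, nat_lit 10411, nat_lit 10412, nat_lit 10419, nat_lit 10420, nat_lit 11567, nat_lit 11568, nat_lit 11583, nat_lit 11584]], [nat_lit 15, nat_lit 0, nat_lit 28, nat_lit 50], [nat_lit 39, nat_lit 98, nat_lit 29, nat_lit 25, nat_lit 21, nat_lit 14, nat_lit 24, nat_lit 1756, nat_lit 3, nat_lit 2, nat_lit 1, nat_lit 4]),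
  (nat_lit 0x1010101000000000000000000000000000000000000010000010001000100010001010000010000000001010101, nat_lit 0, [[nat_lit 31, nat_lit 18]], [], []),
  (nat_lit 0x10000010100010000000101010100000000010100000101000000000000000001000001000100010000000000000000, nat_lit 0, [[nat_lit 40, nat_lit 17]], [], []),
  (nat_lit 0x100010000000000000101000000000000000001010000000001010001000001000001000000000100000001000100000100000000010000, nat_lit 99, [[nat_lit 120, nat_lit 314, nat_lit 850, nat_lit 872, nat_lit 884, nat_lit 1233, nat_lit 1370, nat_lit 1537, nat_lit 8240, nat_lit 8434, nat_lit 8970, nat_lit 8992, nat_lit 9004, nat_lit 9353, nat_lit 9490, nat_lit 9657]], [nat_lit 7, nat_lit 36, nat_lit 24, nat_lit 10], [nat_lit 3, nat_lit 38, nat_lit 12, nat_lit 28, nat_lit 32, nat_lit 6, nat_lit 9, nat_lit 4, nat_lit 10, nat_lit 2, nat_lit 5, nat_lit 1]),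
  (nat_lit 0x10100010001000001000101000001010101010000000000000000000000000000010101010000, nat_lit 0, [[nat_lit 43, nat_lit 28]], [], []),
  (nat_lit 0x100010000010100000000000000000000000000000000000101000000000101000001010000010101000100010000010000000000000000, nat_lit 0, [[nat_lit 11, nat_lit 3]], [], []),
  (nat_lit 0x10101010000000000000000000001000100010000010000000000000000000000000000000001010101000000000100000101000100, nat_lit 0, [[nat_lit 43, nat_lit 28]], [], []),
  (nat_lit 0x10101010000000000000000000001000100010000010000000000000000000000000000000001010101000000000001010000010001, nat_lit 0, [[nat_lit 44, nat_lit 5]], [], []),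
  (nat_lit 0x10000000100010001000000000000000000000100010000000101000000000101000100000101000000010000000100000000000001, nat_lit 99, [[nat_lit 2290, nat_lit 2293, nat_lit 2298, nat_lit 2301, nat_lit 3446, nat_lit 3449, nat_lit 3462, nat_lit 3465, nat_lit 10410, nat_lit 10413, nat_lit 10418, nat_lit 10421, nat_lit 11566, nat_lit 11569, nat_lit 11582, nat_lit 11585]], [nat_lit 22, nat_lit 28, nat_lit 15, nat_lit 47], [nat_lit 64, nat_lit 12, nat_lit 22, nat_lit 9, nat_lit 3, nat_lit 18, nat_lit 21, nat_lit 1, nat_lit 5, nat_lit 4, nat_lit 2, nat_lit 1756]),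
  (nat_lit 0x100000100000001000100000000000001000000010100010000000000000000000100010000000100000100000001000101000100, nat_lit 99, [[nat_lit 5851, nat_lit 5852, nat_lit 5853, nat_lit 5854, nat_lit 6865, nat_lit 6866, nat_lit 6867, nat_lit 6868, nat_lit 13971, nat_lit 13972, nat_lit 13973, nat_lit 13974, nat_lit 14985, nat_lit 14986, nat_lit 14987, nat_lit 14988]], [nat_lit 52, nat_lit 13, nat_lit 29, nat_lit 3], [nat_lit 17, nat_lit 40, nat_lit 24, nat_lit 9, nat_lit 41, nat_lit 1897, nat_lit 1, nat_lit 3, nat_lit 5, nat_lit 4, nat_lit 2, nat_lit 5816]),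
  (nat_lit 0x100000100000000000001000001000000010001000100010000010000000001010000000000000100010000010000000000000001000001, nat_lit 99, [[nat_lit 2558, nat_lit 2560, nat_lit 2561, nat_lit 2565, nat_lit 3794, nat_lit 3798, nat_lit 3799, nat_lit 3801, nat_lit 10678, nat_lit 10680, nat_lit 10681, nat_lit 10685, nat_lit 11914, nat_lit 11918, nat_lit 11919, nat_lit 11921]], [nat_lit 0, nat_lit 16, nat_lit 11, nat_lit 24], [nat_lit 42, nat_lit 37, nat_lit 41, nat_lit 21, nat_lit 24, nat_lit 1757, nat_lit 1, nat_lit 2, nat_lit 5, nat_lit 4, nat_lit 3, nat_lit 1896]),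
  (nat_lit 0x1010001000100000100010100000100000000000000000100000101000100000000000000000000000000000000000001000100010100, nat_lit 99, [[nat_lit 5977, nat_lit 5978, nat_lit 6071, nat_lit 6072, nat_lit 6594, nat_lit 6595, nat_lit 6652, nat_lit 6653, nat_lit 7051, nat_lit 7052, nat_lit 7169, nat_lit 7170, nat_lit 7810, nat_lit 7811, nat_lit 7896, nat_lit 7897, nat_lit 14097, nat_lit 14098, nat_lit 14191, nat_lit 14192, nat_lit 14714, nat_lit 14715, nat_lit 14772, nat_lit 14773, nat_lit 15171, nat_lit 15172, nat_lit 15289, nat_lit 15290, nat_lit 15930, nat_lit 15931, nat_lit 16016, nat_lit 16017]], [nat_lit 27, nat_lit 28, nat_lit 6, nat_lit 54, nat_lit 40], [nat_lit 47, nat_lit 19, nat_lit 5, nat_lit 3, nat_lit 6, nat_lit 11, nat_lit 18, nat_lit 2, nat_lit 1, nat_lit 13, nat_lit 5816]),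
  (nat_lit 0x100000000000100010000010100000100000001000001000000000100010000000100000100000000010001000000000000000000010001, nat_lit 99, [[nat_lit 1823, nat_lit 1824, nat_lit 1840, nat_lit 1841, nat_lit 2851, nat_lit 2852, nat_lit 2874, nat_lit 2875, nat_lit 9943, nat_lit 9944, nat_lit 9960, nat_lit 9961, nat_lit 10971, nat_lit 10972, nat_lit 10994, nat_lit 10995]], [nat_lit 55, nat_lit 36, nat_lit 19, nat_lit 28], [nat_lit 48, nat_lit 4, nat_lit 8, nat_lit 2, nat_lit 10, nat_lit 6, nat_lit 5, nat_lit 9, nat_lit 3, nat_lit 1, nat_lit 12, nat_lit 1756]),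
  (nat_lit 0x10000010000010000010100000100000001000001000000010001000000010000000001000000000000000101000000000000010001, nat_lit 99, [[nat_lit 2688, nat_lit 2689, nat_lit 2716, nat_lit 2719, nat_lit 3954, nat_lit 3955, nat_lit 3996, nat_lit 3999, nat_lit 10808, nat_lit 10809, nat_lit 10836, nat_lit 10839, nat_lit 12074, nat_lit 12075, nat_lit 12116, nat_lit 12119]], [nat_lit 9, nat_lit 53, nat_lit 43, nat_lit 23], [nat_lit 102, nat_lit 1, nat_lit 2, nat_lit 8, nat_lit 4, nat_lit 13, nat_lit 10, nat_lit 7, nat_lit 3, nat_lit 5, nat_lit 6, nat_lit 1756]),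
  (nat_lit 0x100000000010000000000000100000101000001000000000100000000000100010001000001000100010000000100000100000000000001, nat_lit 99, [[nat_lit 2286, nat_lit 2289, nat_lit 2302, nat_lit 2305, nat_lit 3442, nat_lit 3445, nat_lit 3466, nat_lit 3469, nat_lit 10406, nat_lit 10409, nat_lit 10422, nat_lit 10425, nat_lit 11562, nat_lit 11565, nat_lit 11586, nat_lit 11589]], [nat_lit 39, nat_lit 55, nat_lit 0, nat_lit 18], [nat_lit 29, nat_lit 63, nat_lit 61, nat_lit 68, nat_lit 19, nat_lit 6, nat_lit 12, nat_lit 1756, nat_lit 4, nat_lit 1, nat_lit 2, nat_lit 3]),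
  (nat_lit 0x10001000100000100000000000000000000000000000000000000000101010100010100000100010000010101010000, nat_lit 0, [[nat_lit 37, nat_lit 24]], [], []),
  (nat_lit 0x10001000100000100000000000000000000000000000000000000000101010101000001010001000000010101010000, nat_lit 0, [[nat_lit 37, nat_lit 24]], [], []),
  (nat_lit 0x1010001000100000100010100000100000000000000000001010000010001000000000000000000000000000000000001000100010100, nat_lit 0, [[nat_lit 19, nat_lit 1]], [], []),
  (nat_lit 0x101000001000100000101010100000000010100000101000000000000000001000001000100010000000000000000, nat_lit 0, [[nat_lit 41, nat_lit 24]], [], []),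
  (nat_lit 0x1000000010000010000000000000100000001000000010001000100000000000101000000000001000000000001000001010000010100, nat_lit 99, [[nat_lit 6566, nat_lit 6567, nat_lit 6568, nat_lit 6579, nat_lit 7770, nat_lit 7785, nat_lit 7786, nat_lit 7787, nat_lit 14686, nat_lit 14687, nat_lit 14688, nat_lit 14699, nat_lit 15890, nat_lit 15905, nat_lit 15906, nat_lit 15907]], [nat_lit 47, nat_lit 36, nat_lit 6, nat_lit 28], [nat_lit 3, nat_lit 6, nat_lit 35, nat_lit 1, nat_lit 2, nat_lit 7, nat_lit 4, nat_lit 5, nat_lit 8, nat_lit 9, nat_lit 12, nat_lit 5816]),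
  (nat_lit 0x1000100000100000000000101000100000100010000000100000100010000000000000101000000000100000000000000010100, nat_lit 99, [[nat_lit 6025, nat_lit 6026, nat_lit 6030, nat_lit 6031, nat_lit 7104, nat_lit 7105, nat_lit 7109, nat_lit 7110, nat_lit 14145, nat_lit 14146, nat_lit 14150, nat_lit 14151, nat_lit 15224, nat_lit 15225, nat_lit 15229, nat_lit 15230]], [nat_lit 40, nat_lit 23, nat_lit 49, nat_lit 15], [nat_lit 21, nat_lit 12, nat_lit 24, nat_lit 14, nat_lit 5, nat_lit 3, nat_lit 2, nat_lit 9, nat_lit 1, nat_lit 4, nat_lit 10, nat_lit 5816]),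
  (nat_lit 0x100010001000001000000000000000000000000000000000101010100000000000101000001000101010000000001010000000000000000, nat_lit 0, [[nat_lit 92, nat_lit 81]], [], []),
  (nat_lit 0x100010001000001000000000000000000000000000000000101010100000000010000010100010001010000000001010000000000000000, nat_lit 0, [[nat_lit 43, nat_lit 28]], [], []),
  (nat_lit 0x10000000001000100000000010000010000010000000000000001000001000000000001000101000000000001000100010000010001, nat_lit 99, [[nat_lit 2733, nat_lit 2742, nat_lit 2743, nat_lit 2744, nat_lit 4015, nat_lit 4016, nat_lit 4017, nat_lit 4026, nat_lit 10853, nat_lit 10862, nat_lit 10863, nat_lit 10864, nat_lit 12135, nat_lit 12136, nat_lit 12137, nat_lit 12146]], [nat_lit 41, nat_lit 24, nat_lit 9, nat_lit 16], [nat_lit 25, nat_lit 5, nat_lit 3, nat_lit 7, nat_lit 13, nat_lit 11, nat_lit 15, nat_lit 1, nat_lit 2, nat_lit 8, nat_lit 9, nat_lit 1756]),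
  (nat_lit 0x1000001000000000100010000010000000000010100000100010100000100000001000000000001000100000100000000010000, nat_lit 99, [[nat_lit 424, nat_lit 1118, nat_lit 1225, nat_lit 1274, nat_lit 1444, nat_lit 1489, nat_lit 1632, nat_lit 1636, nat_lit 8544, nat_lit 9238, nat_lit 9345, nat_lit 9394, nat_lit 9564, nat_lit 9609, nat_lit 9752, nat_lit 9756]], [nat_lit 7, nat_lit 22, nat_lit 43, nat_lit 38], [nat_lit 27, nat_lit 85, nat_lit 12, nat_lit 19, nat_lit 8, nat_lit 4, nat_lit 18, nat_lit 7, nat_lit 3, nat_lit 2, nat_lit 1, nat_lit 13]),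
  (nat_lit 0x100000001000000000100000100000000010001000000010000010000010001000100010001000000010000000000000100010000, nat_lit 99, [[nat_lit 21, nat_lit 151, nat_lit 659, nat_lit 907, nat_lit 952, nat_lit 1078, nat_lit 1469, nat_lit 1611, nat_lit 8141, nat_lit 8271, nat_lit 8779, nat_lit 9027, nat_lit 9072, nat_lit 9198, nat_lit 9589, nat_lit 9731]], [nat_lit 15, nat_lit 35, nat_lit 26, nat_lit 2], [nat_lit 7, nat_lit 8, nat_lit 9, nat_lit 23, nat_lit 19, nat_lit 13, nat_lit 3, nat_lit 4, nat_lit 2, nat_lit 5, nat_lit 6, nat_lit 1]),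
  (nat_lit 0x101000000000101000001010000010101000100010000010000000000000000000100010100000100000000000000000000000000000000, nat_lit 0, [[nat_lit 55, nat_lit 15]], [], [])]

def BK36 : List Ent := [(nat_lit 0x100000101000100000001010101000000000000000000000001000100010100000000000000000000000000000000000000000001010101, nat_lit 0, [[nat_lit 10, nat_lit 6]], [], []),
  (nat_lit 0x101000001010000000100010001010000000000000000000100010000010100000000000000000000000000000000000101000000000101, nat_lit 0, [[nat_lit 39, nat_lit 38]], [], []),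
  (nat_lit 0x1000000010000000100000000010000000100000001000000000000010100000101000000000000000100000100000001010000010100, nat_lit 99, [[nat_lit 5959, nat_lit 5960, nat_lit 5961, nat_lit 5962, nat_lit 7029, nat_lit 7030, nat_lit 7031, nat_lit 7032, nat_lit 14079, nat_lit 14080, nat_lit 14081, nat_lit 14082, nat_lit 15149, nat_lit 15150, nat_lit 15151, nat_lit 15152]], [nat_lit 37, nat_lit 41, nat_lit 6, nat_lit 13], [nat_lit 11, nat_lit 29, nat_lit 15, nat_lit 2, nat_lit 1, nat_lit 4, nat_lit 10, nat_lit 5, nat_lit 3, nat_lit 6, nat_lit 9, nat_lit 5816]),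
  (nat_lit 0x101010100000101000001010000010001000100000100000000000000000001000101000001, nat_lit 0, [[nat_lit 29, nat_lit 6]], [], []),
  (nat_lit 0x1000001000000010001000000000000000000010001000000000101000000000101000100000100010000000100000000010001000000, nat_lit 99, [[nat_lit 4253, nat_lit 4369, nat_lit 4420, nat_lit 4630, nat_lit 4970, nat_lit 5035, nat_lit 5424, nat_lit 5755, nat_lit 12373, nat_lit 12489, nat_lit 12540, nat_lit 12750, nat_lit 13090, nat_lit 13155, nat_lit 13544, nat_lit 13875]], [nat_lit 47, nat_lit 19, nat_lit 54, nat_lit 14], [nat_lit 31, nat_lit 12, nat_lit 4, nat_lit 13, nat_lit 24, nat_lit 2, nat_lit 1, nat_lit 10, nat_lit 3, nat_lit 6, nat_lit 9, nat_lit 1896]),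
  (nat_lit 0x1000000000100010000000001000001000100000000000100000100000000010000000000010000010001000100010000010000000001, nat_lit 99, [[nat_lit 2108, nat_lit 2141, nat_lit 3220, nat_lit 3221, nat_lit 3222, nat_lit 3263, nat_lit 3264, nat_lit 3265, nat_lit 10228, nat_lit 10261, nat_lit 11340, nat_lit 11341, nat_lit 11342, nat_lit 11383, nat_lit 11384, nat_lit 11385]], [nat_lit 54, nat_lit 23, nat_lit 5, nat_lit 37], [nat_lit 21, nat_lit 56, nat_lit 13, nat_lit 1, nat_lit 2, nat_lit 4, nat_lit 17, nat_lit 8, nat_lit 23, nat_lit 3, nat_lit 10, nat_lit 1756]),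
  (nat_lit 0x101000000000101000001010000010000000100000000010001000000010000000001000000000000010000010001010000000000, nat_lit 99, [[nat_lit 4078, nat_lit 4377, nat_lit 4447, nat_lit 4761, nat_lit 5006, nat_lit 5134, nat_lit 5570, nat_lit 5636, nat_lit 12198, nat_lit 12497, nat_lit 12567, nat_lit 12881, nat_lit 13126, nat_lit 13254, nat_lit 13690, nat_lit 13756]], [nat_lit 5, nat_lit 8, nat_lit 41, nat_lit 29], [nat_lit 9, nat_lit 32, nat_lit 6, nat_lit 7, nat_lit 3, nat_lit 29, nat_lit 23, nat_lit 1, nat_lit 5, nat_lit 8, nat_lit 2, nat_lit 4]),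
  (nat_lit 0x1000000000100000001000000010000000000000101000001010000000000000001000001000000010100000101000001000000010000, nat_lit 99, [[nat_lit 5, nat_lit 224, nat_lit 374, nat_lit 382, nat_lit 457, nat_lit 1280, nat_lit 1356, nat_lit 1521, nat_lit 8125, nat_lit 8344, nat_lit 8494, nat_lit 8502, nat_lit 8577, nat_lit 9400, nat_lit 9476, nat_lit 9641]], [nat_lit 41, nat_lit 30, nat_lit 49, nat_lit 21], [nat_lit 99, nat_lit 136, nat_lit 45, nat_lit 11, nat_lit 27, nat_lit 21, nat_lit 1, nat_lit 2, nat_lit 3, nat_lit 6, nat_lit 7, nat_lit 4]),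
  (nat_lit 0x10000000100010001000000000000010100000000000000010000010000010001000001000101000000010000000000000100010000, nat_lit 99, [[nat_lit 362, nat_lit 452, nat_lit 1316, nat_lit 1374, nat_lit 1468, nat_lit 1579, nat_lit 1629, nat_lit 1718, nat_lit 8482, nat_lit 8572, nat_lit 9436, nat_lit 9494, nat_lit 9588, nat_lit 9699, nat_lit 9749, nat_lit 9838]], [nat_lit 23, nat_lit 29, nat_lit 2, nat_lit 49], [nat_lit 75, nat_lit 17, nat_lit 6, nat_lit 11, nat_lit 5, nat_lit 13, nat_lit 15, nat_lit 2, nat_lit 20, nat_lit 1, nat_lit 3, nat_lit 8]),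
  (nat_lit 0x100000001000000000000010001000001000000000100000001000100000000000000000001000100000100000100000100000100010100, nat_lit 99, [[nat_lit 6669, nat_lit 6670, nat_lit 6671, nat_lit 6672, nat_lit 7903, nat_lit 7904, nat_lit 7905, nat_lit 7906, nat_lit 14789, nat_lit 14790, nat_lit 14791, nat_lit 14792, nat_lit 16023, nat_lit 16024, nat_lit 16025, nat_lit 16026]], [nat_lit 30, nat_lit 39, nat_lit 1, nat_lit 10], [nat_lit 1960, nat_lit 2326, nat_lit 210, nat_lit 16, nat_lit 59, nat_lit 5820, nat_lit 18, nat_lit 1, nat_lit 4, nat_lit 2, nat_lit 3, nat_lit 13]),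
  (nat_lit 0x1000001000000010001000000000001000001000000000000010000010000000100010100010000010000000100000001000000000100, nat_lit 99, [[nat_lit 6296, nat_lit 6297, nat_lit 6298, nat_lit 6299, nat_lit 7444, nat_lit 7445, nat_lit 7446, nat_lit 7447, nat_lit 14416, nat_lit 14417, nat_lit 14418, nat_lit 14419, nat_lit 15564, nat_lit 15565, nat_lit 15566, nat_lit 15567]], [nat_lit 51, nat_lit 36, nat_lit 19, nat_lit 29], [nat_lit 31, nat_lit 15, nat_lit 19, nat_lit 1, nat_lit 17, nat_lit 11, nat_lit 20, nat_lit 4, nat_lit 5, nat_lit 3, nat_lit 6, nat_lit 5816]),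
  (nat_lit 0x101010100000000000000000000000000000000000000000101000001010000000100010001010000010100010001000000000000000000, nat_lit 0, [[nat_lit 43, nat_lit 28]], [], []),
  (nat_lit 0x1000001010001000101000000000101010100000101000000000000000000000100000100010001, nat_lit 0, [[nat_lit 13, nat_lit 1]], [], []),
  (nat_lit 0x10000000100000000000001010001000001000000000001000000000001010001000001000100010000000100000000000100010000, nat_lit 99, [[nat_lit 356, nat_lit 459, nat_lit 540, nat_lit 817, nat_lit 1256, nat_lit 1403, nat_lit 1593, nat_lit 1669, nat_lit 8476, nat_lit 8579, nat_lit 8660, nat_lit 8937, nat_lit 9376, nat_lit 9523, nat_lit 9713, nat_lit 9789]], [nat_lit 36, nat_lit 23, nat_lit 41, nat_lit 4], [nat_lit 1757, nat_lit 1, nat_lit 13, nat_lit 12, nat_lit 2, nat_lit 4, nat_lit 6, nat_lit 17, nat_lit 8, nat_lit 23, nat_lit 3, nat_lit 10]),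
  (nat_lit 0x101000001010100010001000001000101000100010000000000000000000000000001010101, nat_lit 0, [[nat_lit 43, nat_lit 3]], [], []),
  (nat_lit 0x10100000100010101000000000101010100000101000000000000000000000100000100010001, nat_lit 0, [[nat_lit 11, nat_lit 3]], [], []),
  (nat_lit 0x1000100010000010100000100010001000100010100000100000000000000000100000101000100, nat_lit 99, [[nat_lit 5860, nat_lit 5863, nat_lit 5922, nat_lit 5923, nat_lit 6807, nat_lit 6808, nat_lit 6880, nat_lit 6883, nat_lit 6966, nat_lit 6967, nat_lit 7976, nat_lit 7977, nat_lit 7978, nat_lit 7979, nat_lit 8095, nat_lit 8096, nat_lit 13980, nat_lit 13983, nat_lit 14042, nat_lit 14043, nat_lit 14927, nat_lit 14928, nat_lit 15000, nat_lit 15003, nat_lit 15086, nat_lit 15087, nat_lit 16096, nat_lit 16097, nat_lit 16098, nat_lit 16099, nat_lit 16215, nat_lit 16216]], [nat_lit 22, nat_lit 31, nat_lit 28, nat_lit 37, nat_lit 26], [nat_lit 9, nat_lit 25, nat_lit 8, nat_lit 3, nat_lit 1, nat_lit 4, nat_lit 2, nat_lit 6, nat_lit 10, nat_lit 1896, nat_lit 5816]),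
  (nat_lit 0x1000100010000010100000100010001000100010100000100000000000000000001010000010001, nat_lit 0, [[nat_lit 40, nat_lit 17]], [], []),
  (nat_lit 0x10101010101010100000000000000000000000000000000000000000000000001010101010101010000000000000000, nat_lit 0, [[nat_lit 1804, nat_lit 134]], [], []),
  (nat_lit 0x1010000010100000001000000000100000001000100000001000001000000000000000100000100000000010001000000000101000000, nat_lit 99, [[nat_lit 4182, nat_lit 4292, nat_lit 4313, nat_lit 4672, nat_lit 4886, nat_lit 5005, nat_lit 5262, nat_lit 5369, nat_lit 12302, nat_lit 12412, nat_lit 12433, nat_lit 12792, nat_lit 13006, nat_lit 13125, nat_lit 13382, nat_lit 13489]], [nat_lit 30, nat_lit 19, nat_lit 45, nat_lit 9], [nat_lit 1, nat_lit 23, nat_lit 7, nat_lit 3, nat_lit 5, nat_lit 6, nat_lit 9, nat_lit 11, nat_lit 10, nat_lit 2, nat_lit 4, nat_lit 1896]),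
  (nat_lit 0x10000010001000101000100000101000000000001010101000000000000000000000101010100000000000000000000, nat_lit 0, [[nat_lit 32, nat_lit 30]], [], []),
  (nat_lit 0x1000001000000000000000100000100010100000000000001000000000001000101000100000100000100000000010000010001000000, nat_lit 99, [[nat_lit 4095, nat_lit 4113, nat_lit 4130, nat_lit 4310, nat_lit 4382, nat_lit 4773, nat_lit 5277, nat_lit 5534, nat_lit 12215, nat_lit 12233, nat_lit 12250, nat_lit 12430, nat_lit 12502, nat_lit 12893, nat_lit 13397, nat_lit 13654]], [nat_lit 8, nat_lit 37, nat_lit 22, nat_lit 24], [nat_lit 25, nat_lit 24, nat_lit 15, nat_lit 14, nat_lit 13, nat_lit 7, nat_lit 1, nat_lit 2, nat_lit 4, nat_lit 5, nat_lit 9, nat_lit 1896]),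
  (nat_lit 0x1000000010000010000000000000101000000000100000000000001000001010000010000000001000000000001000100010000010001, nat_lit 99, [[nat_lit 1787, nat_lit 1788, nat_lit 1789, nat_lit 1796, nat_lit 2801, nat_lit 2812, nat_lit 2813, nat_lit 2814, nat_lit 9907, nat_lit 9908, nat_lit 9909, nat_lit 9916, nat_lit 10921, nat_lit 10932, nat_lit 10933, nat_lit 10934]], [nat_lit 50, nat_lit 15, nat_lit 2, nat_lit 47], [nat_lit 17, nat_lit 9, nat_lit 7, nat_lit 19, nat_lit 2, nat_lit 27, nat_lit 8, nat_lit 4, nat_lit 1, nat_lit 6, nat_lit 10, nat_lit 1756]),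
  (nat_lit 0x10101010000000001010000010101000100010000010000000000000000010001000001010000000000000000000000000000000000, nat_lit 0, [[nat_lit 55, nat_lit 15]], [], []),
  (nat_lit 0x1010000010001000001010101000000000000000000000001000100010100000000000000000000000000000000000000000001010101, nat_lit 0, [[nat_lit 25, nat_lit 19]], [], []),
  (nat_lit 0x100000000000001010000000001000000010001000000000001010000000000000000010100000000010001010001000100000001000000, nat_lit 99, [[nat_lit 4291, nat_lit 4324, nat_lit 4649, nat_lit 4822, nat_lit 4855, nat_lit 5140, nat_lit 5309, nat_lit 5627, nat_lit 12411, nat_lit 12444, nat_lit 12769, nat_lit 12942, nat_lit 12975, nat_lit 13260, nat_lit 13429, nat_lit 13747]], [nat_lit 12, nat_lit 30, nat_lit 36, nat_lit 3], [nat_lit 58, nat_lit 59, nat_lit 7, nat_lit 16, nat_lit 5, nat_lit 23, nat_lit 4, nat_lit 1897, nat_lit 2, nat_lit 15, nat_lit 1, nat_lit 6]),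
  (nat_lit 0x100000000000001000001000000010001000100000000000000000000010001000000010100000000010100010000010100000001000000, nat_lit 99, [[nat_lit 4258, nat_lit 4458, nat_lit 4605, nat_lit 4745, nat_lit 5388, nat_lit 5585, nat_lit 5764, nat_lit 5798, nat_lit 12378, nat_lit 12578, nat_lit 12725, nat_lit 12865, nat_lit 13508, nat_lit 13705, nat_lit 13884, nat_lit 13918]], [nat_lit 3, nat_lit 55, nat_lit 26, nat_lit 20], [nat_lit 13, nat_lit 38, nat_lit 33, nat_lit 21, nat_lit 4, nat_lit 7, nat_lit 6, nat_lit 1897, nat_lit 2, nat_lit 5, nat_lit 1, nat_lit 10]),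
  (nat_lit 0x1010101000000000000000000000000000000000000010100000101000100010001010000010100010001000000000000000000, nat_lit 0, [[nat_lit 43, nat_lit 28]], [], []),
  (nat_lit 0x100010001000001000000000000000000010001010000010000000000000000000000000000000001010000000001010101000001010000, nat_lit 0, [[nat_lit 41, nat_lit 37]], [], []),
  (nat_lit 0x1010101000000000000000001010000000001010000000000000000000000000000000001000001000100010100010000010100, nat_lit 0, [[nat_lit 41, nat_lit 37]], [], []),
  (nat_lit 0x100000000000001010000000001000000000000010000010100000100000000010000000000010001000100000100010001000000010000, nat_lit 99, [[nat_lit 98, nat_lit 513, nat_lit 760, nat_lit 833, nat_lit 938, nat_lit 968, nat_lit 1239, nat_lit 1454, nat_lit 8218, nat_lit 8633, nat_lit 8880, nat_lit 8953, nat_lit 9058, nat_lit 9088, nat_lit 9359, nat_lit 9574]], [nat_lit 35, nat_lit 10, nat_lit 55, nat_lit 42], [nat_lit 11, nat_lit 120, nat_lit 34, nat_lit 23, nat_lit 3, nat_lit 22, nat_lit 1, nat_lit 9, nat_lit 8, nat_lit 13, nat_lit 2, nat_lit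 4]),
  (nat_lit 0x100000001010001000000000000000000000100010001000000000001000101000001010000000001000001000100000000000001, nat_lit 99, [[nat_lit 2275, nat_lit 2276, nat_lit 2277, nat_lit 2278, nat_lit 3473, nat_lit 3474, nat_lit 3475, nat_lit 3476, nat_lit 10395, nat_lit 10396, nat_lit 10397, nat_lit 10398, nat_lit 11593, nat_lit 11594, nat_lit 11595, nat_lit 11596]], [nat_lit 48, nat_lit 45, nat_lit 24, nat_lit 12], [nat_lit 89, nat_lit 24, nat_lit 6, nat_lit 9, nat_lit 11, nat_lit 3, nat_lit 1, nat_lit 2, nat_lit 4, nat_lit 5, nat_lit 12, nat_lit 1756]),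
  (nat_lit 0x100000101000001000001000000000100010000000001000000010000000100000100010000000000000000010001000100000000000100, nat_lit 99, [[nat_lit 6386, nat_lit 6444, nat_lit 6445, nat_lit 6446, nat_lit 7552, nat_lit 7553, nat_lit 7554, nat_lit 7614, nat_lit 14506, nat_lit 14564, nat_lit 14565, nat_lit 14566, nat_lit 15672, nat_lit 15673, nat_lit 15674, nat_lit 15734]], [nat_lit 52, nat_lit 40, nat_lit 20, nat_lit 25], [nat_lit 34, nat_lit 38, nat_lit 8, nat_lit 18, nat_lit 3, nat_lit 13, nat_lit 20, nat_lit 5, nat_lit 14, nat_lit 2, nat_lit 1, nat_lit 5816]),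
  (nat_lit 0x10100000101010001000100000101000001000100010000000000000000000000000101010100000000000000000000000000000000, nat_lit 0, [[nat_lit 55, nat_lit 15]], [], [])]

def BK37 : List Ent := [(nat_lit 0x1000100000000010100000001000001000101000001000000010000000001000100000000010000010000000100010000000000, nat_lit 99, [[nat_lit 4405, nat_lit 4452, nat_lit 4508, nat_lit 4698, nat_lit 4706, nat_lit 4873, nat_lit 5358, nat_lit 5472, nat_lit 12525, nat_lit 12572, nat_lit 12628, nat_lit 12818, nat_lit 12826, nat_lit 12993, nat_lit 13478, nat_lit 13592]], [nat_lit 43, nat_lit 21, nat_lit 7, nat_lit 49], [nat_lit 1, nat_lit 2, nat_lit 32, nat_lit 7, nat_lit 11, nat_lit 18, nat_lit 9, nat_lit 10, nat_lit 4, nat_lit 3, nat_lit 5, nat_lit 13]),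
  (nat_lit 0x1000100000001000001000000010001010001000000000100000100000001000100000000000001000000010100010000000000, nat_lit 99, [[nat_lit 4120, nat_lit 4294, nat_lit 4533, nat_lit 4721, nat_lit 5043, nat_lit 5223, nat_lit 5444, nat_lit 5680, nat_lit 12240, nat_lit 12414, nat_lit 12653, nat_lit 12841, nat_lit 13163, nat_lit 13343, nat_lit 13564, nat_lit 13800]], [nat_lit 7, nat_lit 12, nat_lit 49, nat_lit 28], [nat_lit 85, nat_lit 24, nat_lit 32, nat_lit 2, nat_lit 12, nat_lit 4, nat_lit 8, nat_lit 3, nat_lit 5, nat_lit 1, nat_lit 6, nat_lit 9]),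
  (nat_lit 0x100000100000000000000010100000000010001010001000001000000010000000001000100000000000001000000010001000100000000, nat_lit 99, [[nat_lit 288, nat_lit 300, nat_lit 411, nat_lit 506, nat_lit 926, nat_lit 1445, nat_lit 1564, nat_lit 1712, nat_lit 8408, nat_lit 8420, nat_lit 8531, nat_lit 8626, nat_lit 9046, nat_lit 9565, nat_lit 9684, nat_lit 9832]], [nat_lit 44, nat_lit 8, nat_lit 30, nat_lit 21], [nat_lit 8, nat_lit 39, nat_lit 9, nat_lit 15, nat_lit 16, nat_lit 2, nat_lit 22, nat_lit 3, nat_lit 4, nat_lit 7, nat_lit 12, nat_lit 1]),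
  (nat_lit 0x1010101000000000000000000000000000000000000000101000100010000010001010000010101010100000000, nat_lit 0, [[nat_lit 29, nat_lit 26]], [], []),
  (nat_lit 0x10100000000000100010001000000000001000100000100010100000100000001000001000000000000010000010000000100, nat_lit 99, [[nat_lit 6512, nat_lit 6513, nat_lit 6547, nat_lit 6548, nat_lit 7702, nat_lit 7703, nat_lit 7747, nat_lit 7748, nat_lit 14632, nat_lit 14633, nat_lit 14667, nat_lit 14668, nat_lit 15822, nat_lit 15823, nat_lit 15867, nat_lit 15868]], [nat_lit 43, nat_lit 15, nat_lit 18, nat_lit 33], [nat_lit 6, nat_lit 21, nat_lit 12, nat_lit 14, nat_lit 5, nat_lit 3, nat_lit 2, nat_lit 1, nat_lit 7, nat_lit 9, nat_lit 10, nat_lit 5816]),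
  (nat_lit 0x1000101000100000000010000010000010000000001000001000001000000000100010000000000000000010001000000000101000000, nat_lit 99, [[nat_lit 4099, nat_lit 4404, nat_lit 4627, nat_lit 4833, nat_lit 5274, nat_lit 5454, nat_lit 5468, nat_lit 5580, nat_lit 12219, nat_lit 12524, nat_lit 12747, nat_lit 12953, nat_lit 13394, nat_lit 13574, nat_lit 13588, nat_lit 13700]], [nat_lit 33, nat_lit 44, nat_lit 22, nat_lit 4], [nat_lit 18, nat_lit 27, nat_lit 8, nat_lit 10, nat_lit 7, nat_lit 3, nat_lit 19, nat_lit 1, nat_lit 2, nat_lit 6, nat_lit 13, nat_lit 1896]),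
  (nat_lit 0x10101010000000000000000000000000000000000000000000001010000010100010001000101000100000100010001, nat_lit 0, [[nat_lit 8, nat_lit 2]], [], []),
  (nat_lit 0x10001000001010000000000000000000000000000000000000001010101000001010000010100000001000100010100, nat_lit 0, [[nat_lit 26, nat_lit 10]], [], []),
  (nat_lit 0x10001000000000100000100000000000000000101000000000000010001010000000000010001000001000101000100000001000000, nat_lit 99, [[nat_lit 4617, nat_lit 4666, nat_lit 4841, nat_lit 5158, nat_lit 5513, nat_lit 5652, nat_lit 5688, nat_lit 5767, nat_lit 12737, nat_lit 12786, nat_lit 12961, nat_lit 13278, nat_lit 13633, nat_lit 13772, nat_lit 13808, nat_lit 13887]], [nat_lit 26, nat_lit 23, nat_lit 43, nat_lit 51], [nat_lit 71, nat_lit 49, nat_lit 17, nat_lit 20, nat_lit 4, nat_lit 9, nat_lit 5, nat_lit 1, nat_lit 3, nat_lit 2, nat_lit 8, nat_lit 1896]),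
  (nat_lit 0x100000001000000000100000000010000000001000000010000000001000001000000000001000100010000000000010001010001000001, nat_lit 99, [[nat_lit 1926, nat_lit 1927, nat_lit 1928, nat_lit 1941, nat_lit 1942, nat_lit 1943, nat_lit 2994, nat_lit 3007, nat_lit 10046, nat_lit 10047, nat_lit 10048, nat_lit 10061, nat_lit 10062, nat_lit 10063, nat_lit 11114, nat_lit 11127]], [nat_lit 55, nat_lit 24, nat_lit 36, nat_lit 8], [nat_lit 38, nat_lit 39, nat_lit 16, nat_lit 30, nat_lit 22, nat_lit 13, nat_lit 4, nat_lit 6, nat_lit 3, nat_lit 2, nat_lit 1756, nat_lit 1896]),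
  (nat_lit 0x100010000000000000000000001000100000100000100000001000101000100000001000000000101000000000000010100000000010000, nat_lit 99, [[nat_lit 8, nat_lit 111, nat_lit 369, nat_lit 746, nat_lit 886, nat_lit 1028, nat_lit 1471, nat_lit 1734, nat_lit 8128, nat_lit 8231, nat_lit 8489, nat_lit 8866, nat_lit 9006, nat_lit 9148, nat_lit 9591, nat_lit 9854]], [nat_lit 7, nat_lit 8, nat_lit 21, nat_lit 37], [nat_lit 60, nat_lit 20, nat_lit 91, nat_lit 24, nat_lit 11, nat_lit 3, nat_lit 7, nat_lit 1, nat_lit 2, nat_lit 4, nat_lit 5, nat_lit 8]),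
  (nat_lit 0x100000100010000000000000101000000000100000000000000010100000000000100010000010000000000010100010000010001, nat_lit 99, [[nat_lit 2732, nat_lit 2745, nat_lit 4012, nat_lit 4013, nat_lit 4014, nat_lit 4027, nat_lit 4028, nat_lit 4029, nat_lit 10852, nat_lit 10865, nat_lit 12132, nat_lit 12133, nat_lit 12134, nat_lit 12147, nat_lit 12148, nat_lit 12149]], [nat_lit 5, nat_lit 34, nat_lit 14, nat_lit 40], [nat_lit 4, nat_lit 10, nat_lit 22, nat_lit 2, nat_lit 5, nat_lit 8, nat_lit 13, nat_lit 14, nat_lit 3, nat_lit 9, nat_lit 1, nat_lit 1756]),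
  (nat_lit 0x101000001010000010001000100000100000000000000000001000101000001000000000000000000000000000000000000010101010000, nat_lit 0, [[nat_lit 52, nat_lit 34]], [], []),
  (nat_lit 0x100010000000000010000000100000000010000010000000001000100000001000001000001000100010001000100000001000000, nat_lit 99, [[nat_lit 4598, nat_lit 4760, nat_lit 4811, nat_lit 4891, nat_lit 4924, nat_lit 4952, nat_lit 5632, nat_lit 5752, nat_lit 12718, nat_lit 12880, nat_lit 12931, nat_lit 13011, nat_lit 13044, nat_lit 13072, nat_lit 13752, nat_lit 13872]], [nat_lit 44, nat_lit 27, nat_lit 52, nat_lit 13], [nat_lit 38, nat_lit 19, nat_lit 20, nat_lit 5, nat_lit 1, nat_lit 3, nat_lit 6, nat_lit 7, nat_lit 2, nat_lit 4, nat_lit 8, nat_lit 1896]),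
  (nat_lit 0x1010101000000000000000000000101010100000000000000000000000000000000000000010100010001000100010000010100, nat_lit 0, [[nat_lit 41, nat_lit 37]], [], []),
  (nat_lit 0x100000100010001000000000000000000000000000000000100000101000100010100000000010100000101000001010000000000000000, nat_lit 0, [[nat_lit 34, nat_lit 23]], [], []),
  (nat_lit 0x100010001000001000000000000000000000000000000000101010100000000000101000001000100000101010100000000000000000000, nat_lit 0, [[nat_lit 42, nat_lit 14]], [], []),
  (nat_lit 0x100010001000001000000000000000000000000000000000101010100000000010000010100010000000101010100000000000000000000, nat_lit 0, [[nat_lit 42, nat_lit 14]], [], []),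
  (nat_lit 0x100000100010001000000000000000000000000000000000001010000010001010100000000010100000101000001010000000000000000, nat_lit 0, [[nat_lit 34, nat_lit 23]], [], []),
  (nat_lit 0x1010001000001000100000001000001000000000000010000010000000100000000000001010000000000010001000100000000000100, nat_lit 99, [[nat_lit 6214, nat_lit 6264, nat_lit 6266, nat_lit 6267, nat_lit 7346, nat_lit 7350, nat_lit 7351, nat_lit 7400, nat_lit 14334, nat_lit 14384, nat_lit 14386, nat_lit 14387, nat_lit 15466, nat_lit 15470, nat_lit 15471, nat_lit 15520]], [nat_lit 51, nat_lit 11, nat_lit 32, nat_lit 18], [nat_lit 12, nat_lit 14, nat_lit 2, nat_lit 3, nat_lit 7, nat_lit 5, nat_lit 6, nat_lit 8, nat_lit 1, nat_lit 4, nat_lit 10, nat_lit 5816]),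
  (nat_lit 0x1000000000001010000010100000100010000000100000000000100010000000100000100000001000100000000000001010000000000, nat_lit 99, [[nat_lit 4071, nat_lit 4338, nat_lit 4419, nat_lit 4438, nat_lit 4701, nat_lit 5105, nat_lit 5216, nat_lit 5722, nat_lit 12191, nat_lit 12458, nat_lit 12539, nat_lit 12558, nat_lit 12821, nat_lit 13225, nat_lit 13336, nat_lit 13842]], [nat_lit 34, nat_lit 40, nat_lit 13, nat_lit 48], [nat_lit 44, nat_lit 5, nat_lit 96, nat_lit 13, nat_lit 34, nat_lit 15, nat_lit 4, nat_lit 1, nat_lit 2, nat_lit 3, nat_lit 8, nat_lit 9]),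
  (nat_lit 0x100000000000001000000010000000100000000010000010100000100000000000000010100000001000001010000010100000001000000, nat_lit 99, [[nat_lit 4065, nat_lit 4284, nat_lit 4434, nat_lit 4442, nat_lit 4517, nat_lit 5340, nat_lit 5416, nat_lit 5581, nat_lit 12185, nat_lit 12404, nat_lit 12554, nat_lit 12562, nat_lit 12637, nat_lit 13460, nat_lit 13536, nat_lit 13701]], [nat_lit 55, nat_lit 35, nat_lit 11, nat_lit 20], [nat_lit 17, nat_lit 6, nat_lit 22, nat_lit 3, nat_lit 11, nat_lit 15, nat_lit 1, nat_lit 2, nat_lit 4, nat_lit 7, nat_lit 8, nat_lit 1896])]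

def BK38 : List Ent := [(nat_lit 0x100000000010000000000000001010001000001000000000100000000000100000101000100000100000001000001000000000100010000, nat_lit 99, [[nat_lit 470, nat_lit 581, nat_lit 611, nat_lit 649, nat_lit 930, nat_lit 1190, nat_lit 1472, nat_lit 1646, nat_lit 8590, nat_lit 8701, nat_lit 8731, nat_lit 8769, nat_lit 9050, nat_lit 9310, nat_lit 9592, nat_lit 9766]], [nat_lit 39, nat_lit 12, nat_lit 21, nat_lit 41], [nat_lit 178, nat_lit 121, nat_lit 7, nat_lit 5, nat_lit 11, nat_lit 3, nat_lit 6, nat_lit 9, nat_lit 2, nat_lit 4, nat_lit 1, nat_lit 12]),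
  (nat_lit 0x100000001000000000100000000010001000000000100000001000100000000000000000100010000010000000000010001000100010001, nat_lit 99, [[nat_lit 1886, nat_lit 1895, nat_lit 2938, nat_lit 2939, nat_lit 2940, nat_lit 2957, nat_lit 2958, nat_lit 2959, nat_lit 10006, nat_lit 10015, nat_lit 11058, nat_lit 11059, nat_lit 11060, nat_lit 11077, nat_lit 11078, nat_lit 11079]], [nat_lit 41, nat_lit 55, nat_lit 6, nat_lit 19], [nat_lit 6, nat_lit 3, nat_lit 2, nat_lit 1, nat_lit 9, nat_lit 7, nat_lit 18, nat_lit 10, nat_lit 4, nat_lit 5, nat_lit 13, nat_lit 1756]),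
  (nat_lit 0x10001000001010000000000000000000000000000000000000001010101000000000101000001010100010001000001, nat_lit 0, [[nat_lit 40, nat_lit 17]], [], []),
  (nat_lit 0x10001000000000001000000010000000000000101000000000000010001000000010100000001000100010001000001000000010000, nat_lit 99, [[nat_lit 14, nat_lit 176, nat_lit 187, nat_lit 479, nat_lit 637, nat_lit 681, nat_lit 936, nat_lit 1285, nat_lit 8134, nat_lit 8296, nat_lit 8307, nat_lit 8599, nat_lit 8757, nat_lit 8801, nat_lit 9056, nat_lit 9405]], [nat_lit 33, nat_lit 19, nat_lit 45, nat_lit 6], [nat_lit 11, nat_lit 20, nat_lit 27, nat_lit 4, nat_lit 10, nat_lit 8, nat_lit 1, nat_lit 3, nat_lit 5, nat_lit 2, nat_lit 6, nat_lit 13]),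
  (nat_lit 0x100000101000100000000000000000000000101000001010000000000000000000000000000000001000100000101000101010100000000, nat_lit 0, [[nat_lit 47, nat_lit 18]], [], []),
  (nat_lit 0x10100000101000001000100010000010100000100010001000000000000000001010101000000000000000000000000, nat_lit 0, [[nat_lit 41, nat_lit 24]], [], []),
  (nat_lit 0x100000101000100010100000000010101010000010100000000000000000000000101000100010000000000000000000000000000000000, nat_lit 0, [[nat_lit 55, nat_lit 15]], [], []),
  (nat_lit 0x100010100000100000000000000000000000000000000010100000000010100000101000001010001000100010100, nat_lit 0, [[nat_lit 14, nat_lit 5]], [], []),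
  (nat_lit 0x10000000100000000000100000100000000010001000100000000000100010001000001000100000001000001000000000100010000, nat_lit 99, [[nat_lit 586, nat_lit 1140, nat_lit 1211, nat_lit 1281, nat_lit 1322, nat_lit 1442, nat_lit 1508, nat_lit 1526, nat_lit 8706, nat_lit 9260, nat_lit 9331, nat_lit 9401, nat_lit 9442, nat_lit 9562, nat_lit 9628, nat_lit 9646]], [nat_lit 40, nat_lit 31, nat_lit 18, nat_lit 49], [nat_lit 119, nat_lit 15, nat_lit 9, nat_lit 30, nat_lit 12, nat_lit 14, nat_lit 5, nat_lit 2, nat_lit 6, nat_lit 3, nat_lit 4, nat_lit 1]),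
  (nat_lit 0x101010101010101000000000000000000000000000000000000000000000000000000000000000001010101010101010000000000000000, nat_lit 0, [[nat_lit 1926, nat_lit 1784]], [], []),
  (nat_lit 0x1000001000000000100010000000001010000000001010000010100000001000000000100000001000100000001000001000000, nat_lit 99, [[nat_lit 4179, nat_lit 4220, nat_lit 4223, nat_lit 4755, nat_lit 5307, nat_lit 5320, nat_lit 5381, nat_lit 5466, nat_lit 12299, nat_lit 12340, nat_lit 12343, nat_lit 12875, nat_lit 13427, nat_lit 13440, nat_lit 13501, nat_lit 13586]], [nat_lit 41, nat_lit 48, nat_lit 36, nat_lit 29], [nat_lit 22, nat_lit 15, nat_lit 11, nat_lit 17, nat_lit 1, nat_lit 13, nat_lit 2, nat_lit 4, nat_lit 8, nat_lit 5, nat_lit 3, nat_lit 1896]),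
  (nat_lit 0x100000001000100010000000001000001000000000000000101000000000100010100010000010000000100000000010001000000, nat_lit 99, [[nat_lit 4422, nat_lit 4512, nat_lit 5376, nat_lit 5434, nat_lit 5528, nat_lit 5639, nat_lit 5689, nat_lit 5778, nat_lit 12542, nat_lit 12632, nat_lit 13496, nat_lit 13554, nat_lit 13648, nat_lit 13759, nat_lit 13809, nat_lit 13898]], [nat_lit 44, nat_lit 20, nat_lit 28, nat_lit 39], [nat_lit 2, nat_lit 10, nat_lit 3, nat_lit 5, nat_lit 4, nat_lit 6, nat_lit 13, nat_lit 15, nat_lit 12, nat_lit 1, nat_lit 9, nat_lit 1896]),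
  (nat_lit 0x1000100010001000000010000010000000001000100000000000100000001010001000000000000010100000000000100000000000100, nat_lit 99, [[nat_lit 6403, nat_lit 6431, nat_lit 7567, nat_lit 7568, nat_lit 7569, nat_lit 7595, nat_lit 7596, nat_lit 7597, nat_lit 14523, nat_lit 14551, nat_lit 15687, nat_lit 15688, nat_lit 15689, nat_lit 15715, nat_lit 15716, nat_lit 15717]], [nat_lit 52, nat_lit 7, nat_lit 23, nat_lit 24], [nat_lit 24, nat_lit 11, nat_lit 32, nat_lit 27, nat_lit 29, nat_lit 12, nat_lit 3, nat_lit 2, nat_lit 1, nat_lit 7, nat_lit 4, nat_lit 5816]),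
  (nat_lit 0x1010000010001000000000000000000000101000001010000000000000000000000000000000001000100000101000101010100000000, nat_lit 0, [[nat_lit 43, nat_lit 28]], [], []),
  (nat_lit 0x100010001000001000000000000000000010001010000010000000000000000000000000000000000000101010100000101000001010000, nat_lit 0, [[nat_lit 41, nat_lit 37]], [], []),
  (nat_lit 0x1000101000001000000000101010100000000000000000000010101010000000000000000000000000000000000000100000100010001, nat_lit 0, [[nat_lit 35, nat_lit 34]], [], []),
  (nat_lit 0x1010000010001010100000000010101010000010100000000000000000000000101000100010000000000000000000000000000000000, nat_lit 0, [[nat_lit 76, nat_lit 27]], [], [])]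

def BK39 : List Ent := [(nat_lit 0x1010101000001010000010100000001000100010100000000000000000001000100000101000000000000000000, nat_lit 0, [[nat_lit 40, nat_lit 17]], [], []),
  (nat_lit 0x1010001000100010001000001010001010101000000000000000000000000010100000000010100000000000000000000000000000000, nat_lit 0, [[nat_lit 33, nat_lit 6]], [], []),
  (nat_lit 0x100010000000000000000000100010000000001010000000100000100010100000100000001000000000100010000000001000001000000, nat_lit 99, [[nat_lit 4269, nat_lit 4297, nat_lit 4465, nat_lit 4868, nat_lit 5333, nat_lit 5383, nat_lit 5490, nat_lit 5768, nat_lit 12389, nat_lit 12417, nat_lit 12585, nat_lit 12988, nat_lit 13453, nat_lit 13503, nat_lit 13610, nat_lit 13888]], [nat_lit 18, nat_lit 55, nat_lit 43, nat_lit 11], [nat_lit 23, nat_lit 20, nat_lit 11, nat_lit 21, nat_lit 7, nat_lit 5, nat_lit 6, nat_lit 3, nat_lit 14, nat_lit 2, nat_lit 1, nat_lit 1896]),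
  (nat_lit 0x10101010000000000000000000000000000000000000000010100000101000001000100010000010100000100010001, nat_lit 0, [[nat_lit 37, nat_lit 24]], [], []),
  (nat_lit 0x1000100010100000000000000000000000000000000000101010100000000000101000001000101010000000001010000000000000000, nat_lit 0, [[nat_lit 43, nat_lit 28]], [], []),
  (nat_lit 0x100010000000000000000000100010000000100000100000001000101000100000000010000010000000100010000000000000100000001, nat_lit 99, [[nat_lit 2053, nat_lit 2058, nat_lit 2060, nat_lit 2061, nat_lit 3173, nat_lit 3178, nat_lit 3188, nat_lit 3189, nat_lit 10173, nat_lit 10178, nat_lit 10180, nat_lit 10181, nat_lit 11293, nat_lit 11298, nat_lit 11308, nat_lit 11309]], [nat_lit 55, nat_lit 0, nat_lit 41, nat_lit 34], [nat_lit 39, nat_lit 45, nat_lit 20, nat_lit 9, nat_lit 32, nat_lit 1757, nat_lit 1, nat_lit 3, nat_lit 4, nat_lit 6, nat_lit 2, nat_lit 5]),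
  (nat_lit 0x1000100010100000000000000000000000000000000000101010100000000010000010100010001010000000001010000000000000000, nat_lit 0, [[nat_lit 92, nat_lit 81]], [], []),
  (nat_lit 0x10100000101000000000001000000000001000001010001000001000001000000000100010000000001000000000100000001, nat_lit 99, [[nat_lit 2044, nat_lit 2045, nat_lit 2074, nat_lit 2083, nat_lit 3150, nat_lit 3151, nat_lit 3198, nat_lit 3203, nat_lit 10164, nat_lit 10165, nat_lit 10194, nat_lit 10203, nat_lit 11270, nat_lit 11271, nat_lit 11318, nat_lit 11323]], [nat_lit 33, nat_lit 4, nat_lit 50, nat_lit 46], [nat_lit 9, nat_lit 3, nat_lit 13, nat_lit 4, nat_lit 12, nat_lit 6, nat_lit 7, nat_lit 1, nat_lit 2, nat_lit 5, nat_lit 10, nat_lit 1756]),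
  (nat_lit 0x10100000101000000000000000001010000000001000100010001000000010000010000010000000001000100000000010000, nat_lit 99, [[nat_lit 30, nat_lit 410, nat_lit 440, nat_lit 591, nat_lit 818, nat_lit 825, nat_lit 1459, nat_lit 1612, nat_lit 8150, nat_lit 8530, nat_lit 8560, nat_lit 8711, nat_lit 8938, nat_lit 8945, nat_lit 9579, nat_lit 9732]], [nat_lit 24, nat_lit 35, nat_lit 2, nat_lit 14], [nat_lit 144, nat_lit 66, nat_lit 41, nat_lit 17, nat_lit 4, nat_lit 2, nat_lit 8, nat_lit 15, nat_lit 1, nat_lit 5, nat_lit 3, nat_lit 6]),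
  (nat_lit 0x100000100010100000000010000010001000000000000010000010000000100000000000100000101000001000000000001000000000001, nat_lit 99, [[nat_lit 2344, nat_lit 2348, nat_lit 2349, nat_lit 2366, nat_lit 3512, nat_lit 3530, nat_lit 3532, nat_lit 3533, nat_lit 10464, nat_lit 10468, nat_lit 10469, nat_lit 10486, nat_lit 11632, nat_lit 11650, nat_lit 11652, nat_lit 11653]], [nat_lit 52, nat_lit 12, nat_lit 25, nat_lit 6], [nat_lit 1, nat_lit 42, nat_lit 55, nat_lit 16, nat_lit 4, nat_lit 7, nat_lit 5, nat_lit 2, nat_lit 3, nat_lit 6, nat_lit 8, nat_lit 1756]),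
  (nat_lit 0x10001010000010101010100000000000101000001000100000000000000000101000001010000, nat_lit 0, [[nat_lit 42, nat_lit 14]], [], []),
  (nat_lit 0x10001010000010101010100000000010000010100010000000000000000000101000001010000, nat_lit 0, [[nat_lit 40, nat_lit 17]], [], []),
  (nat_lit 0x10100000101000000000000010000000000010100010000010001010000000100000000010000000001000001000001000000, nat_lit 99, [[nat_lit 4106, nat_lit 4387, nat_lit 4560, nat_lit 4699, nat_lit 4904, nat_lit 5040, nat_lit 5136, nat_lit 5622, nat_lit 12226, nat_lit 12507, nat_lit 12680, nat_lit 12819, nat_lit 13024, nat_lit 13160, nat_lit 13256, nat_lit 13742]], [nat_lit 23, nat_lit 24, nat_lit 9, nat_lit 3], [nat_lit 61, nat_lit 3, nat_lit 62, nat_lit 18, nat_lit 9, nat_lit 21, nat_lit 24, nat_lit 1896, nat_lit 1, nat_lit 2, nat_lit 5, nat_lit 4]),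
  (nat_lit 0x10001010000010000000001010101000101000001000100000000000000000000010100000101, nat_lit 0, [[nat_lit 64, nat_lit 12]], [], []),
  (nat_lit 0x10001010000010000000001010101010000010100010000000000000000000000010100000101, nat_lit 0, [[nat_lit 40, nat_lit 17]], [], []),
  (nat_lit 0x100000000000100000100010001000101000000010000000000010001000000000001000000010001000100000000000000000001000100, nat_lit 99, [[nat_lit 5876, nat_lit 5881, nat_lit 5904, nat_lit 5905, nat_lit 6908, nat_lit 6909, nat_lit 6938, nat_lit 6939, nat_lit 13996, nat_lit 14001, nat_lit 14024, nat_lit 14025, nat_lit 15028, nat_lit 15029, nat_lit 15058, nat_lit 15059]], [nat_lit 17, nat_lit 39, nat_lit 13, nat_lit 42], [nat_lit 1, nat_lit 14, nat_lit 22, nat_lit 4, nat_lit 12, nat_lit 10, nat_lit 2, nat_lit 3, nat_lit 5, nat_lit 6, nat_lit 1896, nat_lit 5816]),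
  (nat_lit 0x101000000010000010100000100010000000100000000010001000000010000000001000000000000010000010001010000000000, nat_lit 99, [[nat_lit 4257, nat_lit 4705, nat_lit 4767, nat_lit 4777, nat_lit 5055, nat_lit 5077, nat_lit 5104, nat_lit 5128, nat_lit 12377, nat_lit 12825, nat_lit 12887, nat_lit 12897, nat_lit 13175, nat_lit 13197, nat_lit 13224, nat_lit 13248]], [nat_lit 29, nat_lit 51, nat_lit 43, nat_lit 23], [nat_lit 35, nat_lit 11, nat_lit 15, nat_lit 2, nat_lit 22, nat_lit 17, nat_lit 1, nat_lit 3, nat_lit 6, nat_lit 5, nat_lit 4, nat_lit 7]),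
  (nat_lit 0x1000000010000010000000000000100010000010000000100010000000000000000000001000101000000000001000001000100010001, nat_lit 99, [[nat_lit 1887, nat_lit 1888, nat_lit 1889, nat_lit 1894, nat_lit 2941, nat_lit 2954, nat_lit 2955, nat_lit 2956, nat_lit 10007, nat_lit 10008, nat_lit 10009, nat_lit 10014, nat_lit 11061, nat_lit 11074, nat_lit 11075, nat_lit 11076]], [nat_lit 47, nat_lit 38, nat_lit 29, nat_lit 2], [nat_lit 17, nat_lit 34, nat_lit 3, nat_lit 1, nat_lit 2, nat_lit 11, nat_lit 13, nat_lit 5, nat_lit 4, nat_lit 6, nat_lit 8, nat_lit 1756]),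
  (nat_lit 0x100000000010000000000000100000100010100000000000000000101000000000101000001010000010000000100000000010001000000, nat_lit 99, [[nat_lit 4332, nat_lit 5041, nat_lit 5075, nat_lit 5168, nat_lit 5217, nat_lit 5233, nat_lit 5427, nat_lit 5482, nat_lit 12452, nat_lit 13161, nat_lit 13195, nat_lit 13288, nat_lit 13337, nat_lit 13353, nat_lit 13547, nat_lit 13602]], [nat_lit 10, nat_lit 21, nat_lit 5, nat_lit 27], [nat_lit 73, nat_lit 78, nat_lit 22, nat_lit 15, nat_lit 3, nat_lit 2, nat_lit 5, nat_lit 4, nat_lit 6, nat_lit 8, nat_lit 1, nat_lit 1896]),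
  (nat_lit 0x101010100000000000000000000000000000000000001010000010101000100010000010100000100010001, nat_lit 0, [[nat_lit 11, nat_lit 3]], [], []),
  (nat_lit 0x100000101000100010100000000010100000000000000000100010001000001000000000000000000000000000000000000000001010101, nat_lit 0, [[nat_lit 60, nat_lit 6]], [], []),
  (nat_lit 0x100000100010000000000000100000100000001000000000001000001010000010000000000010000000000010001010001000001, nat_lit 99, [[nat_lit 2602, nat_lit 2617, nat_lit 2618, nat_lit 2619, nat_lit 3838, nat_lit 3839, nat_lit 3840, nat_lit 3851, nat_lit 10722, nat_lit 10737, nat_lit 10738, nat_lit 10739, nat_lit 11958, nat_lit 11959, nat_lit 11960, nat_lit 11971]], [nat_lit 47, nat_lit 27, nat_lit 23, nat_lit 33], [nat_lit 2, nat_lit 3, nat_lit 11, nat_lit 5, nat_lit 4, nat_lit 6, nat_lit 7, nat_lit 8, nat_lit 1, nat_lit 9, nat_lit 1756, nat_lit 1896]),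
  (nat_lit 0x100010000010001000100000001000000010000000001000001000001000000010001000000000001000001000000000000010000010000, nat_lit 99, [[nat_lit 372, nat_lit 427, nat_lit 723, nat_lit 943, nat_lit 1286, nat_lit 1310, nat_lit 1318, nat_lit 1602, nat_lit 8492, nat_lit 8547, nat_lit 8843, nat_lit 9063, nat_lit 9406, nat_lit 9430, nat_lit 9438, nat_lit 9722]], [nat_lit 2, nat_lit 12, nat_lit 30, nat_lit 38], [nat_lit 23, nat_lit 5, nat_lit 7, nat_lit 25, nat_lit 6, nat_lit 1, nat_lit 3, nat_lit 12, nat_lit 13, nat_lit 4, nat_lit 2, nat_lit 9]),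
  (nat_lit 0x1000000000001010001000100010001000000010000000001000000000100010000000001000000010001000000000000000001000100, nat_lit 99, [[nat_lit 5891, nat_lit 5892, nat_lit 6919, nat_lit 6920, nat_lit 6924, nat_lit 6925, nat_lit 6926, nat_lit 6927, nat_lit 14011, nat_lit 14012, nat_lit 15039, nat_lit 15040, nat_lit 15044, nat_lit 15045, nat_lit 15046, nat_lit 15047]], [nat_lit 3, nat_lit 14, nat_lit 41, nat_lit 25], [nat_lit 2, nat_lit 8, nat_lit 14, nat_lit 19, nat_lit 16, nat_lit 18, nat_lit 25, nat_lit 1896, nat_lit 1, nat_lit 3, nat_lit 4, nat_lit 5816]),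
  (nat_lit 0x10000000001000000010001000000000100000001000001000100000000000000000001000100000001010000000001000101000100, nat_lit 99, [[nat_lit 5850, nat_lit 5855, nat_lit 6862, nat_lit 6863, nat_lit 6864, nat_lit 6869, nat_lit 6870, nat_lit 6871, nat_lit 13970, nat_lit 13975, nat_lit 14982, nat_lit 14983, nat_lit 14984, nat_lit 14989, nat_lit 14990, nat_lit 14991]], [nat_lit 42, nat_lit 30, nat_lit 16, nat_lit 48], [nat_lit 30, nat_lit 39, nat_lit 2, nat_lit 8, nat_lit 15, nat_lit 9, nat_lit 12, nat_lit 4, nat_lit 1, nat_lit 3, nat_lit 1896, nat_lit 5816]),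
  (nat_lit 0x101000000000101000000000000000000000000000000000001010001000100010001000001010001010101000000000000000000000000, nat_lit 0, [[nat_lit 14, nat_lit 12]], [], []),
  (nat_lit 0x1000101000001010101010000000000000000000000000101000000000101000000000000000000000000000000000001010001000100, nat_lit 0, [[nat_lit 71, nat_lit 21]], [], []),
  (nat_lit 0x100000000000001000001000000010001000100000000000000000000010001000000010100000001000001000101000100000001000000, nat_lit 99, [[nat_lit 4226, nat_lit 4319, nat_lit 4485, nat_lit 4752, nat_lit 5208, nat_lit 5234, nat_lit 5243, nat_lit 5745, nat_lit 12346, nat_lit 12439, nat_lit 12605, nat_lit 12872, nat_lit 13328, nat_lit 13354, nat_lit 13363, nat_lit 13865]], [nat_lit 39, nat_lit 45, nat_lit 26, nat_lit 7], [nat_lit 16, nat_lit 55, nat_lit 15, nat_lit 7, nat_lit 17, nat_lit 2, nat_lit 3, nat_lit 6, nat_lit 9, nat_lit 1, nat_lit 8, nat_lit 1896]),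
  (nat_lit 0x101000000000101000000000000000000000000000000000100000100010001000100010100000100000000010101010000000000000000, nat_lit 0, [[nat_lit 43, nat_lit 28]], [], []),
  (nat_lit 0x1000001000101000000000000010000000000010100000100010100000001000000000100000100010000000001000001000000, nat_lit 99, [[nat_lit 4173, nat_lit 4280, nat_lit 4350, nat_lit 4353, nat_lit 5109, nat_lit 5110, nat_lit 5239, nat_lit 5604, nat_lit 12293, nat_lit 12400, nat_lit 12470, nat_lit 12473, nat_lit 13229, nat_lit 13230, nat_lit 13359, nat_lit 13724]], [nat_lit 21, nat_lit 51, nat_lit 3, nat_lit 32], [nat_lit 56, nat_lit 52, nat_lit 11, nat_lit 20, nat_lit 23, nat_lit 1896, nat_lit 1, nat_lit 8, nat_lit 3, nat_lit 7, nat_lit 4, nat_lit 2]),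
  (nat_lit 0x10000000001010000000000000101000000000100000100010000000000000000000001000100000100000100000001000101000100, nat_lit 99, [[nat_lit 5931, nat_lit 5932, nat_lit 5933, nat_lit 5934, nat_lit 6977, nat_lit 6978, nat_lit 6979, nat_lit 6980, nat_lit 14051, nat_lit 14052, nat_lit 14053, nat_lit 14054, nat_lit 15097, nat_lit 15098, nat_lit 15099, nat_lit 15100]], [nat_lit 39, nat_lit 3, nat_lit 16, nat_lit 13], [nat_lit 1951, nat_lit 22, nat_lit 2, nat_lit 15, nat_lit 9, nat_lit 17, nat_lit 11, nat_lit 1, nat_lit 6, nat_lit 5, nat_lit 4, nat_lit 5816]),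
  (nat_lit 0x1010000010001010100000000010100000000000000000100010001000001000000000000000000000000000000000000000001010101, nat_lit 0, [[nat_lit 34, nat_lit 14]], [], []),
  (nat_lit 0x1000000000001000100010001000100000100000000010000010001000000000001000000010000010001000000000100000100000000, nat_lit 99, [[nat_lit 121, nat_lit 418, nat_lit 597, nat_lit 662, nat_lit 934, nat_lit 1043, nat_lit 1147, nat_lit 1524, nat_lit 8241, nat_lit 8538, nat_lit 8717, nat_lit 8782, nat_lit 9054, nat_lit 9163, nat_lit 9267, nat_lit 9644]], [nat_lit 27, nat_lit 32, nat_lit 44, nat_lit 21], [nat_lit 2, nat_lit 12, nat_lit 18, nat_lit 3, nat_lit 8, nat_lit 10, nat_lit 9, nat_lit 20, nat_lit 4, nat_lit 5, nat_lit 6, nat_lit 1]),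
  (nat_lit 0x100000100010001000100010100000100000000010101010000000000000000010100000000010100000000000000000000000000000000, nat_lit 0, [[nat_lit 34, nat_lit 23]], [], [])]

def BK40 : List Ent := [(nat_lit 0x100010000010100000000000000000001000001010001000000000000000000000000000000000001000100010000010001010001000100, nat_lit 99, [[nat_lit 5837, nat_lit 5840, nat_lit 5941, nat_lit 5944, nat_lit 6701, nat_lit 6702, nat_lit 6835, nat_lit 6836, nat_lit 6855, nat_lit 6858, nat_lit 6991, nat_lit 6994, nat_lit 7945, nat_lit 7946, nat_lit 8115, nat_lit 8116, nat_lit 13957, nat_lit 13960, nat_lit 14061, nat_lit 14064, nat_lit 14821, nat_lit 14822, nat_lit 14955, nat_lit 14956, nat_lit 14975, nat_lit 14978, nat_lit 15111, nat_lit 15114, nat_lit 16065, nat_lit 16066, nat_lit 16235, nat_lit 16236]], [nat_lit 11, nat_lit 6, nat_lit 5, nat_lit 55, nat_lit 36], [nat_lit 4, nat_lit 2, nat_lit 15, nat_lit 17, nat_lit 3, nat_lit 6, nat_lit 7, nat_lit 8, nat_lit 10, nat_lit 1896, nat_lit 5816]),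
  (nat_lit 0x1000000000100010000000001000000010001000000000000000001000100000100000000000101000100010001000100000001000000, nat_lit 99, [[nat_lit 4467, nat_lit 4498, nat_lit 4614, nat_lit 5280, nat_lit 5575, nat_lit 5682, nat_lit 5763, nat_lit 5806, nat_lit 12587, nat_lit 12618, nat_lit 12734, nat_lit 13400, nat_lit 13695, nat_lit 13802, nat_lit 13883, nat_lit 13926]], [nat_lit 11, nat_lit 25, nat_lit 7, nat_lit 36], [nat_lit 21, nat_lit 33, nat_lit 32, nat_lit 9, nat_lit 4, nat_lit 10, nat_lit 2, nat_lit 5, nat_lit 1, nat_lit 3, nat_lit 12, nat_lit 1896]),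
  (nat_lit 0x1010000000000010000000000010000010100000101000001000000010000010000000000000100000001000000010001000100000000, nat_lit 99, [[nat_lit 261, nat_lit 414, nat_lit 454, nat_lit 1093, nat_lit 1484, nat_lit 1582, nat_lit 1601, nat_lit 1729, nat_lit 8381, nat_lit 8534, nat_lit 8574, nat_lit 9213, nat_lit 9604, nat_lit 9702, nat_lit 9721, nat_lit 9849]], [nat_lit 41, nat_lit 54, nat_lit 33, nat_lit 30], [nat_lit 17, nat_lit 22, nat_lit 2, nat_lit 30, nat_lit 12, nat_lit 5, nat_lit 6, nat_lit 4, nat_lit 3, nat_lit 10, nat_lit 1, nat_lit 7]),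
  (nat_lit 0x1000100000000010000010000000000000001010000000001000101000100000100000001000000000100010000000000000100000001, nat_lit 99, [[nat_lit 2462, nat_lit 2463, nat_lit 2470, nat_lit 2471, nat_lit 3662, nat_lit 3667, nat_lit 3672, nat_lit 3673, nat_lit 10582, nat_lit 10583, nat_lit 10590, nat_lit 10591, nat_lit 11782, nat_lit 11787, nat_lit 11792, nat_lit 11793]], [nat_lit 25, nat_lit 11, nat_lit 22, nat_lit 47], [nat_lit 14, nat_lit 16, nat_lit 38, nat_lit 1, nat_lit 12, nat_lit 13, nat_lit 4, nat_lit 2, nat_lit 3, nat_lit 5, nat_lit 6, nat_lit 1756]),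
  (nat_lit 0x10100000101000000000000000001010000000100010001000100000000010000010000010000000001000100000000010000, nat_lit 99, [[nat_lit 636, nat_lit 656, nat_lit 708, nat_lit 842, nat_lit 939, nat_lit 1304, nat_lit 1607, nat_lit 1621, nat_lit 8756, nat_lit 8776, nat_lit 8828, nat_lit 8962, nat_lit 9059, nat_lit 9424, nat_lit 9727, nat_lit 9741]], [nat_lit 36, nat_lit 2, nat_lit 29, nat_lit 14], [nat_lit 63, nat_lit 21, nat_lit 7, nat_lit 23, nat_lit 5, nat_lit 3, nat_lit 12, nat_lit 6, nat_lit 9, nat_lit 1, nat_lit 2, nat_lit 4]),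
  (nat_lit 0x101010101010101000000000000000000000000000000000000000000000000, nat_lit 2, [[nat_lit 7762], [nat_lit 1783], [nat_lit 4575], [nat_lit 5841], [nat_lit 5943], [nat_lit 2643], [nat_lit 2501], [nat_lit 6561], [nat_lit 3614, nat_lit 3604], [nat_lit 7140, nat_lit 7067], [nat_lit 7989, nat_lit 7971], [nat_lit 1570, nat_lit 1521]], [], []),
  (nat_lit 0x10101010000000001000001010001000101000000000101000000000000000000010001000101000000000000000000, nat_lit 0, [[nat_lit 41, nat_lit 24]], [], []),
  (nat_lit 0x10101010000000000000000000000000000000000000100000100010001010001000001010000000000010101010000000000000000, nat_lit 0, [[nat_lit 31, nat_lit 27]], [], []),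
  (nat_lit 0x100010000010100000000000000000000010100000100010000000000000000000000000000000001000100010000010001010001000100, nat_lit 0, [[nat_lit 11, nat_lit 3]], [], []),
  (nat_lit 0x1000100010100000000000000000000010001010000010000000000000000000000000000000001010000000001010101000001010000, nat_lit 0, [[nat_lit 41, nat_lit 37]], [], []),
  (nat_lit 0x100000101000100000000000000000000000101000001010000000000000000000000000000000000010001010000010101010100000000, nat_lit 0, [[nat_lit 31, nat_lit 18]], [], []),
  (nat_lit 0x100000100000000000000010100000000010100010000010000000100000100000100000000010000000001000000010100010000000000, nat_lit 99, [[nat_lit 4252, nat_lit 4288, nat_lit 4726, nat_lit 4771, nat_lit 4907, nat_lit 5268, nat_lit 5523, nat_lit 5715, nat_lit 12372, nat_lit 12408, nat_lit 12846, nat_lit 12891, nat_lit 13027, nat_lit 13388, nat_lit 13643, nat_lit 13835]], [nat_lit 52, nat_lit 8, nat_lit 43, nat_lit 38], [nat_lit 89, nat_lit 73, nat_lit 24, nat_lit 33, nat_lit 7, nat_lit 6, nat_lit 10, nat_lit 9, nat_lit 1,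 nat_lit 4, nat_lit 2, nat_lit 12]),
  (nat_lit 0x100010000000100000100000000000000010000010000000001000100000000010100000001000001010000010000010000000001, nat_lit 99, [[nat_lit 2102, nat_lit 2103, nat_lit 2104, nat_lit 2143, nat_lit 3218, nat_lit 3269, nat_lit 3270, nat_lit 3271, nat_lit 10222, nat_lit 10223, nat_lit 10224, nat_lit 10263, nat_lit 11338, nat_lit 11389, nat_lit 11390, nat_lit 11391]], [nat_lit 12, nat_lit 19, nat_lit 35, nat_lit 43], [nat_lit 18, nat_lit 6, nat_lit 29, nat_lit 7, nat_lit 9, nat_lit 16, nat_lit 1, nat_lit 13, nat_lit 4, nat_lit 2, nat_lit 8, nat_lit 1756]),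
  (nat_lit 0x1010000000000000001000001000001000100000100010100000001000000000000010001000000000100000001000100010000000000, nat_lit 99, [[nat_lit 4348, nat_lit 4360, nat_lit 4471, nat_lit 4566, nat_lit 4986, nat_lit 5505, nat_lit 5624, nat_lit 5772, nat_lit 12468, nat_lit 12480, nat_lit 12591, nat_lit 12686, nat_lit 13106, nat_lit 13625, nat_lit 13744, nat_lit 13892]], [nat_lit 13, nat_lit 45, nat_lit 27, nat_lit 7], [nat_lit 12, nat_lit 19, nat_lit 1, nat_lit 15, nat_lit 3, nat_lit 6, nat_lit 11, nat_lit 17, nat_lit 18, nat_lit 2, nat_lit 7, nat_lit 4]),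
  (nat_lit 0x100000100000000010000000000010000010100010000010000000100000100000000010001000001000000000100000000000000010100, nat_lit 99, [[nat_lit 6619, nat_lit 6622, nat_lit 6623, nat_lit 6624, nat_lit 7855, nat_lit 7856, nat_lit 7857, nat_lit 7860, nat_lit 14739, nat_lit 14742, nat_lit 14743, nat_lit 14744, nat_lit 15975, nat_lit 15976, nat_lit 15977, nat_lit 15980]], [nat_lit 1, nat_lit 25, nat_lit 41, nat_lit 15], [nat_lit 31, nat_lit 140, nat_lit 49, nat_lit 4, nat_lit 29, nat_lit 16, nat_lit 10, nat_lit 5816, nat_lit 2, nat_lit 1, nat_lit 3, nat_lit 6]),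
  (nat_lit 0x10000010000010001000100010000000100000000010100000000000001000100000100000000000000010000010100000100000000, nat_lit 99, [[nat_lit 302, nat_lit 431, nat_lit 609, nat_lit 868, nat_lit 1019, nat_lit 1637, nat_lit 1661, nat_lit 1737, nat_lit 8422, nat_lit 8551, nat_lit 8729, nat_lit 8988, nat_lit 9139, nat_lit 9757, nat_lit 9781, nat_lit 9857]], [nat_lit 7, nat_lit 43, nat_lit 37, nat_lit 8], [nat_lit 8, nat_lit 40, nat_lit 37, nat_lit 42, nat_lit 21, nat_lit 4, nat_lit 6, nat_lit 7, nat_lit 3, nat_lit 2, nat_lit 1, nat_lit 12]),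
  (nat_lit 0x10101010000000000010100000100010101000000000101000000000000000000010001000101000000000000000000, nat_lit 0, [[nat_lit 18, nat_lit 3]], [], []),
  (nat_lit 0x1010000000000000100000000000100010001010001000100000001000000000100000000010000010000010000000000000000010100, nat_lit 99, [[nat_lit 6018, nat_lit 6019, nat_lit 6021, nat_lit 6036, nat_lit 7097, nat_lit 7116, nat_lit 7118, nat_lit 7119, nat_lit 14138, nat_lit 14139, nat_lit 14141, nat_lit 14156, nat_lit 15217, nat_lit 15236, nat_lit 15238, nat_lit 15239]], [nat_lit 22, nat_lit 38, nat_lit 11, nat_lit 31], [nat_lit 91, nat_lit 31, nat_lit 76, nat_lit 18, nat_lit 33, nat_lit 3, nat_lit 12, nat_lit 1, nat_lit 2, nat_lit 9, nat_lit 4, nat_lit 5816]),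
  (nat_lit 0x1000000000100000000010000000100000000000101000001010000000000010000000000010000010100010000010000010000000001, nat_lit 99, [[nat_lit 2105, nat_lit 2106, nat_lit 2107, nat_lit 2142, nat_lit 3219, nat_lit 3266, nat_lit 3267, nat_lit 3268, nat_lit 10225, nat_lit 10226, nat_lit 10227, nat_lit 10262, nat_lit 11339, nat_lit 11386, nat_lit 11387, nat_lit 11388]], [nat_lit 44, nat_lit 17, nat_lit 8, nat_lit 34], [nat_lit 1, nat_lit 10, nat_lit 18, nat_lit 8, nat_lit 19, nat_lit 2, nat_lit 4, nat_lit 7, nat_lit 3, nat_lit 5, nat_lit 9, nat_lit 1756]),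
  (nat_lit 0x100010000000000010000000100000000000101000100000100000000000000010100000001000100010001000000010000000001, nat_lit 99, [[nat_lit 2405, nat_lit 2420, nat_lit 2421, nat_lit 2422, nat_lit 3583, nat_lit 3584, nat_lit 3585, nat_lit 3604, nat_lit 10525, nat_lit 10540, nat_lit 10541, nat_lit 10542, nat_lit 11703, nat_lit 11704, nat_lit 11705, nat_lit 11724]], [nat_lit 40, nat_lit 31, nat_lit 50, nat_lit 34], [nat_lit 16, nat_lit 29, nat_lit 5, nat_lit 20, nat_lit 1, nat_lit 17, nat_lit 9, nat_lit 3, nat_lit 2, nat_lit 6, nat_lit 8, nat_lit 1756]),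
  (nat_lit 0x10000010000000101000100000100010000000100000001000000000100000000010000000100010001000000000000000001000100, nat_lit 99, [[nat_lit 5886, nat_lit 5887, nat_lit 5897, nat_lit 5898, nat_lit 6916, nat_lit 6917, nat_lit 6929, nat_lit 6930, nat_lit 14006, nat_lit 14007, nat_lit 14017, nat_lit 14018, nat_lit 15036, nat_lit 15037, nat_lit 15049, nat_lit 15050]], [nat_lit 14, nat_lit 50, nat_lit 34, nat_lit 40], [nat_lit 7, nat_lit 9, nat_lit 18, nat_lit 10, nat_lit 2, nat_lit 6, nat_lit 14, nat_lit 1, nat_lit 4, nat_lit 5, nat_lit 1896, nat_lit 5816]),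
  (nat_lit 0x1010000010101000100010000010100000100010001000000000000000001010101000000000000000000000000, nat_lit 0, [[nat_lit 40, nat_lit 17]], [], []),
  (nat_lit 0x100000100010001000000000000000001010101000000000000000000000000000000000000000001010000010100000001000100010100, nat_lit 0, [[nat_lit 7, nat_lit 5]], [], []),
  (nat_lit 0x100000001000100010000000000000000010001000000010000010000000101000100000100010000000100000001000000000100, nat_lit 99, [[nat_lit 6300, nat_lit 6301, nat_lit 6302, nat_lit 6303, nat_lit 7440, nat_lit 7441, nat_lit 7442, nat_lit 7443, nat_lit 14420, nat_lit 14421, nat_lit 14422, nat_lit 14423, nat_lit 15560, nat_lit 15561, nat_lit 15562, nat_lit 15563]], [nat_lit 26, nat_lit 10, nat_lit 48, nat_lit 44], [nat_lit 3, nat_lit 9, nat_lit 32, nat_lit 6, nat_lit 10, nat_lit 2, nat_lit 5, nat_lit 4, nat_lit 13, nat_lit 1, nat_lit 12, nat_lit 5816]),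
  (nat_lit 0x10000000001000001000100000001000000000100000100010000000000000000000100010000010000000000010100000101000001, nat_lit 99, [[nat_lit 1896, nat_lit 1909, nat_lit 2960, nat_lit 2961, nat_lit 2962, nat_lit 2975, nat_lit 2976, nat_lit 2977, nat_lit 10016, nat_lit 10029, nat_lit 11080, nat_lit 11081, nat_lit 11082, nat_lit 11095, nat_lit 11096, nat_lit 11097]], [nat_lit 4, nat_lit 8, nat_lit 29, nat_lit 48], [nat_lit 3, nat_lit 6, nat_lit 7, nat_lit 17, nat_lit 21, nat_lit 19, nat_lit 1, nat_lit 2, nat_lit 4, nat_lit 10, nat_lit 1756, nat_lit 1896]),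
  (nat_lit 0x100010001000001000101000100010001000100000101000000000000000000000101000001000100000000000000000000000000000000, nat_lit 0, [[nat_lit 55, nat_lit 15]], [], []),
  (nat_lit 0x100010001000001000101000100010001000100000101000000000000000000010000010100010000000000000000000000000000000000, nat_lit 99, [[nat_lit 4125, nat_lit 4199, nat_lit 4352, nat_lit 4575, nat_lit 4762, nat_lit 4786, nat_lit 4828, nat_lit 4943, nat_lit 5390, nat_lit 5445, nat_lit 5469, nat_lit 5516, nat_lit 5600, nat_lit 5713, nat_lit 5725, nat_lit 5748, nat_lit 12245, nat_lit 12319, nat_lit 12472, nat_lit 12695, nat_lit 12882, nat_lit 12906, nat_lit 12948, nat_lit 13063, nat_lit 13510, nat_lit 13565, nat_lit 13589, nat_lit 13636, nat_lit 13720, nat_lit 13833, nat_lit 13845, nat_lit 13868]], [nat_lit 41, nat_lit 51, nat_lit 37, nat_lit 33, nat_lit 53], [nat_lit 9, nat_lit 23, nat_lit 5, nat_lit 8, nat_lit 2, nat_lit 3, nat_lit 4, nat_lit 10, nat_lit 15, nat_lit 1, nat_lit 6]),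
  (nat_lit 0x1010001000001000000010000010000010000000001000000000100000001010001000000000001000001000000000000000101000000, nat_lit 99, [[nat_lit 4137, nat_lit 4219, nat_lit 4616, nat_lit 4727, nat_lit 4892, nat_lit 5151, nat_lit 5359, nat_lit 5530, nat_lit 12257, nat_lit 12339, nat_lit 12736, nat_lit 12847, nat_lit 13012, nat_lit 13271, nat_lit 13479, nat_lit 13650]], [nat_lit 51, nat_lit 24, nat_lit 15, nat_lit 38], [nat_lit 12, nat_lit 30, nat_lit 15, nat_lit 17, nat_lit 6, nat_lit 18, nat_lit 8, nat_lit 2, nat_lit 3, nat_lit 1, nat_lit 4, nat_lit 1896]),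
  (nat_lit 0x1010000010001000000000000000000000101000001010000000000000000000000000000000000010001010000010101010100000000, nat_lit 0, [[nat_lit 31, nat_lit 18]], [], []),
  (nat_lit 0x100000100010001000000000000000000000000010101010000000000000000000000000000000000000101000001010001000100010100, nat_lit 0, [[nat_lit 10, nat_lit 4]], [], []),
  (nat_lit 0x100010000010001000100000001000001000000000000010100000000010000000000000100000101000001000000000100000000000100, nat_lit 99, [[nat_lit 6234, nat_lit 6238, nat_lit 6239, nat_lit 6240, nat_lit 7374, nat_lit 7376, nat_lit 7378, nat_lit 7379, nat_lit 14354, nat_lit 14358, nat_lit 14359, nat_lit 14360, nat_lit 15494, nat_lit 15496, nat_lit 15498, nat_lit 15499]], [nat_lit 31, nat_lit 50, nat_lit 12, nat_lit 7], [nat_lit 6, nat_lit 1, nat_lit 15, nat_lit 25, nat_lit 13, nat_lit 4, nat_lit 2, nat_lit 9, nat_lit 3, nat_lit 8, nat_lit 10, nat_lit 5816]),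
  (nat_lit 0x1010101010000010100010001010000000001010000000000000000000100010001010000000000000000000000000000000000, nat_lit 0, [[nat_lit 64, nat_lit 12]], [], []),
  (nat_lit 0x10001000000010100000001000100000100010000010000000001000000010001000000000100000001000001000100000000, nat_lit 99, [[nat_lit 60, nat_lit 234, nat_lit 473, nat_lit 661, nat_lit 983, nat_lit 1163, nat_lit 1384, nat_lit 1620, nat_lit 8180, nat_lit 8354, nat_lit 8593, nat_lit 8781, nat_lit 9103, nat_lit 9283, nat_lit 9504, nat_lit 9740]], [nat_lit 18, nat_lit 9, nat_lit 43, nat_lit 32], [nat_lit 45, nat_lit 75, nat_lit 17, nat_lit 2, nat_lit 7, nat_lit 5, nat_lit 4, nat_lit 1, nat_lit 3, nat_lit 9, nat_lit 6, nat_lit 10]),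
  (nat_lit 0x1010101000101000001000101010000000001010000000000000000000100010001010000000000000000000000000000000000, nat_lit 0, [[nat_lit 55, nat_lit 15]], [], [])]

def BK41 : List Ent := [(nat_lit 0x101010100000000010000010100010000000000000000000101000001010000000000000000000000000000000000000100010000010100, nat_lit 0, [[nat_lit 40, nat_lit 22]], [], []),
  (nat_lit 0x1010101000001010000010100000001000100010100000000000000000000010001010000010000000000000000, nat_lit 0, [[nat_lit 29, nat_lit 26]], [], []),
  (nat_lit 0x10000000100000000000001010000000000010001000100000000000100000101000100000100010000000100000100000000000001, nat_lit 99, [[nat_lit 2228, nat_lit 2231, nat_lit 2248, nat_lit 2251, nat_lit 3364, nat_lit 3367, nat_lit 3400, nat_lit 3403, nat_lit 10348, nat_lit 10351, nat_lit 10368, nat_lit 10371, nat_lit 11484, nat_lit 11487, nat_lit 11520, nat_lit 11523]], [nat_lit 41, nat_lit 22, nat_lit 0, nat_lit 49], [nat_lit 12, nat_lit 29, nat_lit 6, nat_lit 20, nat_lit 19, nat_lit 14, nat_lit 22, nat_lit 1756, nat_lit 4,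 nat_lit 1, nat_lit 2, nat_lit 3]),
  (nat_lit 0x100010000010000000001000000000000000101000100000100000000010000000000010000010100010000010000000100000100, nat_lit 99, [[nat_lit 6175, nat_lit 6194, nat_lit 6195, nat_lit 6196, nat_lit 7285, nat_lit 7286, nat_lit 7287, nat_lit 7318, nat_lit 14295, nat_lit 14314, nat_lit 14315, nat_lit 14316, nat_lit 15405, nat_lit 15406, nat_lit 15407, nat_lit 15438]], [nat_lit 28, nat_lit 1, nat_lit 50, nat_lit 33], [nat_lit 74, nat_lit 20, nat_lit 154, nat_lit 5816, nat_lit 9, nat_lit 8, nat_lit 22, nat_lit 2, nat_lit 5, nat_lit 6, nat_lit 4, nat_lit 1]),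
  (nat_lit 0x10001000000010000000001000000010001000000000100000100000000010000000000010001000001010000010100000001000000, nat_lit 99, [[nat_lit 4127, nat_lit 4203, nat_lit 4370, nat_lit 4565, nat_lit 4637, nat_lit 5281, nat_lit 5292, nat_lit 5759, nat_lit 12247, nat_lit 12323, nat_lit 12490, nat_lit 12685, nat_lit 12757, nat_lit 13401, nat_lit 13412, nat_lit 13879]], [nat_lit 31, nat_lit 8, nat_lit 38, nat_lit 3], [nat_lit 6, nat_lit 16, nat_lit 19, nat_lit 33, nat_lit 7, nat_lit 25, nat_lit 12, nat_lit 1897, nat_lit 2, nat_lit 3, nat_lit 1, nat_lit 13]),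
  (nat_lit 0x1000100010100000000000000000000000000000000000101010100000000000101000001000100000101010100000000000000000000, nat_lit 0, [[nat_lit 42, nat_lit 14]], [], []),
  (nat_lit 0x100000001000000000000010001000000010000010000000000000000010100010000010000000000000100000100000001010000010100, nat_lit 99, [[nat_lit 6089, nat_lit 6090, nat_lit 6091, nat_lit 6092, nat_lit 7187, nat_lit 7188, nat_lit 7189, nat_lit 7190, nat_lit 14209, nat_lit 14210, nat_lit 14211, nat_lit 14212, nat_lit 15307, nat_lit 15308, nat_lit 15309, nat_lit 15310]], [nat_lit 38, nat_lit 25, nat_lit 2, nat_lit 44], [nat_lit 1, nat_lit 4, nat_lit 10, nat_lit 5, nat_lit 2, nat_lit 8, nat_lit 3, nat_lit 7, nat_lit 6, nat_lit 9, nat_lit 13, nat_lit 5816]),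
  (nat_lit 0x1000100010100000000000000000000000000000000000101010100000000010000010100010000000101010100000000000000000000, nat_lit 0, [[nat_lit 42, nat_lit 14]], [], []),
  (nat_lit 0x10100010001000001000101000001000000000101010100000000000000000000010101010000, nat_lit 0, [[nat_lit 39, nat_lit 38]], [], []),
  (nat_lit 0x1010000010100000100010001000001010000010001000100000000000000000000000001010101, nat_lit 0, [[nat_lit 43, nat_lit 28]], [], []),
  (nat_lit 0x100010000000001000000010000000000010000010000000001000100010000000000010001000100000100010000000100000100, nat_lit 99, [[nat_lit 6469, nat_lit 6476, nat_lit 6477, nat_lit 6478, nat_lit 7647, nat_lit 7648, nat_lit 7649, nat_lit 7660, nat_lit 14589, nat_lit 14596, nat_lit 14597, nat_lit 14598, nat_lit 15767, nat_lit 15768, nat_lit 15769, nat_lit 15780]], [nat_lit 4, nat_lit 23, nat_lit 15, nat_lit 25], [nat_lit 4, nat_lit 82, nat_lit 60, nat_lit 6, nat_lit 12, nat_lit 17, nat_lit 1, nat_lit 14, nat_lit 2, nat_lit 3, nat_lit 7, nat_lit 5816]),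
  (nat_lit 0x100000001000000000100000000010000000001000000010000000001000001000000000001000100010000000000010100000100010100, nat_lit 99, [[nat_lit 5989, nat_lit 5990, nat_lit 5991, nat_lit 6000, nat_lit 7055, nat_lit 7064, nat_lit 7065, nat_lit 7066, nat_lit 14109, nat_lit 14110, nat_lit 14111, nat_lit 14120, nat_lit 15175, nat_lit 15184, nat_lit 15185, nat_lit 15186]], [nat_lit 2, nat_lit 36, nat_lit 18, nat_lit 41], [nat_lit 1, nat_lit 5, nat_lit 6, nat_lit 9, nat_lit 7, nat_lit 12, nat_lit 4, nat_lit 10, nat_lit 13, nat_lit 15, nat_lit 2, nat_lit 5816]),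
  (nat_lit 0x101010100000000000101000001000100000000000000000101000001010000000000000000000000000000000000000100010000010100, nat_lit 0, [[nat_lit 21, nat_lit 12]], [], []),
  (nat_lit 0x101010100000000000000000000000000000000010100000101000000010001000101000001010001000100, nat_lit 0, [[nat_lit 13, nat_lit 1]], [], []),
  (nat_lit 0x100000101000001000100000001000000000001000100000001000001000000010001000000000000010100000000000001000000000001, nat_lit 99, [[nat_lit 2172, nat_lit 2186, nat_lit 3310, nat_lit 3311, nat_lit 3312, nat_lit 3320, nat_lit 3321, nat_lit 3322, nat_lit 10292, nat_lit 10306, nat_lit 11430, nat_lit 11431, nat_lit 11432, nat_lit 11440, nat_lit 11441, nat_lit 11442]], [nat_lit 51, nat_lit 46, nat_lit 23, nat_lit 14], [nat_lit 13, nat_lit 76, nat_lit 22, nat_lit 37, nat_lit 23, nat_lit 1, nat_lit 7, nat_lit 4, nat_lit 3, nat_lit 5, nat_lit 2, nat_lit 1756]),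
  (nat_lit 0x100000100010001000000000000000001010101000000000000000000000000000000000000000000000101000001010100010001000001, nat_lit 0, [[nat_lit 41, nat_lit 37]], [], []),
  (nat_lit 0x100000000000001010000000001000000000000000101000000000001000100000100000000000100010001010001000000000100000100, nat_lit 99, [[nat_lit 6458, nat_lit 6487, nat_lit 6488, nat_lit 6489, nat_lit 7630, nat_lit 7631, nat_lit 7632, nat_lit 7677, nat_lit 14578, nat_lit 14607, nat_lit 14608, nat_lit 14609, nat_lit 15750, nat_lit 15751, nat_lit 15752, nat_lit 15797]], [nat_lit 22, nat_lit 4, nat_lit 33, nat_lit 55], [nat_lit 26, nat_lit 39, nat_lit 6, nat_lit 15, nat_lit 2, nat_lit 10, nat_lit 5, nat_lit 4, nat_lit 8, nat_lit 3, nat_lit 1, nat_lit 5816]),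
  (nat_lit 0x1000101000001010101010000000001000001010001000000000000000000010100000101000000000000000000000000000000000000, nat_lit 0, [[nat_lit 64, nat_lit 12]], [], []),
  (nat_lit 0x100000000000001000100000100000000000000000101000000000001000100000000010100000001000100010001000100000001000000, nat_lit 99, [[nat_lit 4067, nat_lit 4242, nat_lit 4357, nat_lit 4479, nat_lit 4851, nat_lit 4861, nat_lit 4921, nat_lit 5633, nat_lit 12187, nat_lit 12362, nat_lit 12477, nat_lit 12599, nat_lit 12971, nat_lit 12981, nat_lit 13041, nat_lit 13753]], [nat_lit 25, nat_lit 7, nat_lit 19, nat_lit 43], [nat_lit 18, nat_lit 1, nat_lit 29, nat_lit 16, nat_lit 5, nat_lit 3, nat_lit 6, nat_lit 13, nat_lit 4, nat_lit 2, nat_lit 8, nat_lit 1896]),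
  (nat_lit 0x100000001000000000001010001000001000000000000000101000000000100010001000100000100000000010000000100010000, nat_lit 99, [[nat_lit 68, nat_lit 396, nat_lit 699, nat_lit 895, nat_lit 1005, nat_lit 1522, nat_lit 1558, nat_lit 1667, nat_lit 8188, nat_lit 8516, nat_lit 8819, nat_lit 9015, nat_lit 9125, nat_lit 9642, nat_lit 9678, nat_lit 9787]], [nat_lit 16, nat_lit 2, nat_lit 41, nat_lit 36], [nat_lit 62, nat_lit 4, nat_lit 13, nat_lit 14, nat_lit 2, nat_lit 5, nat_lit 3, nat_lit 6, nat_lit 1, nat_lit 7, nat_lit 10, nat_lit 12]),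
  (nat_lit 0x1010101010000010100010000000000000000000000010100000101000000000000000000000000000000000100010000010100, nat_lit 0, [[nat_lit 58, nat_lit 26]], [], []),
  (nat_lit 0x1000101000001010101010000000000010100000100010000000000000000010100000101000000000000000000000000000000000000, nat_lit 0, [[nat_lit 32, nat_lit 2]], [], []),
  (nat_lit 0x10000000001000001000100000000000001000000010000000000010100000000000001000100010000000000010001000101000100, nat_lit 99, [[nat_lit 6723, nat_lit 6732, nat_lit 6733, nat_lit 6734, nat_lit 7985, nat_lit 7986, nat_lit 7987, nat_lit 7996, nat_lit 14843, nat_lit 14852, nat_lit 14853, nat_lit 14854, nat_lit 16105, nat_lit 16106, nat_lit 16107, nat_lit 16116]], [nat_lit 16, nat_lit 45, nat_lit 14, nat_lit 36], [nat_lit 25, nat_lit 5, nat_lit 11, nat_lit 3, nat_lit 14, nat_lit 9, nat_lit 7, nat_lit 2, nat_lit 4, nat_lit 1, nat_lit 1896, nat_lit 5816]),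
  (nat_lit 0x1000001010000010000000000010000000000010100000100010100000000010000010001000000000000010000010000000100, nat_lit 99, [[nat_lit 6104, nat_lit 6105, nat_lit 6134, nat_lit 6143, nat_lit 7210, nat_lit 7211, nat_lit 7258, nat_lit 7263, nat_lit 14224, nat_lit 14225, nat_lit 14254, nat_lit 14263, nat_lit 15330, nat_lit 15331, nat_lit 15378, nat_lit 15383]], [nat_lit 1, nat_lit 20, nat_lit 25, nat_lit 48], [nat_lit 34, nat_lit 35, nat_lit 25, nat_lit 15, nat_lit 24, nat_lit 8, nat_lit 14, nat_lit 5816, nat_lit 9, nat_lit 3, nat_lit 1, nat_lit 2]),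
  (nat_lit 0x100000101000001000100000001000001000000000000010000000100000001000100010000000000010100000000000100000000000100, nat_lit 99, [[nat_lit 6227, nat_lit 6253, nat_lit 6254, nat_lit 6255, nat_lit 7359, nat_lit 7360, nat_lit 7361, nat_lit 7389, nat_lit 14347, nat_lit 14373, nat_lit 14374, nat_lit 14375, nat_lit 15479, nat_lit 15480, nat_lit 15481, nat_lit 15509]], [nat_lit 55, nat_lit 13, nat_lit 22, nat_lit 32], [nat_lit 5, nat_lit 10, nat_lit 19, nat_lit 4, nat_lit 18, nat_lit 2, nat_lit 3, nat_lit 12, nat_lit 1, nat_lit 6, nat_lit 13, nat_lit 5816]),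
  (nat_lit 0x100000100010001000100010100000100000000000000000100000101000100000000000000000000000000000000000001000100010100, nat_lit 0, [[nat_lit 7, nat_lit 5]], [], []),
  (nat_lit 0x1000101000001000000000101010101000001010001000000000000000000000001010000010100000000000000000000000000000000, nat_lit 0, [[nat_lit 64, nat_lit 12]], [], []),
  (nat_lit 0x1010101000101000001000100000000000000000000010100000101000000000000000000000000000000000100010000010100, nat_lit 0, [[nat_lit 25, nat_lit 19]], [], []),
  (nat_lit 0x100000100010001000100010100000100000000000000000001010000010001000000000000000000000000000000000001000100010100, nat_lit 99, [[nat_lit 5980, nat_lit 5981, nat_lit 5982, nat_lit 5983, nat_lit 6655, nat_lit 6656, nat_lit 6659, nat_lit 6660, nat_lit 7164, nat_lit 7165, nat_lit 7166, nat_lit 7167, nat_lit 7813, nat_lit 7814, nat_lit 7817, nat_lit 7818, nat_lit 14100, nat_lit 14101, nat_lit 14102, nat_lit 14103, nat_lit 14775, nat_lit 14776, nat_lit 14779, nat_lit 14780, nat_lit 15284, nat_lit 15285, nat_lit 15286, nat_lit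 15287, nat_lit 15933, nat_lit 15934, nat_lit 15937, nat_lit 15938]], [nat_lit 26, nat_lit 30, nat_lit 48, nat_lit 52, nat_lit 6], [nat_lit 37, nat_lit 25, nat_lit 1, nat_lit 5, nat_lit 7, nat_lit 9, nat_lit 3, nat_lit 2, nat_lit 8, nat_lit 4, nat_lit 5816]),
  (nat_lit 0x1000101000001000000000101010100010100000100010000000000000000000001010000010100000000000000000000000000000000, nat_lit 0, [[nat_lit 46, nat_lit 15]], [], [])]

def BK42 : List Ent := [(nat_lit 0x1010000000000000000010100000001000100010001000000000100000100000100000000010001000000000100000000000000010100, nat_lit 99, [[nat_lit 6618, nat_lit 6620, nat_lit 6621, nat_lit 6625, nat_lit 7854, nat_lit 7858, nat_lit 7859, nat_lit 7861, nat_lit 14738, nat_lit 14740, nat_lit 14741, nat_lit 14745, nat_lit 15974, nat_lit 15978, nat_lit 15979, nat_lit 15981]], [nat_lit 10, nat_lit 28, nat_lit 1, nat_lit 44], [nat_lit 3, nat_lit 59, nat_lit 11, nat_lit 6, nat_lit 16, nat_lit 28, nat_lit 48, nat_lit 5816, nat_lit 1, nat_lit 2, nat_lit 4, nat_lit 12]),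
  (nat_lit 0x1010001000100000000000000000000000000000000000100000101000100010100000000010101010000010100000000000000000000, nat_lit 0, [[nat_lit 7, nat_lit 5]], [], []),
  (nat_lit 0x1000000000100010000000001000000000000000101000001010000000000000000010100000001000100010001000000000100000100, nat_lit 99, [[nat_lit 6448, nat_lit 6501, nat_lit 6502, nat_lit 6503, nat_lit 7616, nat_lit 7617, nat_lit 7618, nat_lit 7687, nat_lit 14568, nat_lit 14621, nat_lit 14622, nat_lit 14623, nat_lit 15736, nat_lit 15737, nat_lit 15738, nat_lit 15807]], [nat_lit 33, nat_lit 4, nat_lit 47, nat_lit 49], [nat_lit 9, nat_lit 7, nat_lit 3, nat_lit 1, nat_lit 11, nat_lit 17, nat_lit 2, nat_lit 4, nat_lit 5, nat_lit 6, nat_lit 8, nat_lit 5816]),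
  (nat_lit 0x100010001010000010100010001000001000101000001000000000000000000010100000100010000000000000000, nat_lit 0, [[nat_lit 40, nat_lit 17]], [], []),
  (nat_lit 0x100010001010000010100010001000001000101000001000000000000000001000001010001000000000000000000, nat_lit 99, [[nat_lit 4076, nat_lit 4283, nat_lit 4335, nat_lit 4782, nat_lit 4857, nat_lit 5018, nat_lit 5245, nat_lit 5367, nat_lit 5394, nat_lit 5527, nat_lit 5550, nat_lit 5614, nat_lit 5638, nat_lit 5702, nat_lit 5739, nat_lit 5761, nat_lit 12196, nat_lit 12403, nat_lit 12455, nat_lit 12902, nat_lit 12977, nat_lit 13138, nat_lit 13365, nat_lit 13487, nat_lit 13514, nat_lit 13647, nat_lit 13670, nat_lit 13734, nat_lit 13758, nat_lit 13822, nat_lit 13859, nat_lit 13881]], [nat_lit 12, nat_lit 28, nat_lit 35, nat_lit 24, nat_lit 9], [nat_lit 7, nat_lit 18, nat_lit 13, nat_lit 29, nat_lit 3, nat_lit 5, nat_lit 6, nat_lit 1, nat_lit 4, nat_lit 2, nat_lit 8]),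
  (nat_lit 0x1010001000100000000000000000000000000000000000001010000010001010100000000010101010000010100000000000000000000, nat_lit 0, [[nat_lit 60, nat_lit 6]], [], []),
  (nat_lit 0x101010100000000010100000101000100010001010000000000000000000100010000010100, nat_lit 0, [[nat_lit 40, nat_lit 17]], [], []),
  (nat_lit 0x10001000001010000000000010101010100000101000100000000000000000001010000010100000000000000000000, nat_lit 0, [[nat_lit 40, nat_lit 17]], [], []),
  (nat_lit 0x100000100010100010000000100000001000000000000010000010000000100010001000000000000000000000100010000000101000000, nat_lit 99, [[nat_lit 4082, nat_lit 4524, nat_lit 4525, nat_lit 5020, nat_lit 5256, nat_lit 5300, nat_lit 5449, nat_lit 5520, nat_lit 12202, nat_lit 12644, nat_lit 12645, nat_lit 13140, nat_lit 13376, nat_lit 13420, nat_lit 13569, nat_lit 13640]], [nat_lit 50, nat_lit 29, nat_lit 43, nat_lit 23], [nat_lit 6, nat_lit 12, nat_lit 21, nat_lit 30, nat_lit 5, nat_lit 9, nat_lit 20, nat_lit 10, nat_lit 2, nat_lit 3, nat_lit 1, nat_lit 1896]),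
  (nat_lit 0x1000100010100000000000000000000010001010000010000000000000000000000000000000000000101010100000101000001010000, nat_lit 0, [[nat_lit 41, nat_lit 37]], [], []),
  (nat_lit 0x1000001000100010100010000010100010101010000000000000000000000000000010101010000, nat_lit 0, [[nat_lit 43, nat_lit 28]], [], []),
  (nat_lit 0x10001000001010000000000010101010001010000010001000000000000000001010000010100000000000000000000, nat_lit 0, [[nat_lit 19, nat_lit 1]], [], []),
  (nat_lit 0x100000001000000010000000000000101000000000100000001000100000000000101000000000000000001010000000100010000010001, nat_lit 99, [[nat_lit 2667, nat_lit 2668, nat_lit 2669, nat_lit 2670, nat_lit 3929, nat_lit 3930, nat_lit 3931, nat_lit 3932, nat_lit 10787, nat_lit 10788, nat_lit 10789, nat_lit 10790, nat_lit 12049, nat_lit 12050, nat_lit 12051, nat_lit 12052]], [nat_lit 40, nat_lit 7, nat_lit 55, nat_lit 12], [nat_lit 11, nat_lit 10, nat_lit 16, nat_lit 3, nat_lit 4, nat_lit 18, nat_lit 12, nat_lit 1, nat_lit 5, nat_lit 9, nat_lit 13, nat_lit 1756]),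
  (nat_lit 0x1000001000000000000000100000100000000010001000000000101000000000101000001010000000100000000010000000100010000, nat_lit 99, [[nat_lit 393, nat_lit 484, nat_lit 771, nat_lit 1138, nat_lit 1207, nat_lit 1464, nat_lit 1720, nat_lit 1753, nat_lit 8513, nat_lit 8604, nat_lit 8891, nat_lit 9258, nat_lit 9327, nat_lit 9584, nat_lit 9840, nat_lit 9873]], [nat_lit 13, nat_lit 43, nat_lit 17, nat_lit 28], [nat_lit 125, nat_lit 30, nat_lit 32, nat_lit 16, nat_lit 12, nat_lit 18, nat_lit 1, nat_lit 2, nat_lit 4, nat_lit 7, nat_lit 3, nat_lit 13]),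
  (nat_lit 0x10000010000010001000001000100000001000001000000010001000000000000010000000101000100000000000000000001000100, nat_lit 99, [[nat_lit 6757, nat_lit 6758, nat_lit 6770, nat_lit 6771, nat_lit 8021, nat_lit 8022, nat_lit 8048, nat_lit 8049, nat_lit 14877, nat_lit 14878, nat_lit 14890, nat_lit 14891, nat_lit 16141, nat_lit 16142, nat_lit 16168, nat_lit 16169]], [nat_lit 53, nat_lit 47, nat_lit 3, nat_lit 36], [nat_lit 1, nat_lit 7, nat_lit 3, nat_lit 9, nat_lit 18, nat_lit 4, nat_lit 13, nat_lit 1896, nat_lit 5, nat_lit 2, nat_lit 8, nat_lit 5816]),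
  (nat_lit 0x100000000000100000100010001000100000001000001000000000100010000000000010000000101000100000000000001010000000000, nat_lit 99, [[nat_lit 4238, nat_lit 4243, nat_lit 4521, nat_lit 4558, nat_lit 4658, nat_lit 4804, nat_lit 4974, nat_lit 5066, nat_lit 12358, nat_lit 12363, nat_lit 12641, nat_lit 12678, nat_lit 12778, nat_lit 12924, nat_lit 13094, nat_lit 13186]], [nat_lit 36, nat_lit 26, nat_lit 16, nat_lit 13], [nat_lit 16, nat_lit 55, nat_lit 15, nat_lit 2, nat_lit 4, nat_lit 18, nat_lit 10, nat_lit 8, nat_lit 7, nat_lit 3, nat_lit 6, nat_lit 9]),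
  (nat_lit 0x100010000010100000000000101010100000000000000000101000000000101000000000000000000000000000000000100000100010001, nat_lit 0, [[nat_lit 13, nat_lit 1]], [], []),
  (nat_lit 0x101010101000001010001000101000000000101000000000000000001000100010000010000000000000000, nat_lit 0, [[nat_lit 41, nat_lit 24]], [], []),
  (nat_lit 0x10100000000010101010000010100000100010001000001000000000000000001000100000101000000000000000000, nat_lit 0, [[nat_lit 40, nat_lit 17]], [], []),
  (nat_lit 0x100010000000000010000000100000000010000010000000001000100000001000001000000010001000100010100000001000000, nat_lit 99, [[nat_lit 4074, nat_lit 4236, nat_lit 4247, nat_lit 4539, nat_lit 4697, nat_lit 4741, nat_lit 4996, nat_lit 5345, nat_lit 12194, nat_lit 12356, nat_lit 12367, nat_lit 12659, nat_lit 12817, nat_lit 12861, nat_lit 13116, nat_lit 13465]], [nat_lit 32, nat_lit 18, nat_lit 52, nat_lit 7], [nat_lit 29, nat_lit 15, nat_lit 2, nat_lit 20, nat_lit 6, nat_lit 3, nat_lit 5, nat_lit 9, nat_lit 7, nat_lit 1, nat_lit 4, nat_lit 1896]),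
  (nat_lit 0x101010100010100000100010101000000000101000000000000000001000100010000010000000000000000, nat_lit 0, [[nat_lit 40, nat_lit 17]], [], []),
  (nat_lit 0x1000100000000000000000001000100010000000000010001000100010001000100000001000000000001000100000000000100000001, nat_lit 99, [[nat_lit 2478, nat_lit 2483, nat_lit 3648, nat_lit 3649, nat_lit 3652, nat_lit 3653, nat_lit 3678, nat_lit 3679, nat_lit 10598, nat_lit 10603, nat_lit 11768, nat_lit 11769, nat_lit 11772, nat_lit 11773, nat_lit 11798, nat_lit 11799]], [nat_lit 0, nat_lit 26, nat_lit 40, nat_lit 10], [nat_lit 14, nat_lit 16, nat_lit 32, nat_lit 2, nat_lit 30, nat_lit 8, nat_lit 69, nat_lit 1757, nat_lit 1, nat_lit 3, nat_lit 4, nat_lit 12]),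
  (nat_lit 0x100010001000001000101000100010000000000000000000101010100000000000000000000000000000000000000000000010100000101, nat_lit 0, [[nat_lit 21, nat_lit 6]], [], []),
  (nat_lit 0x100000001010001000000000001000001000000000000000101000000000101000100000100000001000001000001000000000100, nat_lit 99, [[nat_lit 7482, nat_lit 7483, nat_lit 7484, nat_lit 7485, nat_lit 7548, nat_lit 7549, nat_lit 7550, nat_lit 7551, nat_lit 15602, nat_lit 15603, nat_lit 15604, nat_lit 15605, nat_lit 15668, nat_lit 15669, nat_lit 15670, nat_lit 15671]], [nat_lit 45, nat_lit 12, nat_lit 52, nat_lit 6], [nat_lit 17, nat_lit 33, nat_lit 6, nat_lit 5, nat_lit 7, nat_lit 1, nat_lit 3, nat_lit 4, nat_lit 2, nat_lit 10, nat_lit 12, nat_lit 5816]),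
  (nat_lit 0x101000000000101010100000101000000010001000101000000000000000000010001000001010000000000000000000000000000000000, nat_lit 0, [[nat_lit 54, nat_lit 12]], [], []),
  (nat_lit 0x1010101000000000000000001010000000001010000000000000000000000000000000000010100010001000001000101000001, nat_lit 0, [[nat_lit 31, nat_lit 19]], [], []),
  (nat_lit 0x100000001000100010000000000000000000100010001000000000001010001000100010000010000000100000000000100010000, nat_lit 99, [[nat_lit 52, nat_lit 127, nat_lit 355, nat_lit 720, nat_lit 1092, nat_lit 1223, nat_lit 1254, nat_lit 1625, nat_lit 8172, nat_lit 8247, nat_lit 8475, nat_lit 8840, nat_lit 9212, nat_lit 9343, nat_lit 9374, nat_lit 9745]], [nat_lit 23, nat_lit 48, nat_lit 24, nat_lit 34], [nat_lit 174, nat_lit 6, nat_lit 3, nat_lit 10, nat_lit 16, nat_lit 4, nat_lit 15, nat_lit 2, nat_lit 5, nat_lit 9, nat_lit 12, nat_lit 1]),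
  (nat_lit 0x1000000000001000101000100000100000100000000010000010001000000000100000100000000000000010000010001010000000000, nat_lit 99, [[nat_lit 4063, nat_lit 4286, nat_lit 4730, nat_lit 4830, nat_lit 4984, nat_lit 5022, nat_lit 5694, nat_lit 5753, nat_lit 12183, nat_lit 12406, nat_lit 12850, nat_lit 12950, nat_lit 13104, nat_lit 13142, nat_lit 13814, nat_lit 13873]], [nat_lit 5, nat_lit 54, nat_lit 43, nat_lit 22], [nat_lit 34, nat_lit 18, nat_lit 31, nat_lit 13, nat_lit 30, nat_lit 20, nat_lit 1, nat_lit 9, nat_lit 7, nat_lit 4, nat_lit 2, nat_lit 5])]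

def BK43 : List Ent := [(nat_lit 0x100000001000000000100000000010000010000010000000000000000010100000101000000000000010000000000010001000101000100, nat_lit 99, [[nat_lit 5847, nat_lit 5848, nat_lit 5849, nat_lit 5856, nat_lit 6861, nat_lit 6872, nat_lit 6873, nat_lit 6874, nat_lit 13967, nat_lit 13968, nat_lit 13969, nat_lit 13976, nat_lit 14981, nat_lit 14992, nat_lit 14993, nat_lit 14994]], [nat_lit 22, nat_lit 41, nat_lit 25, nat_lit 14], [nat_lit 25, nat_lit 5, nat_lit 10, nat_lit 1, nat_lit 2, nat_lit 3, nat_lit 4, nat_lit 6, nat_lit 7, nat_lit 13, nat_lit 1896, nat_lit 5816]),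
  (nat_lit 0x101000000000100010100010000000001000001000001000000000100000100000100000000010001000000000000000001000100, nat_lit 99, [[nat_lit 6760, nat_lit 6763, nat_lit 6768, nat_lit 6769, nat_lit 8024, nat_lit 8027, nat_lit 8040, nat_lit 8041, nat_lit 14880, nat_lit 14883, nat_lit 14888, nat_lit 14889, nat_lit 16144, nat_lit 16147, nat_lit 16160, nat_lit 16161]], [nat_lit 25, nat_lit 12, nat_lit 36, nat_lit 51], [nat_lit 7, nat_lit 4, nat_lit 8, nat_lit 11, nat_lit 2, nat_lit 5, nat_lit 3, nat_lit 13, nat_lit 1, nat_lit 12, nat_lit 1896, nat_lit 5816]),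
  (nat_lit 0x1000001000000000100010000000001000001000000000000010000010000000101000100000100000001000001000000010001000000, nat_lit 99, [[nat_lit 4634, nat_lit 4765, nat_lit 5123, nat_lit 5167, nat_lit 5629, nat_lit 5690, nat_lit 5747, nat_lit 5779, nat_lit 12754, nat_lit 12885, nat_lit 13243, nat_lit 13287, nat_lit 13749, nat_lit 13810, nat_lit 13867, nat_lit 13899]], [nat_lit 9, nat_lit 46, nat_lit 54, nat_lit 26], [nat_lit 30, nat_lit 3, nat_lit 4, nat_lit 2, nat_lit 5, nat_lit 7, nat_lit 1, nat_lit 9, nat_lit 10, nat_lit 12, nat_lit 13, nat_lit 1896]),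
  (nat_lit 0x10001000000000100000100000000010001000000000100000100000000000001000001000000010100010000010000000100000100, nat_lit 99, [[nat_lit 6471, nat_lit 6472, nat_lit 6473, nat_lit 6474, nat_lit 7653, nat_lit 7654, nat_lit 7655, nat_lit 7656, nat_lit 14591, nat_lit 14592, nat_lit 14593, nat_lit 14594, nat_lit 15773, nat_lit 15774, nat_lit 15775, nat_lit 15776]], [nat_lit 36, nat_lit 1, nat_lit 14, nat_lit 28], [nat_lit 30, nat_lit 77, nat_lit 59, nat_lit 44, nat_lit 12, nat_lit 25, nat_lit 16, nat_lit 5816, nat_lit 13, nat_lit 1, nat_lit 2, nat_lit 3]),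
  (nat_lit 0x100010000010100000000000000000000000000000000000000010101010000010100000101000000010001000101000000000000000000, nat_lit 0, [[nat_lit 8, nat_lit 2]], [], []),
  (nat_lit 0x10101010000000000000000000000000000000000000001010001000100000100010100000101010101000000000000000000000000, nat_lit 0, [[nat_lit 39, nat_lit 9]], [], []),
  (nat_lit 0x10000010100010000000000000000000000000000000000000100010001010000010100010001000100010000010100, nat_lit 0, [[nat_lit 40, nat_lit 17]], [], []),
  (nat_lit 0x100000000000100010001000100010000010000000100000100000000000001000100000100000001000100000000000000000000010001, nat_lit 99, [[nat_lit 2701, nat_lit 2702, nat_lit 3965, nat_lit 3966, nat_lit 3982, nat_lit 3983, nat_lit 3984, nat_lit 3985, nat_lit 10821, nat_lit 10822, nat_lit 12085, nat_lit 12086, nat_lit 12102, nat_lit 12103, nat_lit 12104, nat_lit 12105]], [nat_lit 45, nat_lit 22, nat_lit 31, nat_lit 2], [nat_lit 39, nat_lit 35, nat_lit 9, nat_lit 3, nat_lit 7, nat_lit 15, nat_lit 5, nat_lit 4, nat_lit 1, nat_lit 2, nat_lit 8,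 nat_lit 1756]),
  (nat_lit 0x100010000000000000101000000000000000100000100000100010000010001010000000100000000000001000100000000010000000100, nat_lit 99, [[nat_lit 6522, nat_lit 6523, nat_lit 6530, nat_lit 6531, nat_lit 7722, nat_lit 7727, nat_lit 7732, nat_lit 7733, nat_lit 14642, nat_lit 14643, nat_lit 14650, nat_lit 14651, nat_lit 15842, nat_lit 15847, nat_lit 15852, nat_lit 15853]], [nat_lit 53, nat_lit 34, nat_lit 46, nat_lit 31], [nat_lit 4, nat_lit 31, nat_lit 13, nat_lit 25, nat_lit 1, nat_lit 8, nat_lit 2, nat_lit 6, nat_lit 5, nat_lit 3, nat_lit 9, nat_lit 5816]),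
  (nat_lit 0x1010000010100000100010001000001000101000100010000000000000000000101010100000000, nat_lit 0, [[nat_lit 43, nat_lit 3]], [], []),
  (nat_lit 0x10001000000000001000000010000000000000101000000000000010001000000010100000000010001000100010001000000010000, nat_lit 99, [[nat_lit 538, nat_lit 700, nat_lit 751, nat_lit 831, nat_lit 864, nat_lit 892, nat_lit 1572, nat_lit 1692, nat_lit 8658, nat_lit 8820, nat_lit 8871, nat_lit 8951, nat_lit 8984, nat_lit 9012, nat_lit 9692, nat_lit 9812]], [nat_lit 6, nat_lit 33, nat_lit 10, nat_lit 24], [nat_lit 6, nat_lit 26, nat_lit 28, nat_lit 3, nat_lit 12, nat_lit 2, nat_lit 9, nat_lit 8, nat_lit 4, nat_lit 5, nat_lit 7, nat_lit 1]),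
  (nat_lit 0x100000000000100000101000001010000010000000100000100000000000001000000010000000100010001000000000001010000000000, nat_lit 99, [[nat_lit 4326, nat_lit 4450, nat_lit 4552, nat_lit 4770, nat_lit 4908, nat_lit 5116, nat_lit 5145, nat_lit 5253, nat_lit 12446, nat_lit 12570, nat_lit 12672, nat_lit 12890, nat_lit 13028, nat_lit 13236, nat_lit 13265, nat_lit 13373]], [nat_lit 41, nat_lit 16, nat_lit 49, nat_lit 14], [nat_lit 63, nat_lit 3, nat_lit 8, nat_lit 28, nat_lit 34, nat_lit 29, nat_lit 5, nat_lit 6, nat_lit 2, nat_lit 1, nat_lit 4, nat_lit 9]),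
  (nat_lit 0x100010000000000010000010000000000000001010000000001010001000001000000010000010000010000000001000000000100000001, nat_lit 99, [[nat_lit 2451, nat_lit 2456, nat_lit 3639, nat_lit 3644, nat_lit 3684, nat_lit 3685, nat_lit 3690, nat_lit 3691, nat_lit 10571, nat_lit 10576, nat_lit 11759, nat_lit 11764, nat_lit 11804, nat_lit 11805, nat_lit 11810, nat_lit 11811]], [nat_lit 20, nat_lit 53, nat_lit 4, nat_lit 30], [nat_lit 31, nat_lit 10, nat_lit 8, nat_lit 2, nat_lit 13, nat_lit 12, nat_lit 3, nat_lit 1, nat_lit 4, nat_lit 5, nat_lit 6, nat_lit 1756]),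
  (nat_lit 0x1000001010001000101000000000101000001010000010100000000000000000100000100010001, nat_lit 0, [[nat_lit 40, nat_lit 17]], [], []),
  (nat_lit 0x101010100000000000000000000000000000000000000000000010100000101000100010001010001000001000100010000000000000000, nat_lit 0, [[nat_lit 43, nat_lit 28]], [], []),
  (nat_lit 0x10101010000000000000000000001000100010000010000000000000000000000000000000000000000010101010100000101000100, nat_lit 0, [[nat_lit 31, nat_lit 27]], [], []),
  (nat_lit 0x10101010000000000000000000001000100010000010000000000000000000000000000000000000000010101010001010000010001, nat_lit 0, [[nat_lit 25, nat_lit 12]], [], []),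
  (nat_lit 0x1000000010000000000010001000000000001000000010001000100000000000000000001000100010000000000010100010001000100, nat_lit 99, [[nat_lit 5817, nat_lit 5818, nat_lit 5819, nat_lit 5828, nat_lit 5829, nat_lit 5830, nat_lit 6843, nat_lit 6852, nat_lit 13937, nat_lit 13938, nat_lit 13939, nat_lit 13948, nat_lit 13949, nat_lit 13950, nat_lit 14963, nat_lit 14972]], [nat_lit 32, nat_lit 14, nat_lit 16, nat_lit 44], [nat_lit 10, nat_lit 29, nat_lit 4, nat_lit 2, nat_lit 12, nat_lit 6, nat_lit 3, nat_lit 5, nat_lit 7, nat_lit 9, nat_lit 1896, nat_lit 5816]),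
  (nat_lit 0x10000000100000000000001010000000000000100010000000101000000000100010001000100010000000100000000010001000000, nat_lit 99, [[nat_lit 4081, nat_lit 4211, nat_lit 4719, nat_lit 4967, nat_lit 5012, nat_lit 5138, nat_lit 5529, nat_lit 5671, nat_lit 12201, nat_lit 12331, nat_lit 12839, nat_lit 13087, nat_lit 13132, nat_lit 13258, nat_lit 13649, nat_lit 13791]], [nat_lit 49, nat_lit 28, nat_lit 34, nat_lit 22], [nat_lit 12, nat_lit 19, nat_lit 15, nat_lit 6, nat_lit 13, nat_lit 20, nat_lit 2, nat_lit 4, nat_lit 5, nat_lit 3, nat_lit 9, nat_lit 1896]),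
  (nat_lit 0x10100010000010000000000010000000000010100010000010001000100000001000000000001000100000000010000000100, nat_lit 99, [[nat_lit 6115, nat_lit 6116, nat_lit 6122, nat_lit 6123, nat_lit 7235, nat_lit 7236, nat_lit 7244, nat_lit 7245, nat_lit 14235, nat_lit 14236, nat_lit 14242, nat_lit 14243, nat_lit 15355, nat_lit 15356, nat_lit 15364, nat_lit 15365]], [nat_lit 44, nat_lit 26, nat_lit 10, nat_lit 5], [nat_lit 14, nat_lit 21, nat_lit 28, nat_lit 47, nat_lit 4, nat_lit 2, nat_lit 1, nat_lit 17, nat_lit 3, nat_lit 6, nat_lit 12, nat_lit 5816]),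
  (nat_lit 0x1000001000100010001000101000001010101010000000000000000000000000101000000000101, nat_lit 0, [[nat_lit 43, nat_lit 28]], [], []),
  (nat_lit 0x10100000100010101000000000101000001010000010100000000000000000100000100010001, nat_lit 0, [[nat_lit 11, nat_lit 3]], [], []),
  (nat_lit 0x10100000000000001000101000000000001000100000100010100010000000100000000000100010000000001000001000000, nat_lit 99, [[nat_lit 4160, nat_lit 4714, nat_lit 4916, nat_lit 5131, nat_lit 5366, nat_lit 5368, nat_lit 5565, nat_lit 5805, nat_lit 12280, nat_lit 12834, nat_lit 13036, nat_lit 13251, nat_lit 13486, nat_lit 13488, nat_lit 13685, nat_lit 13925]], [nat_lit 33, nat_lit 6, nat_lit 42, nat_lit 25], [nat_lit 17, nat_lit 5, nat_lit 6, nat_lit 7, nat_lit 9, nat_lit 20, nat_lit 10, nat_lit 1, nat_lit 3, nat_lit 2, nat_lit 4, nat_lit 1896]),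
  (nat_lit 0x10000010000010001000001000101000000010000000000000100010000000001000000010001000100000000000001010000000000, nat_lit 99, [[nat_lit 4308, nat_lit 4599, nat_lit 4992, nat_lit 5071, nat_lit 5182, nat_lit 5436, nat_lit 5518, nat_lit 5612, nat_lit 12428, nat_lit 12719, nat_lit 13112, nat_lit 13191, nat_lit 13302, nat_lit 13556, nat_lit 13638, nat_lit 13732]], [nat_lit 17, nat_lit 45, nat_lit 13, nat_lit 50], [nat_lit 44, nat_lit 5, nat_lit 1, nat_lit 6, nat_lit 15, nat_lit 2, nat_lit 4, nat_lit 20, nat_lit 10, nat_lit 8, nat_lit 3, nat_lit 9]),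
  (nat_lit 0x1000000000100000000010000000100000000000101000001010000000000010000000000010001000001000101000000010000000001, nat_lit 99, [[nat_lit 2400, nat_lit 2425, nat_lit 3576, nat_lit 3577, nat_lit 3578, nat_lit 3611, nat_lit 3612, nat_lit 3613, nat_lit 10520, nat_lit 10545, nat_lit 11696, nat_lit 11697, nat_lit 11698, nat_lit 11731, nat_lit 11732, nat_lit 11733]], [nat_lit 17, nat_lit 15, nat_lit 5, nat_lit 30], [nat_lit 55, nat_lit 17, nat_lit 28, nat_lit 6, nat_lit 12, nat_lit 8, nat_lit 16, nat_lit 21, nat_lit 1, nat_lit 3, nat_lit 4, nat_lit 1756]),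
  (nat_lit 0x100000100000000000100000000000100010001010001000001000000010000000000010001000000000100000001000000000000010100, nat_lit 99, [[nat_lit 6600, nat_lit 6649, nat_lit 7826, nat_lit 7827, nat_lit 7828, nat_lit 7881, nat_lit 7882, nat_lit 7883, nat_lit 14720, nat_lit 14769, nat_lit 15946, nat_lit 15947, nat_lit 15948, nat_lit 16001, nat_lit 16002, nat_lit 16003]], [nat_lit 35, nat_lit 9, nat_lit 30, nat_lit 20], [nat_lit 56, nat_lit 13, nat_lit 34, nat_lit 29, nat_lit 15, nat_lit 5, nat_lit 6, nat_lit 1, nat_lit 2, nat_lit 3, nat_lit 4, nat_lit 5816]),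
  (nat_lit 0x101000001000100000000000000000000000000000000000100010001010000010100010001000100010000010100, nat_lit 99, [[nat_lit 5970, nat_lit 5975, nat_lit 6560, nat_lit 6565, nat_lit 6695, nat_lit 6696, nat_lit 7040, nat_lit 7045, nat_lit 7172, nat_lit 7173, nat_lit 7180, nat_lit 7181, nat_lit 7760, nat_lit 7769, nat_lit 7937, nat_lit 7938, nat_lit 14090, nat_lit 14095, nat_lit 14680, nat_lit 14685, nat_lit 14815, nat_lit 14816, nat_lit 15160, nat_lit 15165, nat_lit 15292, nat_lit 15293, nat_lit 15300, nat_lit 15301, nat_lit 15880, nat_lit 15889, nat_lit 16057, nat_lit 16058]], [nat_lit 18, nat_lit 11, nat_lit 42, nat_lit 17, nat_lit 13], [nat_lit 71, nat_lit 2, nat_lit 3, nat_lit 1, nat_lit 5, nat_lit 6, nat_lit 8, nat_lit 4, nat_lit 9, nat_lit 12, nat_lit 5816]),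
  (nat_lit 0x100000100010000000000000100000100000001000000000001000001010000010000000000010000000000010100000100010100, nat_lit 99, [[nat_lit 6663, nat_lit 6664, nat_lit 6665, nat_lit 6676, nat_lit 7901, nat_lit 7908, nat_lit 7909, nat_lit 7910, nat_lit 14783, nat_lit 14784, nat_lit 14785, nat_lit 14796, nat_lit 16021, nat_lit 16028, nat_lit 16029, nat_lit 16030]], [nat_lit 33, nat_lit 2, nat_lit 20, nat_lit 14], [nat_lit 5, nat_lit 14, nat_lit 6, nat_lit 13, nat_lit 4, nat_lit 12, nat_lit 20, nat_lit 1, nat_lit 3, nat_lit 2, nat_lit 7, nat_lit 5816]),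
  (nat_lit 0x1000100000000000000000001000100010000000000010100010001000100000100000001000000000001000100000000000100000001, nat_lit 99, [[nat_lit 2048, nat_lit 2051, nat_lit 2068, nat_lit 2069, nat_lit 3164, nat_lit 3167, nat_lit 3194, nat_lit 3195, nat_lit 10168, nat_lit 10171, nat_lit 10188, nat_lit 10189, nat_lit 11284, nat_lit 11287, nat_lit 11314, nat_lit 11315]], [nat_lit 22, nat_lit 40, nat_lit 0, nat_lit 52], [nat_lit 12, nat_lit 61, nat_lit 20, nat_lit 22, nat_lit 45, nat_lit 1756, nat_lit 3, nat_lit 4, nat_lit 5, nat_lit 7, nat_lit 1, nat_lit 2]),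
  (nat_lit 0x1000000000001000100010100010001000000010000000001000000000100000100000100000000000000000101000001010000000000, nat_lit 99, [[nat_lit 4234, nat_lit 4689, nat_lit 4710, nat_lit 4791, nat_lit 4848, nat_lit 4923, nat_lit 5068, nat_lit 5457, nat_lit 12354, nat_lit 12809, nat_lit 12830, nat_lit 12911, nat_lit 12968, nat_lit 13043, nat_lit 13188, nat_lit 13577]], [nat_lit 5, nat_lit 39, nat_lit 22, nat_lit 46], [nat_lit 19, nat_lit 27, nat_lit 2, nat_lit 11, nat_lit 15, nat_lit 17, nat_lit 1, nat_lit 8, nat_lit 14, nat_lit 4, nat_lit 5, nat_lit 3]),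
  (nat_lit 0x101000000000101000000000000000000010001000101000000000000000000000000000000000001010101000000000100000101000100, nat_lit 0, [[nat_lit 43, nat_lit 28]], [], []),
  (nat_lit 0x101000000000101000000000000000000010001000101000000000000000000000000000000000001010101000000000001010000010001, nat_lit 0, [[nat_lit 55, nat_lit 15]], [], []),
  (nat_lit 0x10000000001010000000000000100000100000001000001000100000000000101000000000000000100000100000001010001000001, nat_lit 99, [[nat_lit 2002, nat_lit 2005, nat_lit 3086, nat_lit 3087, nat_lit 3088, nat_lit 3095, nat_lit 3096, nat_lit 3097, nat_lit 10122, nat_lit 10125, nat_lit 11206, nat_lit 11207, nat_lit 11208, nat_lit 11215, nat_lit 11216, nat_lit 11217]], [nat_lit 22, nat_lit 0, nat_lit 10, nat_lit 33], [nat_lit 63, nat_lit 20, nat_lit 205, nat_lit 1757, nat_lit 5, nat_lit 6, nat_lit 1, nat_lit 3, nat_lit 2, nat_lit 4, nat_lit 9, nat_lit 1896])]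

def BK44 : List Ent := [(nat_lit 0x100000100000000000001000001000001000001000101000000000100000100000001000100000000010000010000000001000100000000, nat_lit 99, [[nat_lit 204, nat_lit 507, nat_lit 721, nat_lit 997, nat_lit 1295, nat_lit 1317, nat_lit 1724, nat_lit 1741, nat_lit 8324, nat_lit 8627, nat_lit 8841, nat_lit 9117, nat_lit 9415, nat_lit 9437, nat_lit 9844, nat_lit 9861]], [nat_lit 6, nat_lit 11, nat_lit 28, nat_lit 42], [nat_lit 22, nat_lit 69, nat_lit 54, nat_lit 6, nat_lit 3, nat_lit 2, nat_lit 7, nat_lit 12, nat_lit 15, nat_lit 1, nat_lit 4, nat_lit 10]),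
  (nat_lit 0x101010100000000000000000000000000000101010100000000000000000000000000000000000001000001000100010100010000010100, nat_lit 0, [[nat_lit 30, nat_lit 15]], [], []),
  (nat_lit 0x1010101010101010000000000000000, nat_lit 2, [[nat_lit 1706], [nat_lit 4255], [nat_lit 6883], [nat_lit 406], [nat_lit 5983], [nat_lit 7169], [nat_lit 4352], [nat_lit 1919], [nat_lit 383, nat_lit 369], [nat_lit 4619, nat_lit 4606], [nat_lit 4631, nat_lit 4611], [nat_lit 5989, nat_lit 5968]], [], []),
  (nat_lit 0x10000010100010000000000000000000000000000000000010001000100000101000001000100010001000101000001, nat_lit 99, [[nat_lit 1910, nat_lit 1915, nat_lit 2500, nat_lit 2505, nat_lit 2635, nat_lit 2636, nat_lit 2980, nat_lit 2985, nat_lit 3112, nat_lit 3113, nat_lit 3120, nat_lit 3121, nat_lit 3700, nat_lit 3709, nat_lit 3877, nat_lit 3878, nat_lit 10030, nat_lit 10035, nat_lit 10620, nat_lit 10625, nat_lit 10755, nat_lit 10756, nat_lit 11100, nat_lit 11105, nat_lit 11232, nat_lit 11233, nat_lit 11240, nat_lit 11241, nat_lit 11820, nat_lit 11829,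 nat_lit 11997, nat_lit 11998]], [nat_lit 10, nat_lit 4, nat_lit 3, nat_lit 43, nat_lit 12], [nat_lit 27, nat_lit 34, nat_lit 11, nat_lit 1777, nat_lit 1896, nat_lit 9, nat_lit 3, nat_lit 1, nat_lit 2, nat_lit 4, nat_lit 8]),
  (nat_lit 0x100010000010000000001000000000000000101000100000100000000010000000000010001000001000101000000000100000100, nat_lit 99, [[nat_lit 6454, nat_lit 6455, nat_lit 6456, nat_lit 6493, nat_lit 6494, nat_lit 6495, nat_lit 7626, nat_lit 7679, nat_lit 14574, nat_lit 14575, nat_lit 14576, nat_lit 14613, nat_lit 14614, nat_lit 14615, nat_lit 15746, nat_lit 15799]], [nat_lit 12, nat_lit 33, nat_lit 23, nat_lit 52], [nat_lit 24, nat_lit 2, nat_lit 37, nat_lit 20, nat_lit 4, nat_lit 6, nat_lit 5, nat_lit 9, nat_lit 1, nat_lit 3, nat_lit 8, nat_lit 5816]),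
  (nat_lit 0x1000100000000000101000000000001000000000001000001010000010100000100000001000001000000000000010000000100000001, nat_lit 99, [[nat_lit 2494, nat_lit 2497, nat_lit 3630, nat_lit 3631, nat_lit 3634, nat_lit 3635, nat_lit 3694, nat_lit 3697, nat_lit 10614, nat_lit 10617, nat_lit 11750, nat_lit 11751, nat_lit 11754, nat_lit 11755, nat_lit 11814, nat_lit 11817]], [nat_lit 33, nat_lit 0, nat_lit 25, nat_lit 45], [nat_lit 44, nat_lit 54, nat_lit 8, nat_lit 14, nat_lit 30, nat_lit 32, nat_lit 16, nat_lit 1757, nat_lit 1, nat_lit 3, nat_lit 4, nat_lit 12]),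
  (nat_lit 0x1000100010100000101000100010001000100000101000000000000000000000101000001000100000000000000000000000000000000, nat_lit 99, [[nat_lit 20, nat_lit 190, nat_lit 195, nat_lit 558, nat_lit 627, nat_lit 1023, nat_lit 1060, nat_lit 1112, nat_lit 1149, nat_lit 1154, nat_lit 1252, nat_lit 1335, nat_lit 1357, nat_lit 1530, nat_lit 1706, nat_lit 1751, nat_lit 8140, nat_lit 8310, nat_lit 8315, nat_lit 8678, nat_lit 8747, nat_lit 9143, nat_lit 9180, nat_lit 9232, nat_lit 9269, nat_lit 9274, nat_lit 9372, nat_lit 9455, nat_lit 9477, nat_lit 9650, nat_lit 9826, nat_lit 9871]], [nat_lit 18, nat_lit 52, nat_lit 39, nat_lit 46, nat_lit 41], [nat_lit 17, nat_lit 3, nat_lit 11, nat_lit 14, nat_lit 15, nat_lit 16, nat_lit 6, nat_lit 12, nat_lit 2, nat_lit 1, nat_lit 4]),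
  (nat_lit 0x100000000010000000100010000000000010100000000000000000101000000010001000001000101000000010000000100000000000001, nat_lit 99, [[nat_lit 2236, nat_lit 2237, nat_lit 2238, nat_lit 2239, nat_lit 3384, nat_lit 3385, nat_lit 3386, nat_lit 3387, nat_lit 10356, nat_lit 10357, nat_lit 10358, nat_lit 10359, nat_lit 11504, nat_lit 11505, nat_lit 11506, nat_lit 11507]], [nat_lit 15, nat_lit 7, nat_lit 27, nat_lit 37], [nat_lit 14, nat_lit 26, nat_lit 27, nat_lit 30, nat_lit 15, nat_lit 5, nat_lit 9, nat_lit 6, nat_lit 1, nat_lit 3, nat_lit 2, nat_lit 1756]),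
  (nat_lit 0x100000100000001000100000000010000010000000001000100000000010000010000000000000100000100000001010001000001, nat_lit 99, [[nat_lit 1932, nat_lit 1933, nat_lit 1934, nat_lit 1939, nat_lit 2996, nat_lit 3001, nat_lit 3002, nat_lit 3003, nat_lit 10052, nat_lit 10053, nat_lit 10054, nat_lit 10059, nat_lit 11116, nat_lit 11121, nat_lit 11122, nat_lit 11123]], [nat_lit 30, nat_lit 45, nat_lit 35, nat_lit 6], [nat_lit 8, nat_lit 15, nat_lit 14, nat_lit 13, nat_lit 4, nat_lit 1, nat_lit 2, nat_lit 10, nat_lit 3, nat_lit 9, nat_lit 1756, nat_lit 1896]),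
  (nat_lit 0x1000100010100000101000100010001000100000101000000000000000000010000010100010000000000000000000000000000000000, nat_lit 0, [[nat_lit 55, nat_lit 15]], [], []),
  (nat_lit 0x100010000000100000100000000010001000000000000000000010001010000000000010000010100000101000000000100000100, nat_lit 99, [[nat_lit 6452, nat_lit 6497, nat_lit 6498, nat_lit 6499, nat_lit 7620, nat_lit 7621, nat_lit 7622, nat_lit 7683, nat_lit 14572, nat_lit 14617, nat_lit 14618, nat_lit 14619, nat_lit 15740, nat_lit 15741, nat_lit 15742, nat_lit 15803]], [nat_lit 26, nat_lit 38, nat_lit 52, nat_lit 4], [nat_lit 48, nat_lit 74, nat_lit 19, nat_lit 25, nat_lit 5, nat_lit 7, nat_lit 2, nat_lit 6, nat_lit 3, nat_lit 1, nat_lit 4, nat_lit 5816]),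
  (nat_lit 0x100010000000000000000000100010000010000000000010001010000010100000001000000000100000100010000000100000000010000, nat_lit 99, [[nat_lit 262, nat_lit 758, nat_lit 916, nat_lit 976, nat_lit 990, nat_lit 1046, nat_lit 1204, nat_lit 1663, nat_lit 8382, nat_lit 8878, nat_lit 9036, nat_lit 9096, nat_lit 9110, nat_lit 9166, nat_lit 9324, nat_lit 9783]], [nat_lit 43, nat_lit 38, nat_lit 7, nat_lit 21], [nat_lit 47, nat_lit 18, nat_lit 27, nat_lit 6, nat_lit 41, nat_lit 15, nat_lit 1, nat_lit 7, nat_lit 4, nat_lit 9, nat_lit 2, nat_lit 5]),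
  (nat_lit 0x1010000000000010000000000010001000001010000010001000000010000010000000000000100000001000000010001000100000000, nat_lit 99, [[nat_lit 164, nat_lit 839, nat_lit 840, nat_lit 875, nat_lit 1105, nat_lit 1237, nat_lit 1501, nat_lit 1518, nat_lit 8284, nat_lit 8959, nat_lit 8960, nat_lit 8995, nat_lit 9225, nat_lit 9357, nat_lit 9621, nat_lit 9638]], [nat_lit 8, nat_lit 53, nat_lit 41, nat_lit 16], [nat_lit 2, nat_lit 8, nat_lit 22, nat_lit 5, nat_lit 14, nat_lit 9, nat_lit 12, nat_lit 6, nat_lit 4, nat_lit 3, nat_lit 1, nat_lit 10]),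
  (nat_lit 0x100000101000100000001010101000000000101000001010000000000000000000101000100010000000000000000000000000000000000, nat_lit 0, [[nat_lit 31, nat_lit 18]], [], []),
  (nat_lit 0x10101010100000101000100010100000000010100000000000000000001000100010100, nat_lit 0, [[nat_lit 14, nat_lit 5]], [], []),
  (nat_lit 0x1000100010000010001010001000100010001000001010000000000000000000100000101000100, nat_lit 99, [[nat_lit 5921, nat_lit 5924, nat_lit 6716, nat_lit 6721, nat_lit 6810, nat_lit 6811, nat_lit 6878, nat_lit 6879, nat_lit 6884, nat_lit 6885, nat_lit 6961, nat_lit 6968, nat_lit 7972, nat_lit 7981, nat_lit 8090, nat_lit 8091, nat_lit 14041, nat_lit 14044, nat_lit 14836, nat_lit 14841, nat_lit 14930, nat_lit 14931, nat_lit 14998, nat_lit 14999, nat_lit 15004, nat_lit 15005, nat_lit 15081, nat_lit 15088, nat_lit 16092, nat_lit 16101, nat_lit 16210, nat_lit 16211]], [nat_lit 32, nat_lit 23, nat_lit 4, nat_lit 35, nat_lit 3], [nat_lit 4, nat_lit 49, nat_lit 44, nat_lit 1899, nat_lit 2, nat_lit 1, nat_lit 3, nat_lit 6, nat_lit 5,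 nat_lit 10, nat_lit 5816]),
  (nat_lit 0x1000100010000010001010001000100010001000001010000000000000000000001010000010001, nat_lit 0, [[nat_lit 14, nat_lit 12]], [], []),
  (nat_lit 0x101000001010000000100010001010001000001000100010000000000000000010101010000000000000000000000000000000000000000, nat_lit 0, [[nat_lit 68, nat_lit 34]], [], []),
  (nat_lit 0x101000100010000010001010000010000000001010101000000000000000001010000000001010000000000000000, nat_lit 0, [[nat_lit 25, nat_lit 5]], [], []),
  (nat_lit 0x10101010001010000010001010100000000010100000000000000000001000100010100, nat_lit 0, [[nat_lit 10, nat_lit 4]], [], []),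
  (nat_lit 0x1000101000100000001000000000100010000000001000001000001000000000000000100000100000000000100010100000000000100, nat_lit 99, [[nat_lit 6222, nat_lit 6223, nat_lit 6225, nat_lit 6261, nat_lit 7357, nat_lit 7390, nat_lit 7391, nat_lit 7393, nat_lit 14342, nat_lit 14343, nat_lit 14345, nat_lit 14381, nat_lit 15477, nat_lit 15510, nat_lit 15511, nat_lit 15513]], [nat_lit 45, nat_lit 7, nat_lit 54, nat_lit 33], [nat_lit 6, nat_lit 22, nat_lit 14, nat_lit 1, nat_lit 13, nat_lit 2, nat_lit 4, nat_lit 10, nat_lit 3, nat_lit 5, nat_lit 7, nat_lit 5816]),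
  (nat_lit 0x101000001000100000000000000000000000000000000010001000100000101000001000100010001000101000001, nat_lit 0, [[nat_lit 29, nat_lit 6]], [], []),
  (nat_lit 0x10000010000000101000100000101000000010000000000000100010000010000000001000000010001000000000000000000010001, nat_lit 99, [[nat_lit 1822, nat_lit 1825, nat_lit 1842, nat_lit 1843, nat_lit 2850, nat_lit 2853, nat_lit 2872, nat_lit 2873, nat_lit 9942, nat_lit 9945, nat_lit 9962, nat_lit 9963, nat_lit 10970, nat_lit 10973, nat_lit 10992, nat_lit 10993]], [nat_lit 2, nat_lit 14, nat_lit 50, nat_lit 40], [nat_lit 12, nat_lit 32, nat_lit 64, nat_lit 41, nat_lit 2, nat_lit 14, nat_lit 1, nat_lit 3, nat_lit 4, nat_lit 6, nat_lit 10, nat_lit 1756]),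
  (nat_lit 0x100000000000100010001000001000101000000010000000000010001000000000000010000000100000000010000010001010000000000, nat_lit 99, [[nat_lit 4209, nat_lit 4303, nat_lit 4373, nat_lit 4691, nat_lit 4941, nat_lit 5159, nat_lit 5229, nat_lit 5343, nat_lit 12329, nat_lit 12423, nat_lit 12493, nat_lit 12811, nat_lit 13061, nat_lit 13279, nat_lit 13349, nat_lit 13463]], [nat_lit 11, nat_lit 47, nat_lit 35, nat_lit 49], [nat_lit 1, nat_lit 15, nat_lit 30, nat_lit 13, nat_lit 2, nat_lit 3, nat_lit 14, nat_lit 4, nat_lit 5, nat_lit 7, nat_lit 9, nat_lit 10]),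
  (nat_lit 0x10100000000000001000100000100000100000001010000010100000000010000010000000100010000000100000000010000, nat_lit 99, [[nat_lit 105, nat_lit 211, nat_lit 376, nat_lit 397, nat_lit 931, nat_lit 1276, nat_lit 1336, nat_lit 1415, nat_lit 8225, nat_lit 8331, nat_lit 8496, nat_lit 8517, nat_lit 9051, nat_lit 9396, nat_lit 9456, nat_lit 9535]], [nat_lit 34, nat_lit 13, nat_lit 7, nat_lit 42], [nat_lit 10, nat_lit 59, nat_lit 106, nat_lit 96, nat_lit 11, nat_lit 3, nat_lit 5, nat_lit 2, nat_lit 4, nat_lit 1, nat_lit 9, nat_lit 6]),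
  (nat_lit 0x10100000000010101010000010100000100010001000001000000000000000000010001010000010000000000000000, nat_lit 0, [[nat_lit 49, nat_lit 48]], [], []),
  (nat_lit 0x1000100000000000000000001000100000001010000000100010000010001000001000000000100000001000100000000010000000100, nat_lit 99, [[nat_lit 6113, nat_lit 6118, nat_lit 6120, nat_lit 6121, nat_lit 7233, nat_lit 7238, nat_lit 7248, nat_lit 7249, nat_lit 14233, nat_lit 14238, nat_lit 14240, nat_lit 14241, nat_lit 15353, nat_lit 15358, nat_lit 15368, nat_lit 15369]], [nat_lit 1, nat_lit 26, nat_lit 10, nat_lit 21], [nat_lit 14, nat_lit 19, nat_lit 2, nat_lit 10, nat_lit 5, nat_lit 13, nat_lit 1, nat_lit 5816, nat_lit 9, nat_lit 6, nat_lit 3, nat_lit 4]),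
  (nat_lit 0x100010001000001000000000000000001000100000101000000000000000000000000000000000001010000000001010000010100000101, nat_lit 0, [[nat_lit 25, nat_lit 5]], [], []),
  (nat_lit 0x100000000000001000001000000010000000000000101000000000001000100010000000000010000010100010000010001000000010000, nat_lit 99, [[nat_lit 44, nat_lit 171, nat_lit 450, nat_lit 578, nat_lit 585, nat_lit 1545, nat_lit 1598, nat_lit 1668, nat_lit 8164, nat_lit 8291, nat_lit 8570, nat_lit 8698, nat_lit 8705, nat_lit 9665, nat_lit 9718, nat_lit 9788]], [nat_lit 23, nat_lit 2, nat_lit 34, nat_lit 48], [nat_lit 13, nat_lit 141, nat_lit 22, nat_lit 21, nat_lit 1, nat_lit 20, nat_lit 3, nat_lit 9, nat_lit 8, nat_lit 2, nat_lit 6, nat_lit 4]),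
  (nat_lit 0x100000001000000000001010000010100000000000100000000000100010000010001010000000100000000010001000000000100, nat_lit 99, [[nat_lit 7492, nat_lit 7493, nat_lit 7496, nat_lit 7497, nat_lit 7538, nat_lit 7539, nat_lit 7542, nat_lit 7543, nat_lit 15612, nat_lit 15613, nat_lit 15616, nat_lit 15617, nat_lit 15658, nat_lit 15659, nat_lit 15662, nat_lit 15663]], [nat_lit 42, nat_lit 17, nat_lit 37, nat_lit 8], [nat_lit 8, nat_lit 30, nat_lit 34, nat_lit 56, nat_lit 22, nat_lit 19, nat_lit 2, nat_lit 9, nat_lit 3, nat_lit 1, nat_lit 4, nat_lit 5816]),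
  (nat_lit 0x1010000010001000001010101000000000101000001010000000000000000000101000100010000000000000000000000000000000000, nat_lit 0, [[nat_lit 31, nat_lit 18]], [], []),
  (nat_lit 0x101000000000101000001010000010100010001000101000000000000000000010001000001010000000000000000000000000000000000, nat_lit 0, [[nat_lit 25, nat_lit 14]], [], [])]

def BK45 : List Ent := [(nat_lit 0x10000010100010000000101010100000101000001010000000000000000000001000001000100010000000000000000, nat_lit 0, [[nat_lit 41, nat_lit 24]], [], []),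
  (nat_lit 0x1000100000000000101000000000000000100000100000100000100010100000001000000000101000000000000010000010000000100, nat_lit 99, [[nat_lit 6511, nat_lit 6516, nat_lit 7699, nat_lit 7704, nat_lit 7744, nat_lit 7745, nat_lit 7750, nat_lit 7751, nat_lit 14631, nat_lit 14636, nat_lit 15819, nat_lit 15824, nat_lit 15864, nat_lit 15865, nat_lit 15870, nat_lit 15871]], [nat_lit 21, nat_lit 46, nat_lit 52, nat_lit 1], [nat_lit 11, nat_lit 45, nat_lit 52, nat_lit 5, nat_lit 20, nat_lit 5823, nat_lit 17, nat_lit 1, nat_lit 2, nat_lit 3, nat_lit 7, nat_lit 8]),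
  (nat_lit 0x1000000000100010000000001000000010001000000000000000001000100000100000000000100010001000100010100000001000000, nat_lit 99, [[nat_lit 4185, nat_lit 4245, nat_lit 4406, nat_lit 4679, nat_lit 4713, nat_lit 4715, nat_lit 5587, nat_lit 5609, nat_lit 12305, nat_lit 12365, nat_lit 12526, nat_lit 12799, nat_lit 12833, nat_lit 12835, nat_lit 13707, nat_lit 13729]], [nat_lit 16, nat_lit 47, nat_lit 27, nat_lit 10], [nat_lit 10, nat_lit 39, nat_lit 9, nat_lit 5, nat_lit 20, nat_lit 18, nat_lit 2, nat_lit 6, nat_lit 3, nat_lit 4, nat_lit 1, nat_lit 1896]),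
  (nat_lit 0x100000100000100000000010000010000010000000001000100000000000000000100010000000001010000000100010000010001, nat_lit 99, [[nat_lit 1871, nat_lit 1872, nat_lit 1873, nat_lit 1874, nat_lit 2917, nat_lit 2918, nat_lit 2919, nat_lit 2920, nat_lit 9991, nat_lit 9992, nat_lit 9993, nat_lit 9994, nat_lit 11037, nat_lit 11038, nat_lit 11039, nat_lit 11040]], [nat_lit 49, nat_lit 0, nat_lit 46, nat_lit 11], [nat_lit 1913, nat_lit 42, nat_lit 13, nat_lit 7, nat_lit 6, nat_lit 4, nat_lit 12, nat_lit 1, nat_lit 14, nat_lit 2, nat_lit 5, nat_lit 9]),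
  (nat_lit 0x1010101000000000100000101000100010100000000010100000000000000000100010001000001, nat_lit 0, [[nat_lit 33, nat_lit 6]], [], []),
  (nat_lit 0x1000001000000010001000000000001000001000000000000010000010000010001000001000100010000000100000001000000000100, nat_lit 99, [[nat_lit 6351, nat_lit 6352, nat_lit 6359, nat_lit 6360, nat_lit 7507, nat_lit 7508, nat_lit 7523, nat_lit 7524, nat_lit 14471, nat_lit 14472, nat_lit 14479, nat_lit 14480, nat_lit 15627, nat_lit 15628, nat_lit 15643, nat_lit 15644]], [nat_lit 14, nat_lit 26, nat_lit 51, nat_lit 47], [nat_lit 22, nat_lit 32, nat_lit 17, nat_lit 9, nat_lit 18, nat_lit 26, nat_lit 6, nat_lit 3, nat_lit 4, nat_lit 2, nat_lit 1, nat_lit 5816]),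
  (nat_lit 0x10000010000010000010001010000010000000100000001000000000100000000010000000100010001000000000000000001000100, nat_lit 99, [[nat_lit 6766, nat_lit 6767, nat_lit 8029, nat_lit 8030, nat_lit 8031, nat_lit 8032, nat_lit 8036, nat_lit 8037, nat_lit 14886, nat_lit 14887, nat_lit 16149, nat_lit 16150, nat_lit 16151, nat_lit 16152, nat_lit 16156, nat_lit 16157]], [nat_lit 25, nat_lit 20, nat_lit 3, nat_lit 53], [nat_lit 39, nat_lit 42, nat_lit 27, nat_lit 24, nat_lit 30, nat_lit 1896, nat_lit 4, nat_lit 1, nat_lit 2, nat_lit 6, nat_lit 3, nat_lit 5816]),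
  (nat_lit 0x100000101000100000000000000000000000000000000000001000100010100010000010001000101000100000101000000000000000000, nat_lit 99, [[nat_lit 4101, nat_lit 4167, nat_lit 4304, nat_lit 4383, nat_lit 4496, nat_lit 4602, nat_lit 4623, nat_lit 4702, nat_lit 4824, nat_lit 4963, nat_lit 5099, nat_lit 5170, nat_lit 5465, nat_lit 5473, nat_lit 5526, nat_lit 5800, nat_lit 12221, nat_lit 12287, nat_lit 12424, nat_lit 12503, nat_lit 12616, nat_lit 12722, nat_lit 12743, nat_lit 12822, nat_lit 12944, nat_lit 13083, nat_lit 13219, nat_lit 13290, nat_lit 13585, nat_lit 13593, nat_lit 13646, nat_lit 13920]], [nat_lit 9, nat_lit 30, nat_lit 55, nat_lit 52, nat_lit 51], [nat_lit 96, nat_lit 29, nat_lit 58, nat_lit 1757, nat_lit 12, nat_lit 2, nat_lit 8, nat_lit 1, nat_lit 10, nat_lit 3, nat_lit 6]),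
  (nat_lit 0x1000101000100000000010000010000000100010000000000000100000001010001000000000000000000010001000000010000010000, nat_lit 99, [[nat_lit 61, nat_lit 341, nat_lit 437, nat_lit 1022, nat_lit 1035, nat_lit 1166, nat_lit 1258, nat_lit 1739, nat_lit 8181, nat_lit 8461, nat_lit 8557, nat_lit 9142, nat_lit 9155, nat_lit 9286, nat_lit 9378, nat_lit 9859]], [nat_lit 21, nat_lit 44, nat_lit 5, nat_lit 35], [nat_lit 31, nat_lit 45, nat_lit 28, nat_lit 17, nat_lit 38, nat_lit 11, nat_lit 21, nat_lit 24, nat_lit 2, nat_lit 3, nat_lit 1, nat_lit 4]),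
  (nat_lit 0x1000000010000000001000100000001000000000100000000000001000001000101000000000000000001010000000001010000010100, nat_lit 99, [[nat_lit 6086, nat_lit 6087, nat_lit 6088, nat_lit 6093, nat_lit 7186, nat_lit 7191, nat_lit 7192, nat_lit 7193, nat_lit 14206, nat_lit 14207, nat_lit 14208, nat_lit 14213, nat_lit 15306, nat_lit 15311, nat_lit 15312, nat_lit 15313]], [nat_lit 54, nat_lit 43, nat_lit 24, nat_lit 34], [nat_lit 43, nat_lit 16, nat_lit 47, nat_lit 45, nat_lit 18, nat_lit 6, nat_lit 4, nat_lit 5, nat_lit 1, nat_lit 2, nat_lit 9, nat_lit 5816]),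
  (nat_lit 0x1010101000000000001010000010001010100000000010100000000000000000100010001000001, nat_lit 0, [[nat_lit 64, nat_lit 12]], [], []),
  (nat_lit 0x100000000000100000100010100010000010000000100000100000000000001010000000001000000000000010000010100000100000000, nat_lit 99, [[nat_lit 91, nat_lit 202, nat_lit 280, nat_lit 716, nat_lit 937, nat_lit 966, nat_lit 1213, nat_lit 1709, nat_lit 8211, nat_lit 8322, nat_lit 8400, nat_lit 8836, nat_lit 9057, nat_lit 9086, nat_lit 9333, nat_lit 9829]], [nat_lit 44, nat_lit 24, nat_lit 11, nat_lit 23], [nat_lit 12, nat_lit 22, nat_lit 56, nat_lit 14, nat_lit 4, nat_lit 1, nat_lit 10, nat_lit 6, nat_lit 5, nat_lit 7, nat_lit 15, nat_lit 2]),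
  (nat_lit 0x10001000101000100000100010001010001000001010000000000000000000100000101000100, nat_lit 99, [[nat_lit 5858, nat_lit 5859, nat_lit 5920, nat_lit 5925, nat_lit 6717, nat_lit 6720, nat_lit 6886, nat_lit 6887, nat_lit 6960, nat_lit 6969, nat_lit 7973, nat_lit 7980, nat_lit 8092, nat_lit 8093, nat_lit 8098, nat_lit 8099, nat_lit 13978, nat_lit 13979, nat_lit 14040, nat_lit 14045, nat_lit 14837, nat_lit 14840, nat_lit 15006, nat_lit 15007, nat_lit 15080, nat_lit 15089, nat_lit 16093, nat_lit 16100, nat_lit 16212, nat_lit 16213, nat_lit 16218, nat_lit 16219]], [nat_lit 28, nat_lit 31, nat_lit 7, nat_lit 36, nat_lit 34], [nat_lit 8, nat_lit 16, nat_lit 18, nat_lit 10, nat_lit 4, nat_lit 1, nat_lit 2, nat_lit 7, nat_lit 3, nat_lit 1896, nat_lit 5816]),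
  (nat_lit 0x10001000101000100000100010001010001000001010000000000000000000001010000010001, nat_lit 0, [[nat_lit 40, nat_lit 17]], [], []),
  (nat_lit 0x1010001000100000000000000000000000000010101010000000000000000000000000000000001010000010100000001000100010100, nat_lit 0, [[nat_lit 19, nat_lit 1]], [], []),
  (nat_lit 0x1000000010000000100000000010000000001000000010001000100000000000000000100010000000100000100000001010001000001, nat_lit 99, [[nat_lit 2522, nat_lit 2523, nat_lit 2524, nat_lit 2527, nat_lit 3734, nat_lit 3741, nat_lit 3742, nat_lit 3743, nat_lit 10642, nat_lit 10643, nat_lit 10644, nat_lit 10647, nat_lit 11854, nat_lit 11861, nat_lit 11862, nat_lit 11863]], [nat_lit 6, nat_lit 13, nat_lit 32, nat_lit 19], [nat_lit 1, nat_lit 14, nat_lit 2, nat_lit 8, nat_lit 11, nat_lit 13, nat_lit 4, nat_lit 3, nat_lit 6, nat_lit 9, nat_lit 1756, nat_lit 1896]),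
  (nat_lit 0x100000100010100000001000000000100000001000100000100000000010000010001000000000000010100000000000000000101000000, nat_lit 99, [[nat_lit 4116, nat_lit 4117, nat_lit 4337, nat_lit 4644, nat_lit 4704, nat_lit 4743, nat_lit 5255, nat_lit 5403, nat_lit 12236, nat_lit 12237, nat_lit 12457, nat_lit 12764, nat_lit 12824, nat_lit 12863, nat_lit 13375, nat_lit 13523]], [nat_lit 45, nat_lit 3, nat_lit 26, nat_lit 23], [nat_lit 104, nat_lit 1801, nat_lit 1804, nat_lit 1910, nat_lit 1, nat_lit 10, nat_lit 8, nat_lit 2, nat_lit 15, nat_lit 3, nat_lit 4, nat_lit 6]),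
  (nat_lit 0x10000010000000101000100000100000001000001000000010001000000000100000100000000010001000000000100000100000000, nat_lit 99, [[nat_lit 27, nat_lit 148, nat_lit 750, nat_lit 828, nat_lit 870, nat_lit 877, nat_lit 1556, nat_lit 1563, nat_lit 8147, nat_lit 8268, nat_lit 8870, nat_lit 8948, nat_lit 8990, nat_lit 8997, nat_lit 9676, nat_lit 9683]], [nat_lit 14, nat_lit 33, nat_lit 19, nat_lit 43], [nat_lit 7, nat_lit 95, nat_lit 13, nat_lit 1, nat_lit 5, nat_lit 14, nat_lit 9, nat_lit 6, nat_lit 3, nat_lit 2, nat_lit 4, nat_lit 12]),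
  (nat_lit 0x101000001000100000101010100000101000001010000000000000000000001000001000100010000000000000000, nat_lit 0, [[nat_lit 40, nat_lit 17]], [], []),
  (nat_lit 0x100010000000000010000000100000000000101000100000100000000000000010100000000010001000100010000010000000001, nat_lit 99, [[nat_lit 2093, nat_lit 2094, nat_lit 2095, nat_lit 2146, nat_lit 3215, nat_lit 3278, nat_lit 3279, nat_lit 3280, nat_lit 10213, nat_lit 10214, nat_lit 10215, nat_lit 10266, nat_lit 11335, nat_lit 11398, nat_lit 11399, nat_lit 11400]], [nat_lit 34, nat_lit 40, nat_lit 5, nat_lit 10], [nat_lit 23, nat_lit 4, nat_lit 2, nat_lit 5, nat_lit 3, nat_lit 8, nat_lit 7, nat_lit 9, nat_lit 6, nat_lit 12, nat_lit 1, nat_lit 1756]),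
  (nat_lit 0x10001000000000000010000000100000000000101000000000000010001000100000000000101000100000100010000010000000001, nat_lit 99, [[nat_lit 2109, nat_lit 2110, nat_lit 2111, nat_lit 2138, nat_lit 2139, nat_lit 2140, nat_lit 3223, nat_lit 3262, nat_lit 10229, nat_lit 10230, nat_lit 10231, nat_lit 10258, nat_lit 10259, nat_lit 10260, nat_lit 11343, nat_lit 11382]], [nat_lit 34, nat_lit 13, nat_lit 26, nat_lit 16], [nat_lit 30, nat_lit 2, nat_lit 4, nat_lit 33, nat_lit 7, nat_lit 5, nat_lit 3, nat_lit 8, nat_lit 9, nat_lit 12, nat_lit 13, nat_lit 1756]),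
  (nat_lit 0x101000000000100010001000100000100000000010000000100010000000000010000000100000000000101000100000100000000, nat_lit 99, [[nat_lit 114, nat_lit 552, nat_lit 560, nat_lit 1113, nat_lit 1419, nat_lit 1535, nat_lit 1686, nat_lit 1700, nat_lit 8234, nat_lit 8672, nat_lit 8680, nat_lit 9233, nat_lit 9539, nat_lit 9655, nat_lit 9806, nat_lit 9820]], [nat_lit 28, nat_lit 37, nat_lit 51, nat_lit 20], [nat_lit 42, nat_lit 15, nat_lit 40, nat_lit 11, nat_lit 17, nat_lit 1, nat_lit 5, nat_lit 6, nat_lit 3, nat_lit 7, nat_lit 2, nat_lit 4]),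
  (nat_lit 0x1000101000001010101010000000000000000000000000000010101010000000000000000000000000000000000000100000100010001, nat_lit 0, [[nat_lit 8, nat_lit 2]], [], []),
  (nat_lit 0x10001000001000001000000010100000101000000000100000100000001000100000001000000000100000000000000010100, nat_lit 99, [[nat_lit 6614, nat_lit 6615, nat_lit 6616, nat_lit 6627, nat_lit 6628, nat_lit 6629, nat_lit 7852, nat_lit 7863, nat_lit 14734, nat_lit 14735, nat_lit 14736, nat_lit 14747, nat_lit 14748, nat_lit 14749, nat_lit 15972, nat_lit 15983]], [nat_lit 34, nat_lit 50, nat_lit 1, nat_lit 42], [nat_lit 11, nat_lit 58, nat_lit 27, nat_lit 76, nat_lit 20, nat_lit 41, nat_lit 6, nat_lit 5816, nat_lit 10, nat_lit 3, nat_lit 2, nat_lit 1]),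
  (nat_lit 0x100000100010001010001000001010001010101000000000000000000000000010100000000010100000000000000000000000000000000, nat_lit 0, [[nat_lit 14, nat_lit 5]], [], []),
  (nat_lit 0x10100000101000100010001010000010100010001000000000000000000010101010000000000000000000000000000000000000000, nat_lit 0, [[nat_lit 23, nat_lit 19]], [], []),
  (nat_lit 0x10000000001000100000000010001000000000100000100010000000000010000010000000001000000000001000001000100010001, nat_lit 99, [[nat_lit 2647, nat_lit 2654, nat_lit 3893, nat_lit 3894, nat_lit 3895, nat_lit 3906, nat_lit 3907, nat_lit 3908, nat_lit 10767, nat_lit 10774, nat_lit 12013, nat_lit 12014, nat_lit 12015, nat_lit 12026, nat_lit 12027, nat_lit 12028]], [nat_lit 41, nat_lit 9, nat_lit 23, nat_lit 29], [nat_lit 3, nat_lit 19, nat_lit 7, nat_lit 5, nat_lit 12, nat_lit 8, nat_lit 2, nat_lit 1, nat_lit 4, nat_lit 6, nat_lit 10, nat_lit 1756]),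
  (nat_lit 0x10001010000000000010000010100000101000000000100000100000000010001000000010000010000000001000100000000, nat_lit 99, [[nat_lit 147, nat_lit 263, nat_lit 270, nat_lit 549, nat_lit 1132, nat_lit 1360, nat_lit 1603, nat_lit 1624, nat_lit 8267, nat_lit 8383, nat_lit 8390, nat_lit 8669, nat_lit 9252, nat_lit 9480, nat_lit 9723, nat_lit 9744]], [nat_lit 6, nat_lit 33, nat_lit 47, nat_lit 11], [nat_lit 69, nat_lit 73, nat_lit 12, nat_lit 32, nat_lit 2, nat_lit 14, nat_lit 18, nat_lit 3, nat_lit 5, nat_lit 4, nat_lit 6, nat_lit 1]),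
  (nat_lit 0x1010000010001000000000000000000000000000000000001000100010100010000010001000101000100000101000000000000000000, nat_lit 0, [[nat_lit 43, nat_lit 28]], [], []),
  (nat_lit 0x1000100010001000100000001000001000000000000010001000001000000010001000000000000000000000100010100000000000100, nat_lit 99, [[nat_lit 6396, nat_lit 6440, nat_lit 7558, nat_lit 7559, nat_lit 7560, nat_lit 7602, nat_lit 7603, nat_lit 7604, nat_lit 14516, nat_lit 14560, nat_lit 15678, nat_lit 15679, nat_lit 15680, nat_lit 15722, nat_lit 15723, nat_lit 15724]], [nat_lit 10, nat_lit 48, nat_lit 27, nat_lit 39], [nat_lit 6, nat_lit 12, nat_lit 18, nat_lit 15, nat_lit 17, nat_lit 3, nat_lit 1, nat_lit 2, nat_lit 4, nat_lit 5, nat_lit 7, nat_lit 5816]),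
  (nat_lit 0x10100000101010001000100000100000000000000000100010000010100000000000000000000000000000000000000010101010000, nat_lit 0, [[nat_lit 23, nat_lit 19]], [], []),
  (nat_lit 0x100010000010001000001000000000100000001000100000000010000000100000100010000000000000000000100010000000101000000, nat_lit 99, [[nat_lit 4121, nat_lit 4401, nat_lit 4497, nat_lit 5082, nat_lit 5095, nat_lit 5226, nat_lit 5318, nat_lit 5799, nat_lit 12241, nat_lit 12521, nat_lit 12617, nat_lit 13202, nat_lit 13215, nat_lit 13346, nat_lit 13438, nat_lit 13919]], [nat_lit 36, nat_lit 3, nat_lit 10, nat_lit 20], [nat_lit 7, nat_lit 59, nat_lit 1861, nat_lit 1897, nat_lit 3, nat_lit 2, nat_lit 9, nat_lit 12, nat_lit 4, nat_lit 14, nat_lit 1, nat_lit 5]),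
  (nat_lit 0x100010000010001000001000000000101000000000000010100000000010000010001000000000000000000000100010000010000010000, nat_lit 99, [[nat_lit 39, nat_lit 344, nat_lit 567, nat_lit 773, nat_lit 1214, nat_lit 1394, nat_lit 1408, nat_lit 1520, nat_lit 8159, nat_lit 8464, nat_lit 8687, nat_lit 8893, nat_lit 9334, nat_lit 9514, nat_lit 9528, nat_lit 9640]], [nat_lit 23, nat_lit 32, nat_lit 5, nat_lit 48], [nat_lit 6, nat_lit 29, nat_lit 31, nat_lit 4, nat_lit 22, nat_lit 12, nat_lit 13, nat_lit 10, nat_lit 3, nat_lit 2, nat_lit 1, nat_lit 7])]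

def BK46 : List Ent := [(nat_lit 0x1000100010100000101000100010000000000000000000101010100000000000000000000000000000000000000000000010100000101, nat_lit 0, [[nat_lit 64, nat_lit 12]], [], []),
  (nat_lit 0x1010001000100000000000000000001010101000000000000000000000000000000000000000001010000010100000100010001000001, nat_lit 0, [[nat_lit 7, nat_lit 5]], [], []),
  (nat_lit 0x100000101000100000000000000000001010000010100000000000000000000000000000000000001000100000101000000000001010101, nat_lit 0, [[nat_lit 55, nat_lit 15]], [], []),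
  (nat_lit 0x100010000000100000100000000000000000101000100000100000000000001000001000001000001010000010100000001000000, nat_lit 99, [[nat_lit 4534, nat_lit 4751, nat_lit 4775, nat_lit 4913, nat_lit 5199, nat_lit 5215, nat_lit 5634, nat_lit 5810, nat_lit 12654, nat_lit 12871, nat_lit 12895, nat_lit 13033, nat_lit 13319, nat_lit 13335, nat_lit 13754, nat_lit 13930]], [nat_lit 31, nat_lit 11, nat_lit 21, nat_lit 46], [nat_lit 23, nat_lit 45, nat_lit 42, nat_lit 7, nat_lit 1, nat_lit 9, nat_lit 6, nat_lit 5, nat_lit 4, nat_lit 2, nat_lit 8, nat_lit 1896]),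
  (nat_lit 0x10001000000000100000100000000010001000000000100000100000000000001000001000001000001000101000000000100000100, nat_lit 99, [[nat_lit 6156, nat_lit 6157, nat_lit 6158, nat_lit 6205, nat_lit 7276, nat_lit 7335, nat_lit 7336, nat_lit 7337, nat_lit 14276, nat_lit 14277, nat_lit 14278, nat_lit 14325, nat_lit 15396, nat_lit 15455, nat_lit 15456, nat_lit 15457]], [nat_lit 38, nat_lit 12, nat_lit 1, nat_lit 46], [nat_lit 74, nat_lit 85, nat_lit 32, nat_lit 75, nat_lit 12, nat_lit 16, nat_lit 25, nat_lit 5816, nat_lit 13, nat_lit 1, nat_lit 2, nat_lit 3]),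
  (nat_lit 0x10101010000010100000101000000010001000101000000000000000000000100010100000100000000000000000000000000000000, nat_lit 0, [[nat_lit 39, nat_lit 9]], [], []),
  (nat_lit 0x10101010000000000000000000000000000000000000000000001010000010101000100010000010100000100010001, nat_lit 0, [[nat_lit 18, nat_lit 3]], [], []),
  (nat_lit 0x10100000000000100010000000001010000000001000100010001010000000100000001000000000000010001000001000000, nat_lit 99, [[nat_lit 4511, nat_lit 4569, nat_lit 4660, nat_lit 4661, nat_lit 4929, nat_lit 5442, nat_lit 5558, nat_lit 5758, nat_lit 12631, nat_lit 12689, nat_lit 12780, nat_lit 12781, nat_lit 13049, nat_lit 13562, nat_lit 13678, nat_lit 13878]], [nat_lit 8, nat_lit 43, nat_lit 28, nat_lit 50], [nat_lit 19, nat_lit 1, nat_lit 22, nat_lit 2, nat_lit 20, nat_lit 11, nat_lit 9, nat_lit 3, nat_lit 4, nat_lit 5, nat_lit 8, nat_lit 1896]),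
  (nat_lit 0x1010001000100000000000000000000000000010101010000000000000000000000000000000000000101000001010100010001000001, nat_lit 0, [[nat_lit 10, nat_lit 4]], [], []),
  (nat_lit 0x1010000000000000000010100000001000100000100010100000001000000010000000000000101000000000100000001000100000000, nat_lit 99, [[nat_lit 10, nat_lit 162, nat_lit 429, nat_lit 747, nat_lit 1031, nat_lit 1235, nat_lit 1346, nat_lit 1449, nat_lit 8130, nat_lit 8282, nat_lit 8549, nat_lit 8867, nat_lit 9151, nat_lit 9355, nat_lit 9466, nat_lit 9569]], [nat_lit 15, nat_lit 16, nat_lit 32, nat_lit 6], [nat_lit 12, nat_lit 28, nat_lit 6, nat_lit 21, nat_lit 3, nat_lit 7, nat_lit 5, nat_lit 4, nat_lit 13, nat_lit 1, nat_lit 2, nat_lit 10]),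
  (nat_lit 0x10100000101000001000100010000010100000100010001000000000000000000000000010101010000000000000000, nat_lit 0, [[nat_lit 31, nat_lit 27]], [], []),
  (nat_lit 0x101000100010000010001010000010000000001010101000000000000000000000101010100000000000000000000, nat_lit 0, [[nat_lit 95, nat_lit 85]], [], []),
  (nat_lit 0x1010000000001010000010100000101010001000100000100000000000000000100010000010100, nat_lit 0, [[nat_lit 30, nat_lit 15]], [], []),
  (nat_lit 0x1010000010100010000000100000001000000000000010000000100000001000000000100000101000001000000000000000101000000, nat_lit 99, [[nat_lit 4077, nat_lit 4230, nat_lit 4273, nat_lit 4747, nat_lit 5010, nat_lit 5438, nat_lit 5726, nat_lit 5775, nat_lit 12197, nat_lit 12350, nat_lit 12393, nat_lit 12867, nat_lit 13130, nat_lit 13558, nat_lit 13846, nat_lit 13895]], [nat_lit 32, nat_lit 43, nat_lit 15, nat_lit 49], [nat_lit 5, nat_lit 73, nat_lit 56, nat_lit 9, nat_lit 32, nat_lit 6, nat_lit 7, nat_lit 1, nat_lit 3, nat_lit 2, nat_lit 10, nat_lit 1896]),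
  (nat_lit 0x100000000000100010000010100000100010000000100000100000000000001000000010000000100010001000000000001010000000000, nat_lit 99, [[nat_lit 4200, nat_lit 4655, nat_lit 4844, nat_lit 5013, nat_lit 5289, nat_lit 5506, nat_lit 5645, nat_lit 5691, nat_lit 12320, nat_lit 12775, nat_lit 12964, nat_lit 13133, nat_lit 13409, nat_lit 13626, nat_lit 13765, nat_lit 13811]], [nat_lit 16, nat_lit 44, nat_lit 24, nat_lit 38], [nat_lit 15, nat_lit 46, nat_lit 1, nat_lit 19, nat_lit 2, nat_lit 3, nat_lit 9, nat_lit 11, nat_lit 7, nat_lit 5, nat_lit 4, nat_lit 6]),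
  (nat_lit 0x1010000010001000000000000000001010000010100000000000000000000000000000000000001000100000101000000000001010101, nat_lit 0, [[nat_lit 43, nat_lit 28]], [], []),
  (nat_lit 0x100000101000001010000000100000000010000000001000000010000000100010001000000000001000001000000000001000000000001, nat_lit 99, [[nat_lit 2345, nat_lit 2346, nat_lit 2347, nat_lit 2367, nat_lit 2368, nat_lit 2369, nat_lit 3513, nat_lit 3531, nat_lit 10465, nat_lit 10466, nat_lit 10467, nat_lit 10487, nat_lit 10488, nat_lit 10489, nat_lit 11633, nat_lit 11651]], [nat_lit 6, nat_lit 38, nat_lit 23, nat_lit 55], [nat_lit 4, nat_lit 35, nat_lit 11, nat_lit 13, nat_lit 15, nat_lit 22, nat_lit 3, nat_lit 5, nat_lit 1, nat_lit 2, nat_lit 8, nat_lit 1756]),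
  (nat_lit 0x100010001000001000000000000000001000100000101000000000000000000000000000000000000000101010100000000010100000101, nat_lit 0, [[nat_lit 34, nat_lit 18]], [], []),
  (nat_lit 0x1000101000001000000000000000001000001010001000000000000000000000000000000000000010001000101000100000100010001, nat_lit 0, [[nat_lit 8, nat_lit 2]], [], []),
  (nat_lit 0x100000000000001000100000100000000000000000101000000000001000100000000010100000000010001000100010100000001000000, nat_lit 99, [[nat_lit 4177, nat_lit 4183, nat_lit 4410, nat_lit 4423, nat_lit 4541, nat_lit 4700, nat_lit 4707, nat_lit 5471, nat_lit 12297, nat_lit 12303, nat_lit 12530, nat_lit 12543, nat_lit 12661, nat_lit 12820, nat_lit 12827, nat_lit 13591]], [nat_lit 46, nat_lit 7, nat_lit 48, nat_lit 20], [nat_lit 15, nat_lit 22, nat_lit 6, nat_lit 2, nat_lit 3, nat_lit 9, nat_lit 10, nat_lit 5, nat_lit 4, nat_lit 7, nat_lit 1, nat_lit 1896]),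
  (nat_lit 0x1010101000000000000000000000000000000000101000001010000000100010001010000010100010001000000000000000000, nat_lit 0, [[nat_lit 48, nat_lit 4]], [], []),
  (nat_lit 0x1000101000001000000000000000000010100000100010000000000000000000000000000000000010001000101000100000100010001, nat_lit 99, [[nat_lit 1777, nat_lit 1780, nat_lit 1881, nat_lit 1884, nat_lit 2641, nat_lit 2642, nat_lit 2775, nat_lit 2776, nat_lit 2795, nat_lit 2798, nat_lit 2931, nat_lit 2934, nat_lit 3885, nat_lit 3886, nat_lit 4055, nat_lit 4056, nat_lit 9897, nat_lit 9900, nat_lit 10001, nat_lit 10004, nat_lit 10761, nat_lit 10762, nat_lit 10895, nat_lit 10896, nat_lit 10915, nat_lit 10918, nat_lit 11051, nat_lit 11054, nat_lit 12005, nat_lit 12006, nat_lit 12175, nat_lit 12176]], [nat_lit 14, nat_lit 34, nat_lit 9, nat_lit 0, nat_lit 2], [nat_lit 14, nat_lit 30, nat_lit 8, nat_lit 15, nat_lit 1757, nat_lit 3, nat_lit 5, nat_lit 6, nat_lit 2, nat_lit 7, nat_lit 1]),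
  (nat_lit 0x10100000101010001000100000100000000000000000001000101000001000000000000000000000000000000000101000000000101, nat_lit 0, [[nat_lit 29, nat_lit 7]], [], [])]

def BK47 : List Ent := [(nat_lit 0x10100000000000100010000000001010000000100010001000100010000000100000001000000000000010001000001000000, nat_lit 99, [[nat_lit 4729, nat_lit 4778, nat_lit 4880, nat_lit 5017, nat_lit 5443, nat_lit 5588, nat_lit 5606, nat_lit 5699, nat_lit 12849, nat_lit 12898, nat_lit 13000, nat_lit 13137, nat_lit 13563, nat_lit 13708, nat_lit 13726, nat_lit 13819]], [nat_lit 23, nat_lit 49, nat_lit 25, nat_lit 36], [nat_lit 3, nat_lit 4, nat_lit 5, nat_lit 28, nat_lit 12, nat_lit 14, nat_lit 1, nat_lit 20, nat_lit 2, nat_lit 6, nat_lit 7, nat_lit 1896]),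
  (nat_lit 0x100000001000000000000010001000000000100000001000100010000000000000101000000000000000100000100000001000101000100, nat_lit 99, [[nat_lit 6797, nat_lit 6798, nat_lit 6799, nat_lit 6800, nat_lit 8079, nat_lit 8080, nat_lit 8081, nat_lit 8082, nat_lit 14917, nat_lit 14918, nat_lit 14919, nat_lit 14920, nat_lit 16199, nat_lit 16200, nat_lit 16201, nat_lit 16202]], [nat_lit 42, nat_lit 22, nat_lit 3, nat_lit 29], [nat_lit 32, nat_lit 41, nat_lit 65, nat_lit 1896, nat_lit 1, nat_lit 4, nat_lit 7, nat_lit 8, nat_lit 2, nat_lit 3, nat_lit 13, nat_lit 5816]),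
  (nat_lit 0x1010000010100000100000001000000000100010000000100000000010000000000000100000100010100000000000000000101000000, nat_lit 99, [[nat_lit 4278, nat_lit 4725, nat_lit 4835, nat_lit 4864, nat_lit 4975, nat_lit 5029, nat_lit 5038, nat_lit 5489, nat_lit 12398, nat_lit 12845, nat_lit 12955, nat_lit 12984, nat_lit 13095, nat_lit 13149, nat_lit 13158, nat_lit 13609]], [nat_lit 31, nat_lit 16, nat_lit 46, nat_lit 4], [nat_lit 43, nat_lit 2, nat_lit 15, nat_lit 6, nat_lit 12, nat_lit 14, nat_lit 1, nat_lit 8, nat_lit 3, nat_lit 9, nat_lit 4, nat_lit 1896]),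
  (nat_lit 0x100000001000000000001000100000000000100000001000100010000000000000000000100010001000000000001000100010001000100, nat_lit 99, [[nat_lit 5816, nat_lit 5831, nat_lit 5832, nat_lit 5833, nat_lit 6840, nat_lit 6841, nat_lit 6842, nat_lit 6853, nat_lit 13936, nat_lit 13951, nat_lit 13952, nat_lit 13953, nat_lit 14960, nat_lit 14961, nat_lit 14962, nat_lit 14973]], [nat_lit 19, nat_lit 37, nat_lit 51, nat_lit 7], [nat_lit 34, nat_lit 23, nat_lit 15, nat_lit 1, nat_lit 9, nat_lit 12, nat_lit 8, nat_lit 2, nat_lit 3, nat_lit 5, nat_lit 1896, nat_lit 5816]),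
  (nat_lit 0x1000100000000000000000100010000000100000100000100000100010100000100000001000000010000000001000000000100000001, nat_lit 99, [[nat_lit 2454, nat_lit 2455, nat_lit 2486, nat_lit 2489, nat_lit 3640, nat_lit 3641, nat_lit 3686, nat_lit 3689, nat_lit 10574, nat_lit 10575, nat_lit 10606, nat_lit 10609, nat_lit 11760, nat_lit 11761, nat_lit 11806, nat_lit 11809]], [nat_lit 18, nat_lit 4, nat_lit 9, nat_lit 34], [nat_lit 6, nat_lit 33, nat_lit 14, nat_lit 3, nat_lit 2, nat_lit 11, nat_lit 5, nat_lit 4, nat_lit 8, nat_lit 1, nat_lit 12, nat_lit 1756]),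
  (nat_lit 0x1000100000101000101010100000000000101000001000100000000000000000000010100000101, nat_lit 0, [[nat_lit 64, nat_lit 12]], [], []),
  (nat_lit 0x1000000000100000100000100000000010001000000000000000001000100000000010100000000010001010001000000000100000100, nat_lit 99, [[nat_lit 6152, nat_lit 6207, nat_lit 7272, nat_lit 7273, nat_lit 7274, nat_lit 7341, nat_lit 7342, nat_lit 7343, nat_lit 14272, nat_lit 14327, nat_lit 15392, nat_lit 15393, nat_lit 15394, nat_lit 15461, nat_lit 15462, nat_lit 15463]], [nat_lit 9, nat_lit 46, nat_lit 20, nat_lit 36], [nat_lit 114, nat_lit 3, nat_lit 9, nat_lit 5, nat_lit 7, nat_lit 11, nat_lit 8, nat_lit 10, nat_lit 6, nat_lit 1, nat_lit 2, nat_lit 5816]),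
  (nat_lit 0x1000000000100010000000001000000000000000101000001010000000000000000010100000000010001000100010000000100000100, nat_lit 99, [[nat_lit 6176, nat_lit 6191, nat_lit 6192, nat_lit 6193, nat_lit 7288, nat_lit 7289, nat_lit 7290, nat_lit 7317, nat_lit 14296, nat_lit 14311, nat_lit 14312, nat_lit 14313, nat_lit 15408, nat_lit 15409, nat_lit 15410, nat_lit 15437]], [nat_lit 30, nat_lit 10, nat_lit 19, nat_lit 4], [nat_lit 18, nat_lit 1, nat_lit 19, nat_lit 31, nat_lit 8, nat_lit 10, nat_lit 4, nat_lit 7, nat_lit 3, nat_lit 5, nat_lit 6, nat_lit 5816]),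
  (nat_lit 0x1000100000101000101010100000000010000010100010000000000000000000000010100000101, nat_lit 0, [[nat_lit 40, nat_lit 17]], [], []),
  (nat_lit 0x1000001000000000100010000000000000000010001000000000101000000000100010100010000000001000001000001000000000100, nat_lit 99, [[nat_lit 6380, nat_lit 6381, nat_lit 6382, nat_lit 6383, nat_lit 7480, nat_lit 7481, nat_lit 7486, nat_lit 7487, nat_lit 14500, nat_lit 14501, nat_lit 14502, nat_lit 14503, nat_lit 15600, nat_lit 15601, nat_lit 15606, nat_lit 15607]], [nat_lit 28, nat_lit 12, nat_lit 22, nat_lit 33], [nat_lit 2, nat_lit 19, nat_lit 27, nat_lit 11, nat_lit 15, nat_lit 17, nat_lit 1, nat_lit 3, nat_lit 9, nat_lit 4, nat_lit 6, nat_lit 5816]),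
  (nat_lit 0x100000101000100000000000000000000000000000000000001000100010100010000010001000100010001010000010000000000000000, nat_lit 0, [[nat_lit 43, nat_lit 28]], [], []),
  (nat_lit 0x100000000010000000000000001010000010100000000000000000101000000000100010001000100000001000001000001000000000100, nat_lit 99, [[nat_lit 6273, nat_lit 6274, nat_lit 6275, nat_lit 6276, nat_lit 6323, nat_lit 6324, nat_lit 6325, nat_lit 6326, nat_lit 14393, nat_lit 14394, nat_lit 14395, nat_lit 14396, nat_lit 14443, nat_lit 14444, nat_lit 14445, nat_lit 14446]], [nat_lit 9, nat_lit 22, nat_lit 27, nat_lit 41], [nat_lit 29, nat_lit 5, nat_lit 14, nat_lit 15, nat_lit 18, nat_lit 6, nat_lit 4, nat_lit 2, nat_lit 3, nat_lit 7, nat_lit 1, nat_lit 5816]),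
  (nat_lit 0x100010001000100000000010000010000000001000100000000000100000001010001000000000000010100000000000100000000000100, nat_lit 99, [[nat_lit 6229, nat_lit 6230, nat_lit 6231, nat_lit 6249, nat_lit 7365, nat_lit 7385, nat_lit 7386, nat_lit 7387, nat_lit 14349, nat_lit 14350, nat_lit 14351, nat_lit 14369, nat_lit 15485, nat_lit 15505, nat_lit 15506, nat_lit 15507]], [nat_lit 1, nat_lit 24, nat_lit 23, nat_lit 14], [nat_lit 1, nat_lit 7, nat_lit 23, nat_lit 24, nat_lit 17, nat_lit 19, nat_lit 22, nat_lit 5816, nat_lit 2, nat_lit 5, nat_lit 4, nat_lit 3]),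
  (nat_lit 0x100000100010100000100000001000000010000000001000000000100000001000100010000000000000000010001000000010000010000, nat_lit 99, [[nat_lit 181, nat_lit 239, nat_lit 281, nat_lit 338, nat_lit 551, nat_lit 1038, nat_lit 1111, nat_lit 1246, nat_lit 8301, nat_lit 8359, nat_lit 8401, nat_lit 8458, nat_lit 8671, nat_lit 9158, nat_lit 9231, nat_lit 9366]], [nat_lit 38, nat_lit 22, nat_lit 49, nat_lit 2], [nat_lit 23, nat_lit 7, nat_lit 29, nat_lit 1, nat_lit 5, nat_lit 21, nat_lit 12, nat_lit 6, nat_lit 9, nat_lit 13, nat_lit 4, nat_lit 2]),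
  (nat_lit 0x101000001010001000100010100010000010001000100000000000000000101010100000000, nat_lit 0, [[nat_lit 40, nat_lit 17]], [], []),
  (nat_lit 0x1000000000100000100000100000000000000010000010000000000010001010000000000010000010001010001000000010000000001, nat_lit 99, [[nat_lit 2118, nat_lit 2127, nat_lit 3234, nat_lit 3235, nat_lit 3236, nat_lit 3253, nat_lit 3254, nat_lit 3255, nat_lit 10238, nat_lit 10247, nat_lit 11354, nat_lit 11355, nat_lit 11356, nat_lit 11373, nat_lit 11374, nat_lit 11375]], [nat_lit 23, nat_lit 5, nat_lit 9, nat_lit 24], [nat_lit 71, nat_lit 1, nat_lit 104, nat_lit 3, nat_lit 12, nat_lit 24, nat_lit 5, nat_lit 9, nat_lit 6, nat_lit 2, nat_lit 4, nat_lit 1756]),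
  (nat_lit 0x1010000000001010000010100000101000100010001010000000000000000000001000101000001, nat_lit 0, [[nat_lit 40, nat_lit 17]], [], []),
  (nat_lit 0x1010001000100000100010100000100000000000000000100000101000100000000000000000000000000000000000100010001000001, nat_lit 0, [[nat_lit 7, nat_lit 5]], [], []),
  (nat_lit 0x1000100000000000000000001000100000100000100000100000100010100010000000100000000000001000100000100000000010000, nat_lit 99, [[nat_lit 92, nat_lit 523, nat_lit 550, nat_lit 991, nat_lit 1084, nat_lit 1103, nat_lit 1697, nat_lit 1730, nat_lit 8212, nat_lit 8643, nat_lit 8670, nat_lit 9111, nat_lit 9204, nat_lit 9223, nat_lit 9817, nat_lit 9850]], [nat_lit 42, nat_lit 25, nat_lit 34, nat_lit 52], [nat_lit 17, nat_lit 28, nat_lit 31, nat_lit 14, nat_lit 12, nat_lit 21, nat_lit 11, nat_lit 24, nat_lit 1, nat_lit 2, nat_lit 3, nat_lit 4]),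
  (nat_lit 0x10000010000000100010001000100010000000100000001000000000100010000000001000000000000010000010000000000010001, nat_lit 99, [[nat_lit 2676, nat_lit 2679, nat_lit 2730, nat_lit 2731, nat_lit 3940, nat_lit 3943, nat_lit 4010, nat_lit 4011, nat_lit 10796, nat_lit 10799, nat_lit 10850, nat_lit 10851, nat_lit 12060, nat_lit 12063, nat_lit 12130, nat_lit 12131]], [nat_lit 25, nat_lit 42, nat_lit 38, nat_lit 23], [nat_lit 1, nat_lit 48, nat_lit 2, nat_lit 14, nat_lit 10, nat_lit 3, nat_lit 5, nat_lit 6, nat_lit 7, nat_lit 8, nat_lit 4, nat_lit 1756]),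
  (nat_lit 0x100000000000100000101000100000100000001000001000000000100010000010000000001000000000000000101000100000100000000, nat_lit 99, [[nat_lit 180, nat_lit 206, nat_lit 326, nat_lit 489, nat_lit 814, nat_lit 904, nat_lit 963, nat_lit 1305, nat_lit 8300, nat_lit 8326, nat_lit 8446, nat_lit 8609, nat_lit 8934, nat_lit 9024, nat_lit 9083, nat_lit 9425]], [nat_lit 45, nat_lit 9, nat_lit 28, nat_lit 7], [nat_lit 25, nat_lit 14, nat_lit 22, nat_lit 42, nat_lit 2, nat_lit 8, nat_lit 12, nat_lit 15, nat_lit 6, nat_lit 1, nat_lit 10, nat_lit 3]),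
  (nat_lit 0x101000000000101000100000100000001000001000001000000000100000000010000000101000100000000000100000100000000, nat_lit 99, [[nat_lit 43, nat_lit 357, nat_lit 521, nat_lit 959, nat_lit 1052, nat_lit 1109, nat_lit 1292, nat_lit 1658, nat_lit 8163, nat_lit 8477, nat_lit 8641, nat_lit 9079, nat_lit 9172, nat_lit 9229, nat_lit 9412, nat_lit 9778]], [nat_lit 46, nat_lit 7, nat_lit 36, nat_lit 15], [nat_lit 95, nat_lit 32, nat_lit 38, nat_lit 61, nat_lit 22, nat_lit 3, nat_lit 6, nat_lit 2, nat_lit 11, nat_lit 1, nat_lit 4, nat_lit 5]),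
  (nat_lit 0x10000010000000100010001000101000000010000000000000100010000000000010000000100000000010000010000000001000100, nat_lit 99, [[nat_lit 6744, nat_lit 6745, nat_lit 6781, nat_lit 6782, nat_lit 6783, nat_lit 6784, nat_lit 8010, nat_lit 8011, nat_lit 14864, nat_lit 14865, nat_lit 14901, nat_lit 14902, nat_lit 14903, nat_lit 14904, nat_lit 16130, nat_lit 16131]], [nat_lit 35, nat_lit 44, nat_lit 16, nat_lit 26], [nat_lit 29, nat_lit 10, nat_lit 45, nat_lit 11, nat_lit 3, nat_lit 2, nat_lit 4, nat_lit 7, nat_lit 9, nat_lit 6, nat_lit 1896, nat_lit 5816]),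
  (nat_lit 0x1010001000100000100010100000100000000000000000001010000010001000000000000000000000000000000000100010001000001, nat_lit 99, [[nat_lit 1916, nat_lit 1925, nat_lit 2010, nat_lit 2015, nat_lit 2530, nat_lit 2533, nat_lit 2594, nat_lit 2601, nat_lit 2988, nat_lit 2993, nat_lit 3102, nat_lit 3111, nat_lit 3752, nat_lit 3759, nat_lit 3832, nat_lit 3835, nat_lit 10036, nat_lit 10045, nat_lit 10130, nat_lit 10135, nat_lit 10650, nat_lit 10653, nat_lit 10714, nat_lit 10721, nat_lit 11108, nat_lit 11113, nat_lit 11222, nat_lit 11231, nat_lit 11872, nat_lit 11879, nat_lit 11952, nat_lit 11955]], [nat_lit 43, nat_lit 49, nat_lit 51, nat_lit 53, nat_lit 0], [nat_lit 42, nat_lit 20, nat_lit 4, nat_lit 10, nat_lit 1756, nat_lit 5, nat_lit 6, nat_lit 2, nat_lit 3, nat_lit 9, nat_lit 1896]),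
  (nat_lit 0x1000001000000000000000100000100000000000100010100000000000100000100010100010000000100000000010001000000000100, nat_lit 99, [[nat_lit 6284, nat_lit 6287, nat_lit 6312, nat_lit 6315, nat_lit 7420, nat_lit 7423, nat_lit 7464, nat_lit 7467, nat_lit 14404, nat_lit 14407, nat_lit 14432, nat_lit 14435, nat_lit 15540, nat_lit 15543, nat_lit 15584, nat_lit 15587]], [nat_lit 1, nat_lit 32, nat_lit 40, nat_lit 20], [nat_lit 30, nat_lit 114, nat_lit 61, nat_lit 22, nat_lit 34, nat_lit 18, nat_lit 20, nat_lit 5816, nat_lit 1, nat_lit 2, nat_lit 4, nat_lit 7]),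
  (nat_lit 0x100000000000001000001000000010000000000000101000000000001000100010000000000010001000001000101000001000000010000, nat_lit 99, [[nat_lit 130, nat_lit 191, nat_lit 242, nat_lit 389, nat_lit 776, nat_lit 779, nat_lit 829, nat_lit 985, nat_lit 8250, nat_lit 8311, nat_lit 8362, nat_lit 8509, nat_lit 8896, nat_lit 8899, nat_lit 8949, nat_lit 9105]], [nat_lit 45, nat_lit 33, nat_lit 15, nat_lit 6], [nat_lit 43, nat_lit 28, nat_lit 20, nat_lit 4, nat_lit 16, nat_lit 10, nat_lit 18, nat_lit 3, nat_lit 2, nat_lit 6, nat_lit 7, nat_lit 1]),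
  (nat_lit 0x100000001000100010000000001000001000000000000000101000000010001000001000100010000000100000000010001000000, nat_lit 99, [[nat_lit 4197, nat_lit 4414, nat_lit 4475, nat_lit 4670, nat_lit 4912, nat_lit 4956, nat_lit 5157, nat_lit 5491, nat_lit 12317, nat_lit 12534, nat_lit 12595, nat_lit 12790, nat_lit 13032, nat_lit 13076, nat_lit 13277, nat_lit 13611]], [nat_lit 46, nat_lit 21, nat_lit 28, nat_lit 52], [nat_lit 31, nat_lit 48, nat_lit 25, nat_lit 2, nat_lit 12, nat_lit 4, nat_lit 1, nat_lit 6, nat_lit 3, nat_lit 9, nat_lit 10, nat_lit 1896]),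
  (nat_lit 0x101000000000101000000000000000000000000000000000001010001000100010001000001010000000000010101010000000000000000, nat_lit 0, [[nat_lit 14, nat_lit 12]], [], []),
  (nat_lit 0x1010001000001000000010000010000000100010000000001000001000000000100010000000001000001000000000000010000010000, nat_lit 99, [[nat_lit 56, nat_lit 57, nat_lit 277, nat_lit 584, nat_lit 644, nat_lit 683, nat_lit 1195, nat_lit 1343, nat_lit 8176, nat_lit 8177, nat_lit 8397, nat_lit 8704, nat_lit 8764, nat_lit 8803, nat_lit 9315, nat_lit 9463]], [nat_lit 22, nat_lit 44, nat_lit 12, nat_lit 51], [nat_lit 3, nat_lit 25, nat_lit 12, nat_lit 29, nat_lit 7, nat_lit 4, nat_lit 2, nat_lit 5, nat_lit 8, nat_lit 1, nat_lit 6, nat_lit 9]),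
  (nat_lit 0x1010000010001000000000000000000000000000000000001000100010100010000010001000100010001010000010000000000000000, nat_lit 99, [[nat_lit 37, nat_lit 97, nat_lit 247, nat_lit 435, nat_lit 741, nat_lit 1003, nat_lit 1016, nat_lit 1114, nat_lit 1165, nat_lit 1177, nat_lit 1192, nat_lit 1234, nat_lit 1301, nat_lit 1400, nat_lit 1439, nat_lit 1447, nat_lit 8157, nat_lit 8217, nat_lit 8367, nat_lit 8555, nat_lit 8861, nat_lit 9123, nat_lit 9136, nat_lit 9234, nat_lit 9285, nat_lit 9297, nat_lit 9312, nat_lit 9354, nat_lit 9421, nat_lit 9520, nat_lit 9559, nat_lit 9567]], [nat_lit 54, nat_lit 11, nat_lit 25, nat_lit 12, nat_lit 28], [nat_lit 48, nat_lit 61, nat_lit 1, nat_lit 11, nat_lit 3, nat_lit 5, nat_lit 7, nat_lit 1896, nat_lit 2, nat_lit 9, nat_lit 6]),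
  (nat_lit 0x1000000000001010000010001010000000100000000010000010001000000000100000100000000000000010000010001010000000000, nat_lit 99, [[nat_lit 4240, nat_lit 4266, nat_lit 4386, nat_lit 4549, nat_lit 4874, nat_lit 4964, nat_lit 5023, nat_lit 5365, nat_lit 12360, nat_lit 12386, nat_lit 12506, nat_lit 12669, nat_lit 12994, nat_lit 13084, nat_lit 13143, nat_lit 13485]], [nat_lit 6, nat_lit 27, nat_lit 19, nat_lit 47], [nat_lit 103, nat_lit 1, nat_lit 26, nat_lit 15, nat_lit 12, nat_lit 6, nat_lit 14, nat_lit 2, nat_lit 3, nat_lit 4, nat_lit 7, nat_lit 9]),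
  (nat_lit 0x101010101010101010101010101010100000000000000000000000000000000000000000000000000000000000000000000000000000000, nat_lit 0, [[nat_lit 1804, nat_lit 134]], [], []),
  (nat_lit 0x10000000001010000000000000100000100000001000001000100000000000101000000000000000100000100000100000100010100, nat_lit 99, [[nat_lit 6063, nat_lit 6064, nat_lit 7149, nat_lit 7150, nat_lit 7151, nat_lit 7152, nat_lit 7153, nat_lit 7154, nat_lit 14183, nat_lit 14184, nat_lit 15269, nat_lit 15270, nat_lit 15271, nat_lit 15272, nat_lit 15273, nat_lit 15274]], [nat_lit 4, nat_lit 10, nat_lit 47, nat_lit 28], [nat_lit 11, nat_lit 3, nat_lit 13, nat_lit 7, nat_lit 25, nat_lit 20, nat_lit 1, nat_lit 6, nat_lit 2, nat_lit 4, nat_lit 5, nat_lit 5816])]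

def BK48 : List Ent := [(nat_lit 0x1000100010100000000000000000001000100000101000000000000000000000000000000000001010000000001010000010100000101, nat_lit 0, [[nat_lit 34, nat_lit 11]], [], []),
  (nat_lit 0x100000101000100000000000000000001010000010100000000000000000000000000000000000000010001010000010000000001010101, nat_lit 0, [[nat_lit 29, nat_lit 26]], [], []),
  (nat_lit 0x100000100010100000100000001000000000001000100000100000000010000000000000100000100000000010001000001000000000001, nat_lit 99, [[nat_lit 2341, nat_lit 2374, nat_lit 2375, nat_lit 2379, nat_lit 3502, nat_lit 3503, nat_lit 3505, nat_lit 3539, nat_lit 10461, nat_lit 10494, nat_lit 10495, nat_lit 10499, nat_lit 11622, nat_lit 11623, nat_lit 11625, nat_lit 11659]], [nat_lit 0, nat_lit 31, nat_lit 16, nat_lit 46], [nat_lit 104, nat_lit 121, nat_lit 271, nat_lit 1760, nat_lit 7, nat_lit 9, nat_lit 10, nat_lit 5, nat_lit 1, nat_lit 6, nat_lit 3, nat_lit 2]),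
  (nat_lit 0x10101010000000000000000000000000000000000000000010100000101000000010001000101000001010001000100, nat_lit 0, [[nat_lit 37, nat_lit 24]], [], []),
  (nat_lit 0x100000100000001000100000000010000010000000001000100000000010000010000000000000100000100000100000100010100, nat_lit 99, [[nat_lit 5995, nat_lit 5996, nat_lit 5997, nat_lit 5998, nat_lit 7057, nat_lit 7058, nat_lit 7059, nat_lit 7060, nat_lit 14115, nat_lit 14116, nat_lit 14117, nat_lit 14118, nat_lit 15177, nat_lit 15178, nat_lit 15179, nat_lit 15180]], [nat_lit 49, nat_lit 30, nat_lit 13, nat_lit 1], [nat_lit 2092, nat_lit 59, nat_lit 99, nat_lit 1948, nat_lit 24, nat_lit 5817, nat_lit 3, nat_lit 4, nat_lit 8, nat_lit 1, nat_lit 2, nat_lit 6]),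
  (nat_lit 0x101010100000000010000010100010000000101010100000000000000000000000100010001010000000000000000000000000000000000, nat_lit 0, [[nat_lit 64, nat_lit 12]], [], []),
  (nat_lit 0x10101010000010100000101000000000000000000000100000100010001000000000000000000000000000000000100000101000100, nat_lit 0, [[nat_lit 29, nat_lit 23]], [], []),
  (nat_lit 0x10101010000010100000101000000000000000000000100000100010001000000000000000000000000000000000001010000010001, nat_lit 0, [[nat_lit 39, nat_lit 9]], [], []),
  (nat_lit 0x101010100000000000000000000000000000000000000000000010100000101010001000100000100010100010001000000000000000000, nat_lit 0, [[nat_lit 29, nat_lit 6]], [], []),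
  (nat_lit 0x1000001000000010001000000000000010100000000000001000000000001010000010100000100010000000100000000000100010000, nat_lit 99, [[nat_lit 395, nat_lit 719, nat_lit 1065, nat_lit 1075, nat_lit 1186, nat_lit 1344, nat_lit 1423, nat_lit 1733, nat_lit 8515, nat_lit 8839, nat_lit 9185, nat_lit 9195, nat_lit 9306, nat_lit 9464, nat_lit 9543, nat_lit 9853]], [nat_lit 51, nat_lit 47, nat_lit 4, nat_lit 10], [nat_lit 3, nat_lit 18, nat_lit 21, nat_lit 26, nat_lit 9, nat_lit 10, nat_lit 8, nat_lit 13, nat_lit 20, nat_lit 1, nat_lit 2, nat_lit 4]),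
  (nat_lit 0x100010000000000000101000000000001000000000001000001000100010001000000010000010000000001000100000000000100000001, nat_lit 99, [[nat_lit 2067, nat_lit 2072, nat_lit 3162, nat_lit 3163, nat_lit 3168, nat_lit 3169, nat_lit 3191, nat_lit 3196, nat_lit 10187, nat_lit 10192, nat_lit 11282, nat_lit 11283, nat_lit 11288, nat_lit 11289, nat_lit 11311, nat_lit 11316]], [nat_lit 10, nat_lit 30, nat_lit 53, nat_lit 45], [nat_lit 5, nat_lit 66, nat_lit 8, nat_lit 2, nat_lit 12, nat_lit 3, nat_lit 4, nat_lit 6, nat_lit 7, nat_lit 1, nat_lit 10, nat_lit 1756]),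
  (nat_lit 0x1010101010101010000000000000000000000000000000000000000000000000101010101010101, nat_lit 0, [[nat_lit 14, nat_lit 5]], [], []),
  (nat_lit 0x1000001000100010100010000010100000000000101010100000000000000000000010101010000, nat_lit 0, [[nat_lit 40, nat_lit 17]], [], []),
  (nat_lit 0x1010101000000000101000001010100010001000001000000000000000001000100000101000000000000000000, nat_lit 0, [[nat_lit 40, nat_lit 17]], [], []),
  (nat_lit 0x10101010000000001010000010100010001000101000000000000000000000100010100000100000000000000000000000000000000, nat_lit 0, [[nat_lit 44, nat_lit 5]], [], []),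
  (nat_lit 0x101010100000000000000000000000000000000000001010000010100010001000101000001010001000100, nat_lit 0, [[nat_lit 37, nat_lit 24]], [], []),
  (nat_lit 0x101010100000000000101000001000100000101010100000000000000000000000100010001010000000000000000000000000000000000, nat_lit 0, [[nat_lit 49, nat_lit 29]], [], []),
  (nat_lit 0x1010000000000000100000000000100010001000100010000000100000100010000000000000100010000010000000001000100000000, nat_lit 99, [[nat_lit 4, nat_lit 131, nat_lit 254, nat_lit 514, nat_lit 668, nat_lit 1152, nat_lit 1290, nat_lit 1696, nat_lit 8124, nat_lit 8251, nat_lit 8374, nat_lit 8634, nat_lit 8788, nat_lit 9272, nat_lit 9410, nat_lit 9816]], [nat_lit 25, nat_lit 6, nat_lit 16, nat_lit 14], [nat_lit 46, nat_lit 67, nat_lit 17, nat_lit 19, nat_lit 1, nat_lit 3, nat_lit 15, nat_lit 12, nat_lit 18, nat_lit 2, nat_lit 7, nat_lit 4]),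
  (nat_lit 0x1010000010101000100010000010100000100010001000000000000000000000000010101010000000000000000, nat_lit 0, [[nat_lit 31, nat_lit 28]], [], []),
  (nat_lit 0x1010001000001000100000001000000000100010000000001000001000000010001000000000000000000010001000000000101000000, nat_lit 99, [[nat_lit 4098, nat_lit 4802, nat_lit 4809, nat_lit 5242, nat_lit 5410, nat_lit 5498, nat_lit 5732, nat_lit 5733, nat_lit 12218, nat_lit 12922, nat_lit 12929, nat_lit 13362, nat_lit 13530, nat_lit 13618, nat_lit 13852, nat_lit 13853]], [nat_lit 9, nat_lit 42, nat_lit 53, nat_lit 3], [nat_lit 12, nat_lit 14, nat_lit 104, nat_lit 17, nat_lit 22, nat_lit 1896, nat_lit 3, nat_lit 6, nat_lit 7, nat_lit 1, nat_lit 2, nat_lit 5]),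
  (nat_lit 0x1010000010001000000000000000001010000010100000000000000000000000000000000000000010001010000010000000001010101, nat_lit 0, [[nat_lit 29, nat_lit 26]], [], []),
  (nat_lit 0x100000100010001000000000000000000000000000000000100000101000100010100000000010101010000010100000000000000000000, nat_lit 0, [[nat_lit 60, nat_lit 6]], [], []),
  (nat_lit 0x100000101000001000000010000010000000001000100000001000001000000000100010000000000000000000100010100000000000100, nat_lit 99, [[nat_lit 6218, nat_lit 6219, nat_lit 6220, nat_lit 6262, nat_lit 7352, nat_lit 7396, nat_lit 7397, nat_lit 7398, nat_lit 14338, nat_lit 14339, nat_lit 14340, nat_lit 14382, nat_lit 15472, nat_lit 15516, nat_lit 15517, nat_lit 15518]], [nat_lit 22, nat_lit 48, nat_lit 1, nat_lit 36], [nat_lit 1, nat_lit 4, nat_lit 12, nat_lit 6, nat_lit 13, nat_lit 14, nat_lit 17, nat_lit 5816, nat_lit 2, nat_lit 3, nat_lit 5, nat_lit 7]),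
  (nat_lit 0x100000000000001010000000001000000010001000000000001010000000000000000010100000001000100000100010100000001000000, nat_lit 99, [[nat_lit 4155, nat_lit 4161, nat_lit 4316, nat_lit 4882, nat_lit 4915, nat_lit 5004, nat_lit 5387, nat_lit 5796, nat_lit 12275, nat_lit 12281, nat_lit 12436, nat_lit 13002, nat_lit 13035, nat_lit 13124, nat_lit 13507, nat_lit 13916]], [nat_lit 3, nat_lit 8, nat_lit 29, nat_lit 20], [nat_lit 9, nat_lit 10, nat_lit 13, nat_lit 14, nat_lit 5, nat_lit 21, nat_lit 24, nat_lit 1896, nat_lit 2, nat_lit 1, nat_lit 4, nat_lit 3]),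
  (nat_lit 0x1000101000001010101010000000001000001010001000000000000000000000001010000010100000000000000000000000000000000, nat_lit 0, [[nat_lit 35, nat_lit 34]], [], []),
  (nat_lit 0x100000100010001000000000000000000000000000000000001010000010001010100000000010101010000010100000000000000000000, nat_lit 0, [[nat_lit 43, nat_lit 28]], [], []),
  (nat_lit 0x100010000010001010000000100000001000000000000010100000000010000000100010000000000010100000000000000000101000000, nat_lit 99, [[nat_lit 4133, nat_lit 4682, nat_lit 4821, nat_lit 5049, nat_lit 5060, nat_lit 5097, nat_lit 5500, nat_lit 5738, nat_lit 12253, nat_lit 12802, nat_lit 12941, nat_lit 13169, nat_lit 13180, nat_lit 13217, nat_lit 13620, nat_lit 13858]], [nat_lit 20, nat_lit 43, nat_lit 26, nat_lit 4], [nat_lit 21, nat_lit 43, nat_lit 5, nat_lit 6, nat_lit 12, nat_lit 14, nat_lit 4, nat_lit 7, nat_lit 1, nat_lit 2, nat_lit 10, nat_lit 1896]),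
  (nat_lit 0x1000101000001010101010000000000010100000100010000000000000000000001010000010100000000000000000000000000000000, nat_lit 0, [[nat_lit 35, nat_lit 34]], [], []),
  (nat_lit 0x100010001000001010000010001000101000100000101000000000000000000000101000001000100000000000000000000000000000000, nat_lit 99, [[nat_lit 106, nat_lit 132, nat_lit 432, nat_lit 490, nat_lit 493, nat_lit 568, nat_lit 633, nat_lit 676, nat_lit 878, nat_lit 928, nat_lit 1168, nat_lit 1277, nat_lit 1284, nat_lit 1443, nat_lit 1461, nat_lit 1568, nat_lit 8226, nat_lit 8252, nat_lit 8552, nat_lit 8610, nat_lit 8613, nat_lit 8688, nat_lit 8753, nat_lit 8796, nat_lit 8998, nat_lit 9048, nat_lit 9288, nat_lit 9397, nat_lit 9404, nat_lit 9563, nat_lit 9581, nat_lit 9688]], [nat_lit 44, nat_lit 37, nat_lit 16, nat_lit 47, nat_lit 53], [nat_lit 9, nat_lit 37, nat_lit 1, nat_lit 2, nat_lit 6, nat_lit 3, nat_lit 5, nat_lit 4, nat_lit 10, nat_lit 12, nat_lit 13]),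
  (nat_lit 0x100010001000001010000010001000101000100000101000000000000000000010000010100010000000000000000000000000000000000, nat_lit 0, [[nat_lit 55, nat_lit 15]], [], []),
  (nat_lit 0x10001000100000000000100010100010000010100000001000000000100000000010000000001000000010000000001000001, nat_lit 99, [[nat_lit 1946, nat_lit 1990, nat_lit 1991, nat_lit 1995, nat_lit 3014, nat_lit 3018, nat_lit 3019, nat_lit 3075, nat_lit 10066, nat_lit 10110, nat_lit 10111, nat_lit 10115, nat_lit 11134, nat_lit 11138, nat_lit 11139, nat_lit 11195]], [nat_lit 46, nat_lit 50, nat_lit 37, nat_lit 27], [nat_lit 20, nat_lit 31, nat_lit 12, nat_lit 4, nat_lit 2, nat_lit 8, nat_lit 13, nat_lit 7, nat_lit 6, nat_lit 1, nat_lit 1756, nat_lit 1896])]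

def BK49 : List Ent := [(nat_lit 0x10100010000010000000000000100000100000001010000010100010000000100000000000001000100000001000001000000, nat_lit 99, [[nat_lit 4075, nat_lit 4261, nat_lit 4446, nat_lit 4515, nat_lit 4606, nat_lit 4749, nat_lit 5415, nat_lit 5566, nat_lit 12195, nat_lit 12381, nat_lit 12566, nat_lit 12635, nat_lit 12726, nat_lit 12869, nat_lit 13535, nat_lit 13686]], [nat_lit 49, nat_lit 19, nat_lit 37, nat_lit 29], [nat_lit 17, nat_lit 40, nat_lit 19, nat_lit 20, nat_lit 8, nat_lit 23, nat_lit 5, nat_lit 4, nat_lit 1, nat_lit 6, nat_lit 3, nat_lit 1896]),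
  (nat_lit 0x10000010000010000010001010001000000010000000000000100010000010000000001000000010001000000000000000000010001, nat_lit 99, [[nat_lit 2694, nat_lit 2695, nat_lit 2712, nat_lit 2715, nat_lit 3956, nat_lit 3957, nat_lit 3992, nat_lit 3995, nat_lit 10814, nat_lit 10815, nat_lit 10832, nat_lit 10835, nat_lit 12076, nat_lit 12077, nat_lit 12112, nat_lit 12115]], [nat_lit 14, nat_lit 50, nat_lit 41, nat_lit 2], [nat_lit 5, nat_lit 17, nat_lit 20, nat_lit 23, nat_lit 16, nat_lit 12, nat_lit 6, nat_lit 7, nat_lit 1, nat_lit 3, nat_lit 2, nat_lit 1756]),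
  (nat_lit 0x10100010001000100010000010100010101010000000000000000000000000101000000000101, nat_lit 0, [[nat_lit 23, nat_lit 19]], [], []),
  (nat_lit 0x100010000000000000101000000000001000000000001000100010001000100000000010000010000000001000100000000000100000001, nat_lit 99, [[nat_lit 2477, nat_lit 2484, nat_lit 3646, nat_lit 3647, nat_lit 3654, nat_lit 3655, nat_lit 3677, nat_lit 3680, nat_lit 10597, nat_lit 10604, nat_lit 11766, nat_lit 11767, nat_lit 11774, nat_lit 11775, nat_lit 11797, nat_lit 11800]], [nat_lit 27, nat_lit 4, nat_lit 45, nat_lit 20], [nat_lit 19, nat_lit 48, nat_lit 8, nat_lit 2, nat_lit 4, nat_lit 13, nat_lit 1, nat_lit 7, nat_lit 3, nat_lit 5, nat_lit 10, nat_lit 1756]),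
  (nat_lit 0x10001000001010000000000000000000000000000000000000001010101000001010000010100000100010001000001, nat_lit 0, [[nat_lit 19, nat_lit 1]], [], []),
  (nat_lit 0x100000101000100000001010101000001010000010100000000000000000000010000010001000100000000000000000000000000000000, nat_lit 0, [[nat_lit 29, nat_lit 26]], [], []),
  (nat_lit 0x100000000010000010001000000000000010100000000000000000101000000010000010001010000000100000000010000000100010000, nat_lit 99, [[nat_lit 574, nat_lit 705, nat_lit 1063, nat_lit 1107, nat_lit 1569, nat_lit 1630, nat_lit 1687, nat_lit 1719, nat_lit 8694, nat_lit 8825, nat_lit 9183, nat_lit 9227, nat_lit 9689, nat_lit 9750, nat_lit 9807, nat_lit 9839]], [nat_lit 55, nat_lit 20, nat_lit 28, nat_lit 47], [nat_lit 62, nat_lit 22, nat_lit 69, nat_lit 7, nat_lit 38, nat_lit 12, nat_lit 2, nat_lit 5, nat_lit 6, nat_lit 3, nat_lit 8, nat_lit 1]),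
  (nat_lit 0x100010000010100010101010000000000000000000000000101000000000101000000000000000000000000000000000100000100010001, nat_lit 0, [[nat_lit 71, nat_lit 21]], [], []),
  (nat_lit 0x10101010000000001000001010001000101000000000101000000000000000001000100010000010000000000000000, nat_lit 0, [[nat_lit 40, nat_lit 17]], [], []),
  (nat_lit 0x100000100000000010001000000000001000000010100010000000000000101000000000001000000000001000001000100010001, nat_lit 99, [[nat_lit 2753, nat_lit 2764, nat_lit 2765, nat_lit 2766, nat_lit 4043, nat_lit 4044, nat_lit 4045, nat_lit 4052, nat_lit 10873, nat_lit 10884, nat_lit 10885, nat_lit 10886, nat_lit 12163, nat_lit 12164, nat_lit 12165, nat_lit 12172]], [nat_lit 32, nat_lit 44, nat_lit 52, nat_lit 4], [nat_lit 129, nat_lit 4, nat_lit 42, nat_lit 43, nat_lit 10, nat_lit 2, nat_lit 1, nat_lit 6, nat_lit 5, nat_lit 3, nat_lit 12, nat_lit 1756]),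
  (nat_lit 0x100010001010001000001000100010100010000010100000000000000000000010100000100010000000000000000, nat_lit 0, [[nat_lit 40, nat_lit 17]], [], []),
  (nat_lit 0x100010001010001000001000100010100010000010100000000000000000001000001010001000000000000000000, nat_lit 99, [[nat_lit 4270, nat_lit 4287, nat_lit 4361, nat_lit 4390, nat_lit 4391, nat_lit 4506, nat_lit 4537, nat_lit 4742, nat_lit 4827, nat_lit 4829, nat_lit 5093, nat_lit 5118, nat_lit 5122, nat_lit 5202, nat_lit 5677, nat_lit 5709, nat_lit 12390, nat_lit 12407, nat_lit 12481, nat_lit 12510, nat_lit 12511, nat_lit 12626, nat_lit 12657, nat_lit 12862, nat_lit 12947, nat_lit 12949, nat_lit 13213, nat_lit 13238, nat_lit 13242, nat_lit 13322, nat_lit 13797, nat_lit 13829]], [nat_lit 41, nat_lit 39, nat_lit 15, nat_lit 12, nat_lit 11], [nat_lit 56, nat_lit 46, nat_lit 37, nat_lit 9, nat_lit 1, nat_lit 2, nat_lit 7, nat_lit 3, nat_lit 6, nat_lit 5, nat_lit 4]),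
  (nat_lit 0x101010100000000000000000000000001010000000001010000000000000000000000000000000001000001000100010001000101000001, nat_lit 0, [[nat_lit 34, nat_lit 18]], [], []),
  (nat_lit 0x1000000010000000100000000010000000001000000010001000100000000000000000100010000000100000100000100000100010100, nat_lit 99, [[nat_lit 6585, nat_lit 6586, nat_lit 7795, nat_lit 7796, nat_lit 7797, nat_lit 7798, nat_lit 7799, nat_lit 7800, nat_lit 14705, nat_lit 14706, nat_lit 15915, nat_lit 15916, nat_lit 15917, nat_lit 15918, nat_lit 15919, nat_lit 15920]], [nat_lit 28, nat_lit 19, nat_lit 4, nat_lit 41], [nat_lit 48, nat_lit 124, nat_lit 10, nat_lit 7, nat_lit 1, nat_lit 9, nat_lit 13, nat_lit 4, nat_lit 3, nat_lit 2, nat_lit 5, nat_lit 5816]),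
  (nat_lit 0x10101010000000000010100000100010101000000000101000000000000000001000100010000010000000000000000, nat_lit 0, [[nat_lit 41, nat_lit 24]], [], []),
  (nat_lit 0x1000001000100010001000101000001000000000101010100000000000000000101000000000101, nat_lit 0, [[nat_lit 17, nat_lit 9]], [], []),
  (nat_lit 0x1000100000100000000000100010001010001000000000100000100010000000000000101000000000100000000000000010100, nat_lit 99, [[nat_lit 6617, nat_lit 6626, nat_lit 6630, nat_lit 6631, nat_lit 7850, nat_lit 7851, nat_lit 7853, nat_lit 7862, nat_lit 14737, nat_lit 14746, nat_lit 14750, nat_lit 14751, nat_lit 15970, nat_lit 15971, nat_lit 15973, nat_lit 15982]], [nat_lit 10, nat_lit 40, nat_lit 23, nat_lit 33], [nat_lit 39, nat_lit 5, nat_lit 7, nat_lit 11, nat_lit 18, nat_lit 3, nat_lit 6, nat_lit 1, nat_lit 2, nat_lit 8, nat_lit 13, nat_lit 5816]),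
  (nat_lit 0x100010100000100000000000000000000000000000000010100000000010101010000010100000001000100010100, nat_lit 0, [[nat_lit 7, nat_lit 5]], [], []),
  (nat_lit 0x1010000010100000001000000000100010000000001000000010000000100000100010000000000000000010001000100000000000100, nat_lit 99, [[nat_lit 6215, nat_lit 6265, nat_lit 7347, nat_lit 7348, nat_lit 7349, nat_lit 7401, nat_lit 7402, nat_lit 7403, nat_lit 14335, nat_lit 14385, nat_lit 15467, nat_lit 15468, nat_lit 15469, nat_lit 15521, nat_lit 15522, nat_lit 15523]], [nat_lit 9, nat_lit 38, nat_lit 53, nat_lit 40], [nat_lit 10, nat_lit 7, nat_lit 9, nat_lit 33, nat_lit 13, nat_lit 1, nat_lit 4, nat_lit 2, nat_lit 3, nat_lit 5, nat_lit 12, nat_lit 5816]),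
  (nat_lit 0x100000101000001010000000100000000000001000100000001000001000000000000000001010001000001000000000000010000010000, nat_lit 99, [[nat_lit 218, nat_lit 665, nat_lit 775, nat_lit 804, nat_lit 915, nat_lit 969, nat_lit 978, nat_lit 1429, nat_lit 8338, nat_lit 8785, nat_lit 8895, nat_lit 8924, nat_lit 9035, nat_lit 9089, nat_lit 9098, nat_lit 9549]], [nat_lit 15, nat_lit 34, nat_lit 30, nat_lit 52], [nat_lit 4, nat_lit 12, nat_lit 5, nat_lit 14, nat_lit 13, nat_lit 7, nat_lit 3, nat_lit 8, nat_lit 2, nat_lit 6, nat_lit 1, nat_lit 9]),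
  (nat_lit 0x1010000010001000001010101000001010000010100000000000000000000010000010001000100000000000000000000000000000000, nat_lit 0, [[nat_lit 29, nat_lit 26]], [], []),
  (nat_lit 0x10001000001000001000001000001010000010000000100000100000001000100000001000000000100000000000000010100, nat_lit 99, [[nat_lit 6024, nat_lit 6027, nat_lit 6028, nat_lit 6029, nat_lit 7106, nat_lit 7107, nat_lit 7108, nat_lit 7111, nat_lit 14144, nat_lit 14147, nat_lit 14148, nat_lit 14149, nat_lit 15226, nat_lit 15227, nat_lit 15228, nat_lit 15231]], [nat_lit 25, nat_lit 1, nat_lit 10, nat_lit 19], [nat_lit 2053, nat_lit 99, nat_lit 124, nat_lit 31, nat_lit 37, nat_lit 5816, nat_lit 1, nat_lit 2, nat_lit 4, nat_lit 3, nat_lit 6, nat_lit 10]),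
  (nat_lit 0x10001010000000000010001000001010000010000000100000100000000010001000000010000010000000001000100000000, nat_lit 99, [[nat_lit 628, nat_lit 686, nat_lit 972, nat_lit 1161, nat_lit 1224, nat_lit 1566, nat_lit 1604, nat_lit 1643, nat_lit 8748, nat_lit 8806, nat_lit 9092, nat_lit 9281, nat_lit 9344, nat_lit 9686, nat_lit 9724, nat_lit 9763]], [nat_lit 50, nat_lit 4, nat_lit 32, nat_lit 25], [nat_lit 8, nat_lit 13, nat_lit 19, nat_lit 1, nat_lit 22, nat_lit 2, nat_lit 14, nat_lit 10, nat_lit 12, nat_lit 3, nat_lit 4, nat_lit 6]),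
  (nat_lit 0x1000000000001000100010001000100000001000001000100000000000001000100000100000000010001000000000001010000000000, nat_lit 99, [[nat_lit 4486, nat_lit 4490, nat_lit 4852, nat_lit 4905, nat_lit 5089, nat_lit 5161, nat_lit 5589, nat_lit 5707, nat_lit 12606, nat_lit 12610, nat_lit 12972, nat_lit 13025, nat_lit 13209, nat_lit 13281, nat_lit 13709, nat_lit 13827]], [nat_lit 31, nat_lit 54, nat_lit 14, nat_lit 42], [nat_lit 2, nat_lit 8, nat_lit 16, nat_lit 23, nat_lit 19, nat_lit 18, nat_lit 3, nat_lit 5, nat_lit 4, nat_lit 6, nat_lit 1, nat_lit 9])]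

def BK50 : List Ent := [(nat_lit 0x101010100000000000000000000000000000101010100000000000000000000000000000000000000010100010001000001000101000001, nat_lit 0, [[nat_lit 34, nat_lit 27]], [], []),
  (nat_lit 0x10000010000010000010001010000000001000001000000010001000000000100000100000000010001000000000100000100000000, nat_lit 99, [[nat_lit 233, nat_lit 496, nat_lit 520, nat_lit 862, nat_lit 1171, nat_lit 1178, nat_lit 1670, nat_lit 1684, nat_lit 8353, nat_lit 8616, nat_lit 8640, nat_lit 8982, nat_lit 9291, nat_lit 9298, nat_lit 9790, nat_lit 9804]], [nat_lit 4, nat_lit 33, nat_lit 22, nat_lit 42], [nat_lit 22, nat_lit 26, nat_lit 8, nat_lit 2, nat_lit 10, nat_lit 9, nat_lit 12, nat_lit 3, nat_lit 4, nat_lit 5, nat_lit 7, nat_lit 1]),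
  (nat_lit 0x1000100010100000000000000000001000100000101000000000000000000000000000000000000000101010100000000010100000101, nat_lit 0, [[nat_lit 41, nat_lit 37]], [], []),
  (nat_lit 0x1000000000100000001000000010000000000000101000001010000000000000001000001000001000001010000010001000000010000, nat_lit 99, [[nat_lit 282, nat_lit 298, nat_lit 919, nat_lit 1010, nat_lit 1053, nat_lit 1104, nat_lit 1222, nat_lit 1680, nat_lit 8402, nat_lit 8418, nat_lit 9039, nat_lit 9130, nat_lit 9173, nat_lit 9224, nat_lit 9342, nat_lit 9800]], [nat_lit 33, nat_lit 29, nat_lit 49, nat_lit 2], [nat_lit 17, nat_lit 3, nat_lit 6, nat_lit 26, nat_lit 12, nat_lit 2, nat_lit 15, nat_lit 1, nat_lit 14, nat_lit 4, nat_lit 5, nat_lit 7]),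
  (nat_lit 0x100000100000001000100000001000000000100000000000000010100000000000001000100000100000100000100000101000001, nat_lit 99, [[nat_lit 2510, nat_lit 2515, nat_lit 3714, nat_lit 3715, nat_lit 3716, nat_lit 3721, nat_lit 3722, nat_lit 3723, nat_lit 10630, nat_lit 10635, nat_lit 11834, nat_lit 11835, nat_lit 11836, nat_lit 11841, nat_lit 11842, nat_lit 11843]], [nat_lit 25, nat_lit 16, nat_lit 13, nat_lit 39], [nat_lit 42, nat_lit 2, nat_lit 8, nat_lit 4, nat_lit 6, nat_lit 10, nat_lit 15, nat_lit 1, nat_lit 5, nat_lit 3, nat_lit 1756, nat_lit 1896]),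
  (nat_lit 0x100000100010100010000000100000000000001000100000100000000010000000100010000000000000000000100010000010000010000, nat_lit 99, [[nat_lit 38, nat_lit 742, nat_lit 749, nat_lit 1182, nat_lit 1350, nat_lit 1438, nat_lit 1672, nat_lit 1673, nat_lit 8158, nat_lit 8862, nat_lit 8869, nat_lit 9302, nat_lit 9470, nat_lit 9558, nat_lit 9792, nat_lit 9793]], [nat_lit 20, nat_lit 43, nat_lit 26, nat_lit 55], [nat_lit 11, nat_lit 48, nat_lit 21, nat_lit 2, nat_lit 1, nat_lit 13, nat_lit 4, nat_lit 3, nat_lit 6, nat_lit 7, nat_lit 9, nat_lit 12]),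
  (nat_lit 0x100010000010100000000000000000000000000000000000000010101010000000001010000010100010001000101000000000000000000, nat_lit 0, [[nat_lit 8, nat_lit 2]], [], []),
  (nat_lit 0x10000000100000100010000000001000001000000000001000000000001000100010001000100000100000000010000010001000000, nat_lit 99, [[nat_lit 4061, nat_lit 4175, nat_lit 4570, nat_lit 5322, nat_lit 5433, nat_lit 5492, nat_lit 5704, nat_lit 5734, nat_lit 12181, nat_lit 12295, nat_lit 12690, nat_lit 13442, nat_lit 13553, nat_lit 13612, nat_lit 13824, nat_lit 13854]], [nat_lit 36, nat_lit 5, nat_lit 18, nat_lit 53], [nat_lit 66, nat_lit 17, nat_lit 4, nat_lit 2, nat_lit 14, nat_lit 6, nat_lit 3, nat_lit 5, nat_lit 7, nat_lit 10, nat_lit 12, nat_lit 1896]),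
  (nat_lit 0x100000000000100000100010100010000000100000000010001000000000100000100000100000000000000010000010000000000010001, nat_lit 99, [[nat_lit 2677, nat_lit 2678, nat_lit 3941, nat_lit 3942, nat_lit 4006, nat_lit 4007, nat_lit 4008, nat_lit 4009, nat_lit 10797, nat_lit 10798, nat_lit 12061, nat_lit 12062, nat_lit 12126, nat_lit 12127, nat_lit 12128, nat_lit 12129]], [nat_lit 32, nat_lit 0, nat_lit 49, nat_lit 41], [nat_lit 29, nat_lit 65, nat_lit 3, nat_lit 6, nat_lit 10, nat_lit 11, nat_lit 18, nat_lit 1757, nat_lit 1, nat_lit 2, nat_lit 5, nat_lit 7]),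
  (nat_lit 0x101000001010001000100010100000101000100010000000000000000000000000001010101, nat_lit 0, [[nat_lit 25, nat_lit 22]], [], []),
  (nat_lit 0x1010001000100010001000001010000000000010101010000000000000000010100000000010100000000000000000000000000000000, nat_lit 0, [[nat_lit 10, nat_lit 4]], [], []),
  (nat_lit 0x101000001010000000100010001010001000001000100010000000000000000000000000101010100000000000000000000000000000000, nat_lit 0, [[nat_lit 55, nat_lit 15]], [], []),
  (nat_lit 0x1000000010000000001000100000000000001000000010001000100000000010000010000000000000001010000000001000101000100, nat_lit 99, [[nat_lit 6794, nat_lit 6795, nat_lit 6796, nat_lit 6801, nat_lit 8078, nat_lit 8083, nat_lit 8084, nat_lit 8085, nat_lit 14914, nat_lit 14915, nat_lit 14916, nat_lit 14921, nat_lit 16198, nat_lit 16203, nat_lit 16204, nat_lit 16205]], [nat_lit 30, nat_lit 43, nat_lit 3, nat_lit 32], [nat_lit 8, nat_lit 2, nat_lit 59, nat_lit 15, nat_lit 99, nat_lit 1896, nat_lit 1, nat_lit 18, nat_lit 9, nat_lit 4, nat_lit 6, nat_lit 5816]),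
  (nat_lit 0x1000100000001000001000000010001000100010100000001000000000000010001000000000001000000010000000001000001, nat_lit 99, [[nat_lit 2538, nat_lit 2591, nat_lit 3760, nat_lit 3761, nat_lit 3762, nat_lit 3827, nat_lit 3828, nat_lit 3829, nat_lit 10658, nat_lit 10711, nat_lit 11880, nat_lit 11881, nat_lit 11882, nat_lit 11947, nat_lit 11948, nat_lit 11949]], [nat_lit 12, nat_lit 27, nat_lit 20, nat_lit 45], [nat_lit 27, nat_lit 12, nat_lit 1, nat_lit 2, nat_lit 4, nat_lit 6, nat_lit 5, nat_lit 3, nat_lit 7, nat_lit 13, nat_lit 1756, nat_lit 1896]),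
  (nat_lit 0x1010101000000000101000001010100010001000001000000000000000000010001010000010000000000000000, nat_lit 0, [[nat_lit 31, nat_lit 18]], [], []),
  (nat_lit 0x100010100000100000000000000000000000000000000010100000000010100000101000001010100010001000001, nat_lit 0, [[nat_lit 34, nat_lit 23]], [], []),
  (nat_lit 0x101010100000000000000000000000000000000010100000101000001000100010000010001010001000100, nat_lit 0, [[nat_lit 37, nat_lit 24]], [], []),
  (nat_lit 0x10100000000010100000000000000000000000000000000010000010001000101000100000101000000000001010101, nat_lit 0, [[nat_lit 17, nat_lit 15]], [], []),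
  (nat_lit 0x10101010000000001010000010100000000000000000100000100010001000000000000000000000000000000000100000101000100, nat_lit 0, [[nat_lit 44, nat_lit 5]], [], []),
  (nat_lit 0x10101010000000001010000010100000000000000000100000100010001000000000000000000000000000000000001010000010001, nat_lit 0, [[nat_lit 44, nat_lit 5]], [], []),
  (nat_lit 0x100000100010000000000000100000001000000010100010000000000000000000001000100010000000000010001010000010100, nat_lit 99, [[nat_lit 6083, nat_lit 6084, nat_lit 6085, nat_lit 6094, nat_lit 7185, nat_lit 7194, nat_lit 7195, nat_lit 7196, nat_lit 14203, nat_lit 14204, nat_lit 14205, nat_lit 14214, nat_lit 15305, nat_lit 15314, nat_lit 15315, nat_lit 15316]], [nat_lit 29, nat_lit 47, nat_lit 52, nat_lit 32], [nat_lit 18, nat_lit 21, nat_lit 1, nat_lit 2, nat_lit 8, nat_lit 10, nat_lit 12, nat_lit 4, nat_lit 6, nat_lit 3, nat_lit 9, nat_lit 5816]),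
  (nat_lit 0x10000000100000000000100000100000000000100010000000101000000000101000001010000000001000001000001000000000100, nat_lit 99, [[nat_lit 6329, nat_lit 6330, nat_lit 6377, nat_lit 6378, nat_lit 7489, nat_lit 7490, nat_lit 7545, nat_lit 7546, nat_lit 14449, nat_lit 14450, nat_lit 14497, nat_lit 14498, nat_lit 15609, nat_lit 15610, nat_lit 15665, nat_lit 15666]], [nat_lit 27, nat_lit 32, nat_lit 17, nat_lit 12], [nat_lit 17, nat_lit 11, nat_lit 9, nat_lit 32, nat_lit 34, nat_lit 15, nat_lit 2, nat_lit 1, nat_lit 6, nat_lit 5, nat_lit 4, nat_lit 5816]),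
  (nat_lit 0x10000010000000101000100000100000100000000010100000000000001000001000000010000010001000000000001010000000000, nat_lit 99, [[nat_lit 4088, nat_lit 4140, nat_lit 4218, nat_lit 4363, nat_lit 4472, nat_lit 5193, nat_lit 5319, nat_lit 5323, nat_lit 12208, nat_lit 12260, nat_lit 12338, nat_lit 12483, nat_lit 12592, nat_lit 13313, nat_lit 13439, nat_lit 13443]], [nat_lit 21, nat_lit 24, nat_lit 40, nat_lit 12], [nat_lit 63, nat_lit 21, nat_lit 47, nat_lit 43, nat_lit 11, nat_lit 5, nat_lit 6, nat_lit 7, nat_lit 4, nat_lit 2, nat_lit 1, nat_lit 9]),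
  (nat_lit 0x100000001010001000000000000010100000000000100000000000100010001000100010000000001000001000000000100010000, nat_lit 99, [[nat_lit 1, nat_lit 115, nat_lit 510, nat_lit 1262, nat_lit 1373, nat_lit 1432, nat_lit 1644, nat_lit 1674, nat_lit 8121, nat_lit 8235, nat_lit 8630, nat_lit 9382, nat_lit 9493, nat_lit 9552, nat_lit 9764, nat_lit 9794]], [nat_lit 37, nat_lit 45, nat_lit 19, nat_lit 4], [nat_lit 27, nat_lit 11, nat_lit 10, nat_lit 24, nat_lit 20, nat_lit 26, nat_lit 9, nat_lit 2, nat_lit 4, nat_lit 5, nat_lit 3, nat_lit 1]),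
  (nat_lit 0x10100000101000000000000000000000000000000000001000101000001010101010000000000010100000100010000000000000000, nat_lit 0, [[nat_lit 43, nat_lit 28]], [], []),
  (nat_lit 0x10100000101000000000000000000000000000000000001000101000001010101010000000001000001010001000000000000000000, nat_lit 0, [[nat_lit 35, nat_lit 13]], [], []),
  (nat_lit 0x100000000000001000100000100000000000000010000010100000100000000000001000001000001000100010001000000010000000001, nat_lit 99, [[nat_lit 2116, nat_lit 2131, nat_lit 2132, nat_lit 2133, nat_lit 3228, nat_lit 3229, nat_lit 3230, nat_lit 3257, nat_lit 10236, nat_lit 10251, nat_lit 10252, nat_lit 10253, nat_lit 11348, nat_lit 11349, nat_lit 11350, nat_lit 11377]], [nat_lit 18, nat_lit 15, nat_lit 35, nat_lit 43], [nat_lit 23, nat_lit 7, nat_lit 10, nat_lit 9, nat_lit 16, nat_lit 5, nat_lit 1, nat_lit 12, nat_lit 13, nat_lit 4, nat_lit 2, nat_lit 1756]),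
  (nat_lit 0x1000100010001000000010000010001000000000000010001000001000000000100010000000000010100000000000001000000000001, nat_lit 99, [[nat_lit 2352, nat_lit 2353, nat_lit 2354, nat_lit 2364, nat_lit 3514, nat_lit 3526, nat_lit 3527, nat_lit 3528, nat_lit 10472, nat_lit 10473, nat_lit 10474, nat_lit 10484, nat_lit 11634, nat_lit 11646, nat_lit 11647, nat_lit 11648]], [nat_lit 30, nat_lit 14, nat_lit 41, nat_lit 52], [nat_lit 1, nat_lit 3, nat_lit 8, nat_lit 11, nat_lit 17, nat_lit 2, nat_lit 15, nat_lit 18, nat_lit 9, nat_lit 4, nat_lit 6, nat_lit 1756]),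
  (nat_lit 0x100010001000001010000010001000100000000000000000101010100000000000000000000000000000000000000000000010100000101, nat_lit 0, [[nat_lit 64, nat_lit 12]], [], []),
  (nat_lit 0x1000000000001000100010001000100010000000100000000000100010000000000010000000100010001000000000000000000010001, nat_lit 99, [[nat_lit 2696, nat_lit 2699, nat_lit 3960, nat_lit 3963, nat_lit 3986, nat_lit 3987, nat_lit 3990, nat_lit 3991, nat_lit 10816, nat_lit 10819, nat_lit 12080, nat_lit 12083, nat_lit 12106, nat_lit 12107, nat_lit 12110, nat_lit 12111]], [nat_lit 0, nat_lit 12, nat_lit 26, nat_lit 48], [nat_lit 1757, nat_lit 1, nat_lit 21, nat_lit 26, nat_lit 15, nat_lit 2, nat_lit 12, nat_lit 3, nat_lit 6, nat_lit 8, nat_lit 9, nat_lit 4]),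
  (nat_lit 0x10000000001010000000000000100010000010000000000000001000001010000010000000000000100000100000001000100010001, nat_lit 99, [[nat_lit 1760, nat_lit 1761, nat_lit 1762, nat_lit 1767, nat_lit 2784, nat_lit 2789, nat_lit 2790, nat_lit 2791, nat_lit 9880, nat_lit 9881, nat_lit 9882, nat_lit 9887, nat_lit 10904, nat_lit 10909, nat_lit 10910, nat_lit 10911]], [nat_lit 40, nat_lit 27, nat_lit 38, nat_lit 4], [nat_lit 27, nat_lit 8, nat_lit 25, nat_lit 4, nat_lit 10, nat_lit 3, nat_lit 1, nat_lit 5, nat_lit 2, nat_lit 7, nat_lit 6, nat_lit 1756])]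

def BK51 : List Ent := [(nat_lit 0x1010000000000000000010100000000010100000101000001000000010000000001000100000001000000000100000000000001000001, nat_lit 99, [[nat_lit 2549, nat_lit 2578, nat_lit 3781, nat_lit 3782, nat_lit 3783, nat_lit 3808, nat_lit 3809, nat_lit 3810, nat_lit 10669, nat_lit 10698, nat_lit 11901, nat_lit 11902, nat_lit 11903, nat_lit 11928, nat_lit 11929, nat_lit 11930]], [nat_lit 54, nat_lit 10, nat_lit 43, nat_lit 38], [nat_lit 17, nat_lit 6, nat_lit 3, nat_lit 7, nat_lit 2, nat_lit 4, nat_lit 5, nat_lit 9, nat_lit 1, nat_lit 8, nat_lit 1756, nat_lit 1896]),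
  (nat_lit 0x100000000000100010001000100010001000000010000000000010001000000000001000000010001000100000000000000000001000100, nat_lit 99, [[nat_lit 6756, nat_lit 6759, nat_lit 8020, nat_lit 8023, nat_lit 8046, nat_lit 8047, nat_lit 8050, nat_lit 8051, nat_lit 14876, nat_lit 14879, nat_lit 16140, nat_lit 16143, nat_lit 16166, nat_lit 16167, nat_lit 16170, nat_lit 16171]], [nat_lit 3, nat_lit 39, nat_lit 21, nat_lit 55], [nat_lit 39, nat_lit 25, nat_lit 35, nat_lit 1, nat_lit 3, nat_lit 7, nat_lit 18, nat_lit 1896, nat_lit 5, nat_lit 2, nat_lit 8, nat_lit 5816]),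
  (nat_lit 0x10101010000000000000000000000000000000000000001010001000100000100010100000100000000010101010000000000000000, nat_lit 0, [[nat_lit 25, nat_lit 12]], [], []),
  (nat_lit 0x10101010101010100000000000000000101010101010101, nat_lit 0, [[nat_lit 7, nat_lit 5]], [], []),
  (nat_lit 0x100000100000000000001000001000001000100010001000000010000000001010000000000000100010000010000000000000001000001, nat_lit 99, [[nat_lit 1962, nat_lit 1972, nat_lit 1973, nat_lit 1975, nat_lit 3038, nat_lit 3042, nat_lit 3043, nat_lit 3055, nat_lit 10082, nat_lit 10092, nat_lit 10093, nat_lit 10095, nat_lit 11158, nat_lit 11162, nat_lit 11163, nat_lit 11175]], [nat_lit 14, nat_lit 52, nat_lit 39, nat_lit 24], [nat_lit 18, nat_lit 7, nat_lit 9, nat_lit 23, nat_lit 1, nat_lit 10, nat_lit 4, nat_lit 2, nat_lit 3, nat_lit 5, nat_lit 1756, nat_lit 1896]),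
  (nat_lit 0x1000100000000010100000001000100000100010000000100000100000100000000010000010000010000000001000100000000, nat_lit 99, [[nat_lit 315, nat_lit 497, nat_lit 534, nat_lit 941, nat_lit 965, nat_lit 1245, nat_lit 1324, nat_lit 1393, nat_lit 8435, nat_lit 8617, nat_lit 8654, nat_lit 9061, nat_lit 9085, nat_lit 9365, nat_lit 9444, nat_lit 9513]], [nat_lit 51, nat_lit 44, nat_lit 25, nat_lit 32], [nat_lit 28, nat_lit 13, nat_lit 33, nat_lit 6, nat_lit 14, nat_lit 2, nat_lit 3, nat_lit 4, nat_lit 8, nat_lit 1, nat_lit 10, nat_lit 12]),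
  (nat_lit 0x100000100000001000100000000000001000000010100010000000000000000000100010000000100000100000100010000010001, nat_lit 99, [[nat_lit 1790, nat_lit 1795, nat_lit 2802, nat_lit 2803, nat_lit 2804, nat_lit 2809, nat_lit 2810, nat_lit 2811, nat_lit 9910, nat_lit 9915, nat_lit 10922, nat_lit 10923, nat_lit 10924, nat_lit 10929, nat_lit 10930, nat_lit 10931]], [nat_lit 45, nat_lit 7, nat_lit 10, nat_lit 36], [nat_lit 3, nat_lit 4, nat_lit 7, nat_lit 11, nat_lit 5, nat_lit 6, nat_lit 2, nat_lit 12, nat_lit 13, nat_lit 1, nat_lit 9, nat_lit 1756]),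
  (nat_lit 0x1000000000100000001000000010000000000010000010000000000010001000000010100000000010100000101000000000100000100, nat_lit 99, [[nat_lit 6457, nat_lit 6490, nat_lit 6491, nat_lit 6492, nat_lit 7627, nat_lit 7628, nat_lit 7629, nat_lit 7678, nat_lit 14577, nat_lit 14610, nat_lit 14611, nat_lit 14612, nat_lit 15747, nat_lit 15748, nat_lit 15749, nat_lit 15798]], [nat_lit 9, nat_lit 41, nat_lit 1, nat_lit 32], [nat_lit 451, nat_lit 17, nat_lit 2, nat_lit 12, nat_lit 25, nat_lit 15, nat_lit 16, nat_lit 5816, nat_lit 1, nat_lit 3, nat_lit 4, nat_lit 6]),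
  (nat_lit 0x10100000000000100010000010000000000010100010000010001000000010000010001000000000000010100000000010000, nat_lit 99, [[nat_lit 32, nat_lit 161, nat_lit 729, nat_lit 1153, nat_lit 1191, nat_lit 1241, nat_lit 1482, nat_lit 1723, nat_lit 8152, nat_lit 8281, nat_lit 8849, nat_lit 9273, nat_lit 9311, nat_lit 9361, nat_lit 9602, nat_lit 9843]], [nat_lit 38, nat_lit 49, nat_lit 43, nat_lit 31], [nat_lit 4, nat_lit 10, nat_lit 26, nat_lit 1, nat_lit 13, nat_lit 17, nat_lit 5, nat_lit 11, nat_lit 2, nat_lit 3, nat_lit 6, nat_lit 7]),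
  (nat_lit 0x101000001010000010001000100000100000000000000000100010000010100000000000000000000000000000000000101000000000101, nat_lit 0, [[nat_lit 33, nat_lit 12]], [], []),
  (nat_lit 0x1010101010000010100010000000000000000000101000001010000000000000000000000000000000000000100010000010100, nat_lit 0, [[nat_lit 22, nat_lit 17]], [], []),
  (nat_lit 0x1000100010001010000000100000000000100010000000000010000000100010001000000000000000000010001000100000000000100, nat_lit 99, [[nat_lit 6210, nat_lit 6211, nat_lit 6212, nat_lit 6268, nat_lit 6269, nat_lit 6270, nat_lit 7344, nat_lit 7406, nat_lit 14330, nat_lit 14331, nat_lit 14332, nat_lit 14388, nat_lit 14389, nat_lit 14390, nat_lit 15464, nat_lit 15526]], [nat_lit 11, nat_lit 21, nat_lit 35, nat_lit 29], [nat_lit 14, nat_lit 5, nat_lit 7, nat_lit 22, nat_lit 15, nat_lit 2, nat_lit 3, nat_lit 4, nat_lit 6, nat_lit 8, nat_lit 1, nat_lit 5816]),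
  (nat_lit 0x101000000000101000000000000000000010001000101000000000000000000000000000000000000000000010101010100000101000100, nat_lit 0, [[nat_lit 25, nat_lit 14]], [], []),
  (nat_lit 0x101000000000101000000000000000000010001000101000000000000000000000000000000000000000000010101010001010000010001, nat_lit 0, [[nat_lit 25, nat_lit 14]], [], []),
  (nat_lit 0x10100000101000100010001010000010100010001000000000000000000000000000101010100000000000000000000000000000000, nat_lit 0, [[nat_lit 55, nat_lit 15]], [], []),
  (nat_lit 0x100010001000001000101000100010000000000000000000000000001010101000000000000000000000000000000000101000001010000, nat_lit 0, [[nat_lit 25, nat_lit 5]], [], []),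
  (nat_lit 0x100000100010001000000000000000000000000010101010000000000000000000000000000000001010000010100000001000100010100, nat_lit 0, [[nat_lit 34, nat_lit 23]], [], []),
  (nat_lit 0x1000000000001010001000100010000000100000000010000010001000000000001000000010000010001000000000100000100000000, nat_lit 99, [[nat_lit 178, nat_lit 183, nat_lit 461, nat_lit 498, nat_lit 598, nat_lit 744, nat_lit 914, nat_lit 1006, nat_lit 8298, nat_lit 8303, nat_lit 8581, nat_lit 8618, nat_lit 8718, nat_lit 8864, nat_lit 9034, nat_lit 9126]], [nat_lit 17, nat_lit 48, nat_lit 45, nat_lit 14], [nat_lit 14, nat_lit 17, nat_lit 22, nat_lit 5, nat_lit 9, nat_lit 20, nat_lit 6, nat_lit 4, nat_lit 10, nat_lit 2, nat_lit 3, nat_lit 1]),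
  (nat_lit 0x1010101000101000001000100000000000000000101000001010000000000000000000000000000000000000100010000010100, nat_lit 0, [[nat_lit 22, nat_lit 17]], [], []),
  (nat_lit 0x100000001000000000100000101000001000000000000000101000000010000010100000101000000010000000100000000000001, nat_lit 99, [[nat_lit 2234, nat_lit 2235, nat_lit 2244, nat_lit 2245, nat_lit 3374, nat_lit 3379, nat_lit 3388, nat_lit 3393, nat_lit 10354, nat_lit 10355, nat_lit 10364, nat_lit 10365, nat_lit 11494, nat_lit 11499, nat_lit 11508, nat_lit 11513]], [nat_lit 15, nat_lit 48, nat_lit 43, nat_lit 28], [nat_lit 17, nat_lit 98, nat_lit 1, nat_lit 31, nat_lit 3, nat_lit 6, nat_lit 13, nat_lit 14, nat_lit 2, nat_lit 4, nat_lit 10, nat_lit 1756]),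
  (nat_lit 0x1000000000001010001000001000100000001000001000100000000000001010000000001000000000000000101000000000001000100, nat_lit 99, [[nat_lit 6737, nat_lit 6738, nat_lit 8001, nat_lit 8002, nat_lit 8066, nat_lit 8067, nat_lit 8068, nat_lit 8069, nat_lit 14857, nat_lit 14858, nat_lit 16121, nat_lit 16122, nat_lit 16186, nat_lit 16187, nat_lit 16188, nat_lit 16189]], [nat_lit 42, nat_lit 36, nat_lit 3, nat_lit 23], [nat_lit 8, nat_lit 4, nat_lit 48, nat_lit 11, nat_lit 19, nat_lit 20, nat_lit 17, nat_lit 1896, nat_lit 1, nat_lit 2, nat_lit 3, nat_lit 5816]),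
  (nat_lit 0x100000001000000000100000100000000000100010001000000000001010000010001010001000000010000000001000000000100, nat_lit 99, [[nat_lit 6288, nat_lit 6291, nat_lit 6308, nat_lit 6311, nat_lit 7424, nat_lit 7427, nat_lit 7460, nat_lit 7463, nat_lit 14408, nat_lit 14411, nat_lit 14428, nat_lit 14431, nat_lit 15544, nat_lit 15547, nat_lit 15580, nat_lit 15583]], [nat_lit 34, nat_lit 17, nat_lit 43, nat_lit 30], [nat_lit 9, nat_lit 3, nat_lit 5, nat_lit 18, nat_lit 8, nat_lit 10, nat_lit 4, nat_lit 2, nat_lit 12, nat_lit 1, nat_lit 6, nat_lit 5816])]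

def BK52 : List Ent := [(nat_lit 0x1010001000100010001000001010000000000000000000100000101000100000000000000000000000000000000000001000100010100, nat_lit 0, [[nat_lit 52, nat_lit 21]], [], []),
  (nat_lit 0x101000100010001000100000101000101010100000000000000000000000001010000000001010000000000000000, nat_lit 0, [[nat_lit 40, nat_lit 17]], [], []),
  (nat_lit 0x100010000010100000000000000000000000000000000000000010101010000010100000101000001000100010000010000000000000000, nat_lit 0, [[nat_lit 43, nat_lit 28]], [], []),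
  (nat_lit 0x100000000000100010000010001010000000001000001000000000100010000010000000001000000000000000101000100000100000000, nat_lit 99, [[nat_lit 3, nat_lit 226, nat_lit 670, nat_lit 770, nat_lit 924, nat_lit 962, nat_lit 1634, nat_lit 1693, nat_lit 8123, nat_lit 8346, nat_lit 8790, nat_lit 8890, nat_lit 9044, nat_lit 9082, nat_lit 9754, nat_lit 9813]], [nat_lit 33, nat_lit 28, nat_lit 4, nat_lit 9], [nat_lit 22, nat_lit 25, nat_lit 14, nat_lit 21, nat_lit 1, nat_lit 4, nat_lit 12, nat_lit 6, nat_lit 10, nat_lit 5, nat_lit 15, nat_lit 2]),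
  (nat_lit 0x100000100010100010000000100000000000100010000000001000001000000000000000001010000000000000100010100000000000100, nat_lit 99, [[nat_lit 6216, nat_lit 6217, nat_lit 6221, nat_lit 6263, nat_lit 7353, nat_lit 7394, nat_lit 7395, nat_lit 7399, nat_lit 14336, nat_lit 14337, nat_lit 14341, nat_lit 14383, nat_lit 15473, nat_lit 15514, nat_lit 15515, nat_lit 15519]], [nat_lit 37, nat_lit 18, nat_lit 1, nat_lit 47], [nat_lit 63, nat_lit 1, nat_lit 12, nat_lit 17, nat_lit 40, nat_lit 20, nat_lit 6, nat_lit 5816, nat_lit 2, nat_lit 3, nat_lit 5, nat_lit 7]),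
  (nat_lit 0x100010001010000000000000000000000000000000000010101010000000000010100000100010101000000000101, nat_lit 0, [[nat_lit 37, nat_lit 24]], [], []),
  (nat_lit 0x100010001010000000000000000000000000000000000010101010000000001000001010001000101000000000101, nat_lit 0, [[nat_lit 37, nat_lit 24]], [], []),
  (nat_lit 0x101000000010000010001010000000001000001000001000000000100000000010000000101000100000000000100000100000000, nat_lit 99, [[nat_lit 28, nat_lit 80, nat_lit 158, nat_lit 303, nat_lit 412, nat_lit 1133, nat_lit 1259, nat_lit 1263, nat_lit 8148, nat_lit 8200, nat_lit 8278, nat_lit 8423, nat_lit 8532, nat_lit 9253, nat_lit 9379, nat_lit 9383]], [nat_lit 51, nat_lit 44, nat_lit 30, nat_lit 36], [nat_lit 9, nat_lit 45, nat_lit 61, nat_lit 20, nat_lit 5, nat_lit 2, nat_lit 12, nat_lit 10, nat_lit 4, nat_lit 1, nat_lit 3, nat_lit 6]),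
  (nat_lit 0x10000000100000100010000000000000000010001000100000000000100010000010100000100000100000000010001000000000100, nat_lit 99, [[nat_lit 6335, nat_lit 6336, nat_lit 6337, nat_lit 6338, nat_lit 7533, nat_lit 7534, nat_lit 7535, nat_lit 7536, nat_lit 14455, nat_lit 14456, nat_lit 14457, nat_lit 14458, nat_lit 15653, nat_lit 15654, nat_lit 15655, nat_lit 15656]], [nat_lit 35, nat_lit 6, nat_lit 49, nat_lit 20], [nat_lit 7, nat_lit 29, nat_lit 5, nat_lit 6, nat_lit 3, nat_lit 11, nat_lit 12, nat_lit 15, nat_lit 2, nat_lit 4, nat_lit 1, nat_lit 5816]),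
  (nat_lit 0x101010100000101000001010000000100010001010000000000000000000100010000010100, nat_lit 0, [[nat_lit 43, nat_lit 28]], [], []),
  (nat_lit 0x1010001000100010001000001010000000000000000000001010000010001000000000000000000000000000000000001000100010100, nat_lit 99, [[nat_lit 5979, nat_lit 5984, nat_lit 6073, nat_lit 6074, nat_lit 6591, nat_lit 6592, nat_lit 6657, nat_lit 6658, nat_lit 7049, nat_lit 7050, nat_lit 7163, nat_lit 7168, nat_lit 7815, nat_lit 7816, nat_lit 7893, nat_lit 7894, nat_lit 14099, nat_lit 14104, nat_lit 14193, nat_lit 14194, nat_lit 14711, nat_lit 14712, nat_lit 14777, nat_lit 14778, nat_lit 15169, nat_lit 15170, nat_lit 15283, nat_lit 15288, nat_lit 15935, nat_lit 15936, nat_lit 16013, nat_lit 16014]], [nat_lit 42, nat_lit 29, nat_lit 47, nat_lit 2, nat_lit 41], [nat_lit 17, nat_lit 35, nat_lit 1, nat_lit 11, nat_lit 3, nat_lit 13, nat_lit 9, nat_lit 2, nat_lit 4, nat_lit 5, nat_lit 5816]),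
  (nat_lit 0x100000101000100000001010101000000000000000000000100010001000001000000000000000000000000000000000101010100000000, nat_lit 0, [[nat_lit 60, nat_lit 6]], [], []),
  (nat_lit 0x1000100000000000101000000000000000001010000000100010000010001010000000100000001000000000000010100000000010000, nat_lit 99, [[nat_lit 325, nat_lit 383, nat_lit 409, nat_lit 524, nat_lit 800, nat_lit 1136, nat_lit 1577, nat_lit 1581, nat_lit 8445, nat_lit 8503, nat_lit 8529, nat_lit 8644, nat_lit 8920, nat_lit 9256, nat_lit 9697, nat_lit 9701]], [nat_lit 45, nat_lit 35, nat_lit 24, nat_lit 7], [nat_lit 49, nat_lit 6, nat_lit 45, nat_lit 11, nat_lit 3, nat_lit 4, nat_lit 5, nat_lit 2, nat_lit 7, nat_lit 8, nat_lit 12, nat_lit 1]),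
  (nat_lit 0x1000001000000000100010000000000010100000000000001000000000001010001000100010000000001000001000100000000000001, nat_lit 99, [[nat_lit 2274, nat_lit 2279, nat_lit 2312, nat_lit 2313, nat_lit 3438, nat_lit 3439, nat_lit 3472, nat_lit 3477, nat_lit 10394, nat_lit 10399, nat_lit 10432, nat_lit 10433, nat_lit 11558, nat_lit 11559, nat_lit 11592, nat_lit 11597]], [nat_lit 51, nat_lit 30, nat_lit 46, nat_lit 37], [nat_lit 26, nat_lit 17, nat_lit 33, nat_lit 25, nat_lit 29, nat_lit 6, nat_lit 9, nat_lit 4, nat_lit 3, nat_lit 2, nat_lit 1, nat_lit 1756]),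
  (nat_lit 0x101010100000000010000010100010001010000000001010000000000000000010001000100000100000000000000000000000000000000, nat_lit 0, [[nat_lit 56, nat_lit 9]], [], []),
  (nat_lit 0x1000001000000010001000000000000000000000100010100000000000100010001000100010000010000000100000100000000000001, nat_lit 99, [[nat_lit 2232, nat_lit 2233, nat_lit 2246, nat_lit 2247, nat_lit 3370, nat_lit 3371, nat_lit 3396, nat_lit 3397, nat_lit 10352, nat_lit 10353, nat_lit 10366, nat_lit 10367, nat_lit 11490, nat_lit 11491, nat_lit 11516, nat_lit 11517]], [nat_lit 47, nat_lit 21, nat_lit 31, nat_lit 7], [nat_lit 2, nat_lit 32, nat_lit 29, nat_lit 15, nat_lit 19, nat_lit 14, nat_lit 8, nat_lit 1, nat_lit 3, nat_lit 9, nat_lit 4, nat_lit 1756]),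
  (nat_lit 0x1000100010000000000010001000100000100010000000100000100000000010001000000000100000001000000000001000001, nat_lit 99, [[nat_lit 1950, nat_lit 1985, nat_lit 3028, nat_lit 3029, nat_lit 3030, nat_lit 3065, nat_lit 3066, nat_lit 3067, nat_lit 10070, nat_lit 10105, nat_lit 11148, nat_lit 11149, nat_lit 11150, nat_lit 11185, nat_lit 11186, nat_lit 11187]], [nat_lit 9, nat_lit 39, nat_lit 49, nat_lit 47], [nat_lit 12, nat_lit 18, nat_lit 19, nat_lit 1, nat_lit 8, nat_lit 4, nat_lit 2, nat_lit 3, nat_lit 6, nat_lit 13, nat_lit 1756, nat_lit 1896]),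
  (nat_lit 0x10100000000010100000000000000000000000000000000000101000100010001000100000101000101010100000000, nat_lit 0, [[nat_lit 40, nat_lit 17]], [], []),
  (nat_lit 0x1000100010100010000010001000101000100000101000000000000000000000101000001000100000000000000000000000000000000, nat_lit 0, [[nat_lit 55, nat_lit 15]], [], []),
  (nat_lit 0x1000100010100010000010001000101000100000101000000000000000000010000010100010000000000000000000000000000000000, nat_lit 99, [[nat_lit 4105, nat_lit 4146, nat_lit 4148, nat_lit 4376, nat_lit 4466, nat_lit 4513, nat_lit 4678, nat_lit 4703, nat_lit 4711, nat_lit 4756, nat_lit 5067, nat_lit 5247, nat_lit 5373, nat_lit 5389, nat_lit 5620, nat_lit 5647, nat_lit 12225, nat_lit 12266, nat_lit 12268, nat_lit 12496, nat_lit 12586, nat_lit 12633, nat_lit 12798, nat_lit 12823, nat_lit 12831, nat_lit 12876, nat_lit 13187, nat_lit 13367, nat_lit 13493, nat_lit 13509, nat_lit 13740, nat_lit 13767]], [nat_lit 47, nat_lit 40, nat_lit 37, nat_lit 23, nat_lit 34], [nat_lit 4, nat_lit 8, nat_lit 7, nat_lit 5, nat_lit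 3, nat_lit 10, nat_lit 22, nat_lit 6, nat_lit 9, nat_lit 12, nat_lit 1]),
  (nat_lit 0x10100000000010100000000000000000000000000000000010000010001000100010001010000010000000001010101, nat_lit 0, [[nat_lit 45, nat_lit 20]], [], []),
  (nat_lit 0x101000000000100010001000101000000010000000100000000000001000100000100000000000000000101000000000001000100, nat_lit 99, [[nat_lit 5866, nat_lit 5869, nat_lit 5916, nat_lit 5917, nat_lit 6894, nat_lit 6897, nat_lit 6952, nat_lit 6953, nat_lit 13986, nat_lit 13989, nat_lit 14036, nat_lit 14037, nat_lit 15014, nat_lit 15017, nat_lit 15072, nat_lit 15073]], [nat_lit 40, nat_lit 22, nat_lit 31, nat_lit 52], [nat_lit 2, nat_lit 4, nat_lit 8, nat_lit 17, nat_lit 15, nat_lit 7, nat_lit 5, nat_lit 1, nat_lit 3, nat_lit 10, nat_lit 1896, nat_lit 5816]),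
  (nat_lit 0x101010100000000000101000001000101010000000001010000000000000000010001000100000100000000000000000000000000000000, nat_lit 0, [[nat_lit 40, nat_lit 22]], [], []),
  (nat_lit 0x10000010001000100010001010000010000000001010101000000000000000001010000000001010000000000000000, nat_lit 0, [[nat_lit 25, nat_lit 5]], [], []),
  (nat_lit 0x100000100010001000000000000000001010101000000000000000000000000000000000000000001010000010100000100010001000001, nat_lit 0, [[nat_lit 30, nat_lit 27]], [], []),
  (nat_lit 0x1000100010001000000010000010000010000000001000100000000010000000000000001010000010100000000000000000101000000, nat_lit 99, [[nat_lit 4168, nat_lit 4673, nat_lit 4739, nat_lit 5127, nat_lit 5391, nat_lit 5644, nat_lit 5668, nat_lit 5791, nat_lit 12288, nat_lit 12793, nat_lit 12859, nat_lit 13247, nat_lit 13511, nat_lit 13764, nat_lit 13788, nat_lit 13911]], [nat_lit 18, nat_lit 41, nat_lit 4, nat_lit 48], [nat_lit 11, nat_lit 34, nat_lit 29, nat_lit 15, nat_lit 2, nat_lit 1, nat_lit 4, nat_lit 5, nat_lit 7, nat_lit 3, nat_lit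 6, nat_lit 1896]),
  (nat_lit 0x100010000010001000000010000010000010000000001000001000001000000000100010000000000000000010001000000000101000000, nat_lit 99, [[nat_lit 4267, nat_lit 4536, nat_lit 5014, nat_lit 5034, nat_lit 5081, nat_lit 5651, nat_lit 5737, nat_lit 5808, nat_lit 12387, nat_lit 12656, nat_lit 13134, nat_lit 13154, nat_lit 13201, nat_lit 13771, nat_lit 13857, nat_lit 13928]], [nat_lit 27, nat_lit 33, nat_lit 41, nat_lit 48], [nat_lit 71, nat_lit 11, nat_lit 17, nat_lit 1, nat_lit 3, nat_lit 5, nat_lit 8, nat_lit 2, nat_lit 9, nat_lit 6, nat_lit 12, nat_lit 1896]),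
  (nat_lit 0x1010000010001000001010101000000000000000000000100010001000001000000000000000000000000000000000101010100000000, nat_lit 0, [[nat_lit 64, nat_lit 12]], [], []),
  (nat_lit 0x1000001000000000100010000000100000100000001000100010001010000000100000000000001000100000000000100000001, nat_lit 99, [[nat_lit 2049, nat_lit 2050, nat_lit 2070, nat_lit 2071, nat_lit 3165, nat_lit 3166, nat_lit 3192, nat_lit 3193, nat_lit 10169, nat_lit 10170, nat_lit 10190, nat_lit 10191, nat_lit 11285, nat_lit 11286, nat_lit 11312, nat_lit 11313]], [nat_lit 43, nat_lit 0, nat_lit 37, nat_lit 30], [nat_lit 67, nat_lit 85, nat_lit 95, nat_lit 8, nat_lit 5, nat_lit 2, nat_lit 7, nat_lit 1756, nat_lit 3, nat_lit 6, nat_lit 1, nat_lit 13]),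
  (nat_lit 0x10000000001000000010001000000010000010000000000000001000001000000000100010000000001010000000001010000010100, nat_lit 99, [[nat_lit 6570, nat_lit 6575, nat_lit 7774, nat_lit 7775, nat_lit 7776, nat_lit 7781, nat_lit 7782, nat_lit 7783, nat_lit 14690, nat_lit 14695, nat_lit 15894, nat_lit 15895, nat_lit 15896, nat_lit 15901, nat_lit 15902, nat_lit 15903]], [nat_lit 35, nat_lit 44, nat_lit 1, nat_lit 17], [nat_lit 3, nat_lit 65, nat_lit 47, nat_lit 45, nat_lit 18, nat_lit 5816, nat_lit 9, nat_lit 1, nat_lit 5, nat_lit 4, nat_lit 6, nat_lit 2]),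
  (nat_lit 0x1000101000001000000000000000000000000000000000101000000000101010100000101000000010001000101000000000000000000, nat_lit 0, [[nat_lit 60, nat_lit 6]], [], []),
  (nat_lit 0x10001000000010100000000010001000100010001000000010000000001000100000000000100000001000000000000010100, nat_lit 99, [[nat_lit 6007, nat_lit 6052, nat_lit 6053, nat_lit 6054, nat_lit 7075, nat_lit 7076, nat_lit 7077, nat_lit 7134, nat_lit 14127, nat_lit 14172, nat_lit 14173, nat_lit 14174, nat_lit 15195, nat_lit 15196, nat_lit 15197, nat_lit 15254]], [nat_lit 30, nat_lit 38, nat_lit 19, nat_lit 50], [nat_lit 174, nat_lit 124, nat_lit 8, nat_lit 19, nat_lit 5, nat_lit 1, nat_lit 14, nat_lit 7, nat_lit 2, nat_lit 4, nat_lit 3, nat_lit 5816]),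
  (nat_lit 0x100000100010001000000000000000000000000010101010000000000000000000000000000000000000101000001010100010001000001, nat_lit 0, [[nat_lit 30, nat_lit 18]], [], []),
  (nat_lit 0x10001000001000001000001000100000100010000010000000001010000000000000101000000000100000100010000000000, nat_lit 99, [[nat_lit 4109, nat_lit 4132, nat_lit 4216, nat_lit 4435, nat_lit 4718, nat_lit 5357, nat_lit 5470, nat_lit 5583, nat_lit 12229, nat_lit 12252, nat_lit 12336, nat_lit 12555, nat_lit 12838, nat_lit 13477, nat_lit 13590, nat_lit 13703]], [nat_lit 24, nat_lit 45, nat_lit 23, nat_lit 7], [nat_lit 15, nat_lit 1, nat_lit 23, nat_lit 3, nat_lit 7, nat_lit 2, nat_lit 4, nat_lit 5, nat_lit 6, nat_lit 8, nat_lit 9, nat_lit 10]),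
  (nat_lit 0x100000101000001000001000000000101000000000000010000000100000001000000000001010000000000010001000000010000010000, nat_lit 99, [[nat_lit 294, nat_lit 421, nat_lit 906, nat_lit 961, nat_lit 1257, nat_lit 1386, nat_lit 1550, nat_lit 1728, nat_lit 8414, nat_lit 8541, nat_lit 9026, nat_lit 9081, nat_lit 9377, nat_lit 9506, nat_lit 9670, nat_lit 9848]], [nat_lit 9, nat_lit 45, nat_lit 17, nat_lit 52], [nat_lit 27, nat_lit 28, nat_lit 26, nat_lit 10, nat_lit 13, nat_lit 1, nat_lit 5, nat_lit 6, nat_lit 9, nat_lit 11, nat_lit 3, nat_lit 2])]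

def BK53 : List Ent := [(nat_lit 0x10100000101000000000000000000000000000000000000010001000001010001010101000000000100000101000100, nat_lit 0, [[nat_lit 14, nat_lit 12]], [], []),
  (nat_lit 0x10100000101000000000000000000000000000000000000010001000001010001010101000000000001010000010001, nat_lit 0, [[nat_lit 37, nat_lit 24]], [], []),
  (nat_lit 0x100000001000000000001000100000001000000000100000001000100000000010000010000000001000000000001000100000101000001, nat_lit 99, [[nat_lit 2623, nat_lit 2624, nat_lit 2625, nat_lit 2632, nat_lit 3853, nat_lit 3864, nat_lit 3865, nat_lit 3866, nat_lit 10743, nat_lit 10744, nat_lit 10745, nat_lit 10752, nat_lit 11973, nat_lit 11984, nat_lit 11985, nat_lit 11986]], [nat_lit 34, nat_lit 28, nat_lit 0, nat_lit 45], [nat_lit 25, nat_lit 5, nat_lit 12, nat_lit 59, nat_lit 16, nat_lit 1756, nat_lit 1, nat_lit 6, nat_lit 13, nat_lit 15, nat_lit 2, nat_lit 1896]),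
  (nat_lit 0x10100010000010000000001000000000001000100000100010100000000010000010000000001000100000100000000010000, nat_lit 99, [[nat_lit 295, nat_lit 342, nat_lit 351, nat_lit 1216, nat_lit 1289, nat_lit 1421, nat_lit 1623, nat_lit 1755, nat_lit 8415, nat_lit 8462, nat_lit 8471, nat_lit 9336, nat_lit 9409, nat_lit 9541, nat_lit 9743, nat_lit 9875]], [nat_lit 50, nat_lit 33, nat_lit 12, nat_lit 25], [nat_lit 4, nat_lit 27, nat_lit 8, nat_lit 2, nat_lit 17, nat_lit 1, nat_lit 21, nat_lit 12, nat_lit 6, nat_lit 23, nat_lit 3, nat_lit 10]),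
  (nat_lit 0x101010100000000000000000000000000000000000000000101000001010000000100010001010001000001000100010000000000000000, nat_lit 0, [[nat_lit 60, nat_lit 6]], [], []),
  (nat_lit 0x1010000000000010000000000010001000001000101000000010000000001000100000000010000000001000000010000000000010100, nat_lit 99, [[nat_lit 6604, nat_lit 6641, nat_lit 7836, nat_lit 7838, nat_lit 7839, nat_lit 7872, nat_lit 7873, nat_lit 7877, nat_lit 14724, nat_lit 14761, nat_lit 15956, nat_lit 15958, nat_lit 15959, nat_lit 15992, nat_lit 15993, nat_lit 15997]], [nat_lit 2, nat_lit 8, nat_lit 17, nat_lit 29], [nat_lit 17, nat_lit 43, nat_lit 6, nat_lit 12, nat_lit 19, nat_lit 1, nat_lit 3, nat_lit 2, nat_lit 7, nat_lit 4, nat_lit 10, nat_lit 5816]),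
  (nat_lit 0x100000100000100000000010000000100000001000000000001000001000000000001000100000001010000000100000101000001, nat_lit 99, [[nat_lit 2627, nat_lit 2628, nat_lit 2629, nat_lit 2630, nat_lit 3857, nat_lit 3858, nat_lit 3859, nat_lit 3860, nat_lit 10747, nat_lit 10748, nat_lit 10749, nat_lit 10750, nat_lit 11977, nat_lit 11978, nat_lit 11979, nat_lit 11980]], [nat_lit 33, nat_lit 0, nat_lit 52, nat_lit 46], [nat_lit 17, nat_lit 38, nat_lit 5, nat_lit 9, nat_lit 20, nat_lit 1756, nat_lit 1, nat_lit 3, nat_lit 4, nat_lit 6, nat_lit 2, nat_lit 1896]),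
  (nat_lit 0x10101010101010100000000000000000000000000000000000000000000000000000000000000000000000000000000, nat_lit 2, [[nat_lit 244], [nat_lit 7975], [nat_lit 6886], [nat_lit 7978], [nat_lit 2821], [nat_lit 6832], [nat_lit 5385], [nat_lit 5473], [nat_lit 2394, nat_lit 2388], [nat_lit 5207, nat_lit 5173], [nat_lit 4862, nat_lit 4860], [nat_lit 6005, nat_lit 5803]], [], []),
  (nat_lit 0x100000101000100010100000000010100000000000000000001000100010100000000000000000000000000000000000000000001010101, nat_lit 0, [[nat_lit 21, nat_lit 12]], [], []),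
  (nat_lit 0x100000001000000010000000000000100010000010000000000000000010100000000000100010000000001010000000100010001000100, nat_lit 99, [[nat_lit 6814, nat_lit 6821, nat_lit 6822, nat_lit 6823, nat_lit 8106, nat_lit 8107, nat_lit 8108, nat_lit 8111, nat_lit 14934, nat_lit 14941, nat_lit 14942, nat_lit 14943, nat_lit 16226, nat_lit 16227, nat_lit 16228, nat_lit 16231]], [nat_lit 11, nat_lit 3, nat_lit 25, nat_lit 17], [nat_lit 25, nat_lit 34, nat_lit 13, nat_lit 14, nat_lit 24, nat_lit 1896, nat_lit 2, nat_lit 1, nat_lit 4, nat_lit 6, nat_lit 9, nat_lit 5816]),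
  (nat_lit 0x1000101000100000001000000000100000100010000000000000100000001000000000001010000000000000100010001000000000001, nat_lit 99, [[nat_lit 2148, nat_lit 2149, nat_lit 2153, nat_lit 2211, nat_lit 3285, nat_lit 3344, nat_lit 3345, nat_lit 3347, nat_lit 10268, nat_lit 10269, nat_lit 10273, nat_lit 10331, nat_lit 11405, nat_lit 11464, nat_lit 11465, nat_lit 11467]], [nat_lit 6, nat_lit 10, nat_lit 35, nat_lit 24], [nat_lit 2, nat_lit 6, nat_lit 3, nat_lit 11, nat_lit 5, nat_lit 4, nat_lit 7, nat_lit 8, nat_lit 9, nat_lit 1, nat_lit 13, nat_lit 1756]),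
  (nat_lit 0x1000001000000000100010000000100000100000100010001000100010000000100000000000001000100000000000100000001, nat_lit 99, [[nat_lit 2460, nat_lit 2461, nat_lit 2479, nat_lit 2480, nat_lit 2481, nat_lit 2482, nat_lit 3650, nat_lit 3651, nat_lit 10580, nat_lit 10581, nat_lit 10599, nat_lit 10600, nat_lit 10601, nat_lit 10602, nat_lit 11770, nat_lit 11771]], [nat_lit 0, nat_lit 29, nat_lit 43, nat_lit 37], [nat_lit 40, nat_lit 67, nat_lit 7, nat_lit 95, nat_lit 9, nat_lit 2, nat_lit 5, nat_lit 1756, nat_lit 3, nat_lit 6, nat_lit 1, nat_lit 13]),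
  (nat_lit 0x100000000000001010000000001000000000000000101000000000001000100000100000000000101000100000100010000000100000100, nat_lit 99, [[nat_lit 6178, nat_lit 6187, nat_lit 7294, nat_lit 7295, nat_lit 7296, nat_lit 7313, nat_lit 7314, nat_lit 7315, nat_lit 14298, nat_lit 14307, nat_lit 15414, nat_lit 15415, nat_lit 15416, nat_lit 15433, nat_lit 15434, nat_lit 15435]], [nat_lit 34, nat_lit 10, nat_lit 16, nat_lit 42], [nat_lit 9, nat_lit 7, nat_lit 32, nat_lit 54, nat_lit 5, nat_lit 12, nat_lit 16, nat_lit 4, nat_lit 1, nat_lit 3, nat_lit 2, nat_lit 5816]),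
  (nat_lit 0x1000001000000000100010001000000000001000001000101000100000000010000010000000001000100000000010000000100, nat_lit 99, [[nat_lit 6112, nat_lit 6119, nat_lit 6124, nat_lit 6125, nat_lit 7232, nat_lit 7239, nat_lit 7240, nat_lit 7241, nat_lit 14232, nat_lit 14239, nat_lit 14244, nat_lit 14245, nat_lit 15352, nat_lit 15359, nat_lit 15360, nat_lit 15361]], [nat_lit 39, nat_lit 12, nat_lit 30, nat_lit 1], [nat_lit 7, nat_lit 67, nat_lit 10, nat_lit 11, nat_lit 2, nat_lit 3, nat_lit 4, nat_lit 5817, nat_lit 9, nat_lit 1, nat_lit 6, nat_lit 13]),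
  (nat_lit 0x1010101000000000000000000000000000000000000010100000101000100010001010001000001000100010000000000000000, nat_lit 0, [[nat_lit 60, nat_lit 6]], [], []),
  (nat_lit 0x1000000000001000100010100010000000100000000010000010001000000000000010000000100000000000101000000000000010001, nat_lit 99, [[nat_lit 1848, nat_lit 1851, nat_lit 2842, nat_lit 2843, nat_lit 2846, nat_lit 2847, nat_lit 2880, nat_lit 2883, nat_lit 9968, nat_lit 9971, nat_lit 10962, nat_lit 10963, nat_lit 10966, nat_lit 10967, nat_lit 11000, nat_lit 11003]], [nat_lit 10, nat_lit 48, nat_lit 37, nat_lit 43], [nat_lit 48, nat_lit 16, nat_lit 21, nat_lit 1, nat_lit 7, nat_lit 5, nat_lit 3, nat_lit 6, nat_lit 12, nat_lit 2, nat_lit 4, nat_lit 1756]),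
  (nat_lit 0x1010000010001010100000000010100000000000000000001000100010100000000000000000000000000000000000000000001010101, nat_lit 0, [[nat_lit 49, nat_lit 48]], [], []),
  (nat_lit 0x100000100010001000100010100000100000000000000000100000101000100000000000000000000000000000000000100010001000001, nat_lit 99, [[nat_lit 1919, nat_lit 1924, nat_lit 2013, nat_lit 2014, nat_lit 2531, nat_lit 2532, nat_lit 2597, nat_lit 2598, nat_lit 2989, nat_lit 2990, nat_lit 3103, nat_lit 3108, nat_lit 3755, nat_lit 3756, nat_lit 3833, nat_lit 3834, nat_lit 10039, nat_lit 10044, nat_lit 10133, nat_lit 10134, nat_lit 10651, nat_lit 10652, nat_lit 10717, nat_lit 10718, nat_lit 11109, nat_lit 11110, nat_lit 11223, nat_lit 11228, nat_lit 11875, nat_lit 11876, nat_lit 11953, nat_lit 11954]], [nat_lit 31, nat_lit 52, nat_lit 28, nat_lit 55, nat_lit 3], [nat_lit 24, nat_lit 19, nat_lit 35, nat_lit 1, nat_lit 1945, nat_lit 1756, nat_lit 3, nat_lit 2, nat_lit 8, nat_lit 4, nat_lit 9]),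
  (nat_lit 0x1000100010001000001000000000100010000000001000100000000010000010001000000000001000001000000000100000000000100, nat_lit 99, [[nat_lit 6235, nat_lit 6236, nat_lit 6237, nat_lit 6241, nat_lit 6242, nat_lit 6243, nat_lit 7375, nat_lit 7377, nat_lit 14355, nat_lit 14356, nat_lit 14357, nat_lit 14361, nat_lit 14362, nat_lit 14363, nat_lit 15495, nat_lit 15497]], [nat_lit 21, nat_lit 26, nat_lit 15, nat_lit 45], [nat_lit 14, nat_lit 5, nat_lit 7, nat_lit 23, nat_lit 19, nat_lit 6, nat_lit 9, nat_lit 2, nat_lit 3, nat_lit 1, nat_lit 4, nat_lit 5816]),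
  (nat_lit 0x100000100010001000100010100000100000000000000000001010000010001000000000000000000000000000000000100010001000001, nat_lit 0, [[nat_lit 60, nat_lit 6]], [], [])]

def BK54 : List Ent := [(nat_lit 0x1010000010100000100000001000000000001000100000001000001000000010001000000000000010100000000000001000000000001, nat_lit 99, [[nat_lit 2357, nat_lit 2361, nat_lit 2362, nat_lit 2363, nat_lit 3517, nat_lit 3518, nat_lit 3519, nat_lit 3521, nat_lit 10477, nat_lit 10481, nat_lit 10482, nat_lit 10483, nat_lit 11637, nat_lit 11638, nat_lit 11639, nat_lit 11641]], [nat_lit 13, nat_lit 21, nat_lit 6, nat_lit 34], [nat_lit 1, nat_lit 14, nat_lit 2, nat_lit 10, nat_lit 13, nat_lit 15, nat_lit 4, nat_lit 6, nat_lit 9, nat_lit 3, nat_lit 5, nat_lit 1756]),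
  (nat_lit 0x101000100010001000100000101000101010100000000000000000000000000000101010100000000000000000000, nat_lit 0, [[nat_lit 44, nat_lit 14]], [], []),
  (nat_lit 0x1000001000000000000000001010000000000010001000000000101000000010001000100010001000000010000000100000000000001, nat_lit 99, [[nat_lit 3450, nat_lit 3451, nat_lit 3454, nat_lit 3455, nat_lit 3456, nat_lit 3457, nat_lit 3460, nat_lit 3461, nat_lit 11570, nat_lit 11571, nat_lit 11574, nat_lit 11575, nat_lit 11576, nat_lit 11577, nat_lit 11580, nat_lit 11581]], [nat_lit 15, nat_lit 17, nat_lit 7, nat_lit 33], [nat_lit 6, nat_lit 12, nat_lit 30, nat_lit 18, nat_lit 25, nat_lit 9, nat_lit 4, nat_lit 1, nat_lit 2, nat_lit 3, nat_lit 13, nat_lit 1756]),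
  (nat_lit 0x10000000100000000000001010000010100000000000000010000010000000101000001010000010000000100000001000000000100, nat_lit 99, [[nat_lit 6294, nat_lit 6295, nat_lit 6304, nat_lit 6305, nat_lit 7434, nat_lit 7439, nat_lit 7448, nat_lit 7453, nat_lit 14414, nat_lit 14415, nat_lit 14424, nat_lit 14425, nat_lit 15554, nat_lit 15559, nat_lit 15568, nat_lit 15573]], [nat_lit 29, nat_lit 53, nat_lit 41, nat_lit 37], [nat_lit 28, nat_lit 8, nat_lit 2, nat_lit 1, nat_lit 19, nat_lit 15, nat_lit 6, nat_lit 4, nat_lit 10, nat_lit 5, nat_lit 3, nat_lit 5816]),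
  (nat_lit 0x1000101000100000100000001000000000001000100000000010000000100000000000001010001000001000000000001000000000001, nat_lit 99, [[nat_lit 2342, nat_lit 2370, nat_lit 2372, nat_lit 2373, nat_lit 3506, nat_lit 3510, nat_lit 3511, nat_lit 3534, nat_lit 10462, nat_lit 10490, nat_lit 10492, nat_lit 10493, nat_lit 11626, nat_lit 11630, nat_lit 11631, nat_lit 11654]], [nat_lit 12, nat_lit 29, nat_lit 17, nat_lit 6], [nat_lit 41, nat_lit 81, nat_lit 1, nat_lit 21, nat_lit 10, nat_lit 8, nat_lit 12, nat_lit 4, nat_lit 6, nat_lit 3, nat_lit 13, nat_lit 1756]),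
  (nat_lit 0x10001000000000100000100000001000100000000000000000001000100000000010100000000010100010000010001000000010000, nat_lit 99, [[nat_lit 42, nat_lit 173, nat_lit 537, nat_lit 648, nat_lit 684, nat_lit 1081, nat_lit 1150, nat_lit 1267, nat_lit 8162, nat_lit 8293, nat_lit 8657, nat_lit 8768, nat_lit 8804, nat_lit 9201, nat_lit 9270, nat_lit 9387]], [nat_lit 43, nat_lit 13, nat_lit 2, nat_lit 37], [nat_lit 149, nat_lit 20, nat_lit 82, nat_lit 1, nat_lit 18, nat_lit 9, nat_lit 8, nat_lit 2, nat_lit 10, nat_lit 4, nat_lit 6, nat_lit 13]),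
  (nat_lit 0x100000001000000000100000000010000000100000001000100010000000000010000010000000000010000000000010001010000010100, nat_lit 99, [[nat_lit 6569, nat_lit 6576, nat_lit 6577, nat_lit 6578, nat_lit 7771, nat_lit 7772, nat_lit 7773, nat_lit 7784, nat_lit 14689, nat_lit 14696, nat_lit 14697, nat_lit 14698, nat_lit 15891, nat_lit 15892, nat_lit 15893, nat_lit 15904]], [nat_lit 6, nat_lit 37, nat_lit 41, nat_lit 29], [nat_lit 12, nat_lit 29, nat_lit 23, nat_lit 5, nat_lit 6, nat_lit 7, nat_lit 8, nat_lit 2, nat_lit 1, nat_lit 4, nat_lit 9, nat_lit 5816]),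
  (nat_lit 0x100000000000100010001000100010000000001000001000000000100010000000000010000000101000100000000000001010000000000, nat_lit 99, [[nat_lit 4181, nat_lit 4478, nat_lit 4657, nat_lit 4722, nat_lit 4994, nat_lit 5103, nat_lit 5207, nat_lit 5584, nat_lit 12301, nat_lit 12598, nat_lit 12777, nat_lit 12842, nat_lit 13114, nat_lit 13223, nat_lit 13327, nat_lit 13704]], [nat_lit 20, nat_lit 26, nat_lit 13, nat_lit 41], [nat_lit 13, nat_lit 37, nat_lit 59, nat_lit 4, nat_lit 12, nat_lit 8, nat_lit 2, nat_lit 6, nat_lit 14, nat_lit 1, nat_lit 3, nat_lit 9]),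
  (nat_lit 0x1010000000000000001000001000000010001010001000100000001000000000000010001000000000100000001000100010000000000, nat_lit 99, [[nat_lit 4463, nat_lit 4509, nat_lit 4535, nat_lit 4685, nat_lit 4812, nat_lit 5431, nat_lit 5773, nat_lit 5814, nat_lit 12583, nat_lit 12629, nat_lit 12655, nat_lit 12805, nat_lit 12932, nat_lit 13551, nat_lit 13893, nat_lit 13934]], [nat_lit 7, nat_lit 54, nat_lit 35, nat_lit 45], [nat_lit 21, nat_lit 20, nat_lit 7, nat_lit 11, nat_lit 8, nat_lit 10, nat_lit 9, nat_lit 18, nat_lit 1, nat_lit 2, nat_lit 3, nat_lit 6]),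
  (nat_lit 0x100000000010000010001000000000001000001000000000100000000000100000100010001000100000100000000010001000000000100, nat_lit 99, [[nat_lit 6334, nat_lit 6339, nat_lit 6372, nat_lit 6373, nat_lit 7498, nat_lit 7499, nat_lit 7532, nat_lit 7537, nat_lit 14454, nat_lit 14459, nat_lit 14492, nat_lit 14493, nat_lit 15618, nat_lit 15619, nat_lit 15652, nat_lit 15657]], [nat_lit 25, nat_lit 16, nat_lit 39, nat_lit 55], [nat_lit 8, nat_lit 75, nat_lit 2, nat_lit 10, nat_lit 4, nat_lit 13, nat_lit 14, nat_lit 1, nat_lit 3, nat_lit 6, nat_lit 12, nat_lit 5816]),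
  (nat_lit 0x101010100000000010000010100010000000000000000000000010100000101000000000000000000000000000000000001000101000001, nat_lit 0, [[nat_lit 30, nat_lit 15]], [], []),
  (nat_lit 0x1000001010001000101000000000101010100000101000000000000000000000001010001000100, nat_lit 0, [[nat_lit 40, nat_lit 17]], [], []),
  (nat_lit 0x100000000010000010001000000000000000000010001000001000000000001010000010100000100000100000000010000010001000000, nat_lit 99, [[nat_lit 4427, nat_lit 4723, nat_lit 5187, nat_lit 5372, nat_lit 5579, nat_lit 5601, nat_lit 5648, nat_lit 5686, nat_lit 12547, nat_lit 12843, nat_lit 13307, nat_lit 13492, nat_lit 13699, nat_lit 13721, nat_lit 13768, nat_lit 13806]], [nat_lit 8, nat_lit 55, nat_lit 47, nat_lit 30], [nat_lit 8, nat_lit 4, nat_lit 3, nat_lit 26, nat_lit 7, nat_lit 2, nat_lit 5, nat_lit 1, nat_lit 12, nat_lit 6, nat_lit 9, nat_lit 1896]),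
  (nat_lit 0x1000100000000010000010000000000000100000100000001010001000001000000010000010000000100010000000001000001000000, nat_lit 99, [[nat_lit 4214, nat_lit 4546, nat_lit 4681, nat_lit 4862, nat_lit 4934, nat_lit 5000, nat_lit 5188, nat_lit 5592, nat_lit 12334, nat_lit 12666, nat_lit 12801, nat_lit 12982, nat_lit 13054, nat_lit 13120, nat_lit 13308, nat_lit 13712]], [nat_lit 6, nat_lit 30, nat_lit 11, nat_lit 37], [nat_lit 48, nat_lit 25, nat_lit 4, nat_lit 8, nat_lit 10, nat_lit 3, nat_lit 1, nat_lit 7, nat_lit 2, nat_lit 5, nat_lit 6, nat_lit 1896]),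
  (nat_lit 0x100000000010000000000000001010000000000010001000001000000000001000100010100010000000001000001000100000000000001, nat_lit 99, [[nat_lit 2272, nat_lit 2273, nat_lit 2314, nat_lit 2315, nat_lit 3434, nat_lit 3435, nat_lit 3480, nat_lit 3481, nat_lit 10392, nat_lit 10393, nat_lit 10434, nat_lit 10435, nat_lit 11554, nat_lit 11555, nat_lit 11600, nat_lit 11601]], [nat_lit 42, nat_lit 33, nat_lit 20, nat_lit 24], [nat_lit 42, nat_lit 79, nat_lit 22, nat_lit 12, nat_lit 6, nat_lit 7, nat_lit 1, nat_lit 9, nat_lit 5, nat_lit 15, nat_lit 2, nat_lit 1756]),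
  (nat_lit 0x100010001000100000100000001000001000000000000010001000001000000010001000000000000000000000100010100000000000100, nat_lit 99, [[nat_lit 6224, nat_lit 6258, nat_lit 6259, nat_lit 6260, nat_lit 7354, nat_lit 7355, nat_lit 7356, nat_lit 7392, nat_lit 14344, nat_lit 14378, nat_lit 14379, nat_lit 14380, nat_lit 15474, nat_lit 15475, nat_lit 15476, nat_lit 15512]], [nat_lit 21, nat_lit 8, nat_lit 46, nat_lit 51], [nat_lit 1, nat_lit 13, nat_lit 4, nat_lit 22, nat_lit 17, nat_lit 19, nat_lit 2, nat_lit 8, nat_lit 23, nat_lit 3, nat_lit 10, nat_lit 5816]),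
  (nat_lit 0x101000001010000000000000000000001000001000100010000000000000000000000000000000000010100000100010000010101010000, nat_lit 0, [[nat_lit 41, nat_lit 37]], [], []),
  (nat_lit 0x101000001010000000000000000000001000001000100010000000000000000000000000000000001000001010001000000010101010000, nat_lit 0, [[nat_lit 41, nat_lit 37]], [], []),
  (nat_lit 0x10001000000000100000100000000000000010000010001010000000000000100000000000100010100010000010000010000000001, nat_lit 99, [[nat_lit 2394, nat_lit 2395, nat_lit 2396, nat_lit 2433, nat_lit 2434, nat_lit 2435, nat_lit 3566, nat_lit 3619, nat_lit 10514, nat_lit 10515, nat_lit 10516, nat_lit 10553, nat_lit 10554, nat_lit 10555, nat_lit 11686, nat_lit 11739]], [nat_lit 53, nat_lit 30, nat_lit 14, nat_lit 46], [nat_lit 30, nat_lit 11, nat_lit 5, nat_lit 6, nat_lit 18, nat_lit 20, nat_lit 8, nat_lit 7, nat_lit 2, nat_lit 9, nat_lit 13, nat_lit 1756]),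
  (nat_lit 0x101000000000100010100010000000100000000010000000100010000000001000000010000010001000000000000000000010001, nat_lit 99, [[nat_lit 2697, nat_lit 2698, nat_lit 2710, nat_lit 2711, nat_lit 3961, nat_lit 3962, nat_lit 3988, nat_lit 3989, nat_lit 10817, nat_lit 10818, nat_lit 10830, nat_lit 10831, nat_lit 12081, nat_lit 12082, nat_lit 12108, nat_lit 12109]], [nat_lit 32, nat_lit 26, nat_lit 52, nat_lit 14], [nat_lit 16, nat_lit 6, nat_lit 10, nat_lit 12, nat_lit 18, nat_lit 3, nat_lit 2, nat_lit 4, nat_lit 7, nat_lit 1, nat_lit 13, nat_lit 1756]),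
  (nat_lit 0x100000100000100000000010000000001000000010100010000000000010000010000000000000001010000000001010001000001, nat_lit 99, [[nat_lit 2003, nat_lit 2004, nat_lit 3089, nat_lit 3090, nat_lit 3091, nat_lit 3092, nat_lit 3093, nat_lit 3094, nat_lit 10123, nat_lit 10124, nat_lit 11209, nat_lit 11210, nat_lit 11211, nat_lit 11212, nat_lit 11213, nat_lit 11214]], [nat_lit 31, nat_lit 23, nat_lit 5, nat_lit 11], [nat_lit 39, nat_lit 2, nat_lit 9, nat_lit 3, nat_lit 10, nat_lit 4, nat_lit 5, nat_lit 6, nat_lit 7, nat_lit 1, nat_lit 1756, nat_lit 1896]),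
  (nat_lit 0x100000000010000000000000001010000000000000100010000010000010000010000010100000100000001000001000000010001000000, nat_lit 99, [[nat_lit 4453, nat_lit 4544, nat_lit 4831, nat_lit 5198, nat_lit 5267, nat_lit 5524, nat_lit 5780, nat_lit 5813, nat_lit 12573, nat_lit 12664, nat_lit 12951, nat_lit 13318, nat_lit 13387, nat_lit 13644, nat_lit 13900, nat_lit 13933]], [nat_lit 12, nat_lit 5, nat_lit 29, nat_lit 50], [nat_lit 27, nat_lit 40, nat_lit 17, nat_lit 19, nat_lit 8, nat_lit 20, nat_lit 2, nat_lit 4, nat_lit 1, nat_lit 3, nat_lit 6, nat_lit 1896]),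
  (nat_lit 0x10100000100010101000000000101010100000101000000000000000000000001010001000100, nat_lit 0, [[nat_lit 32, nat_lit 2]], [], []),
  (nat_lit 0x1010000010100000100000001000001000000000000010000000100000001000100010000000000010100000000000100000000000100, nat_lit 99, [[nat_lit 6405, nat_lit 6406, nat_lit 6407, nat_lit 6427, nat_lit 6428, nat_lit 6429, nat_lit 7573, nat_lit 7591, nat_lit 14525, nat_lit 14526, nat_lit 14527, nat_lit 14547, nat_lit 14548, nat_lit 14549, nat_lit 15693, nat_lit 15711]], [nat_lit 32, nat_lit 50, nat_lit 42, nat_lit 1], [nat_lit 246, nat_lit 35, nat_lit 33, nat_lit 13, nat_lit 10, nat_lit 9, nat_lit 20, nat_lit 5816, nat_lit 3, nat_lit 4, nat_lit 5, nat_lit 2]),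
  (nat_lit 0x1000100010100010000010001000100000000000000000101010100000000000000000000000000000000000000000000010100000101, nat_lit 0, [[nat_lit 60, nat_lit 6]], [], []),
  (nat_lit 0x10100000000010100000000000000000000000000000000000101000100010000010001010000010101010100000000, nat_lit 0, [[nat_lit 10, nat_lit 6]], [], []),
  (nat_lit 0x1010001000100000100010100000101010101000000000000000000000000000001010101000000000000000000000000000000000000, nat_lit 0, [[nat_lit 7, nat_lit 5]], [], []),
  (nat_lit 0x101010100000000000101000001000100000000000000000000010100000101000000000000000000000000000000000001000101000001, nat_lit 0, [[nat_lit 29, nat_lit 6]], [], []),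
  (nat_lit 0x10000010001000100010001010000010000000001010101000000000000000000000101010100000000000000000000, nat_lit 0, [[nat_lit 40, nat_lit 17]], [], []),
  (nat_lit 0x100010000000000000000000001000100010000000000010100000101000001000000010000010001000000000000010000000100000001, nat_lit 99, [[nat_lit 2448, nat_lit 2449, nat_lit 2493, nat_lit 2498, nat_lit 3628, nat_lit 3629, nat_lit 3693, nat_lit 3698, nat_lit 10568, nat_lit 10569, nat_lit 10613, nat_lit 10618, nat_lit 11748, nat_lit 11749, nat_lit 11813, nat_lit 11818]], [nat_lit 42, nat_lit 38, nat_lit 17, nat_lit 24], [nat_lit 17, nat_lit 23, nat_lit 1, nat_lit 3, nat_lit 6, nat_lit 11, nat_lit 13, nat_lit 2, nat_lit 4, nat_lit 7, nat_lit 8, nat_lit 1756]),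
  (nat_lit 0x1010101000000000000000000000101010100000000000000000000000000000000000001000001000100010100010000010100, nat_lit 0, [[nat_lit 22, nat_lit 17]], [], []),
  (nat_lit 0x1000001000101000000000001000000000001000100010000010001010000000100000000000100010000000000000100000001, nat_lit 99, [[nat_lit 2472, nat_lit 2473, nat_lit 3663, nat_lit 3664, nat_lit 3665, nat_lit 3666, nat_lit 3670, nat_lit 3671, nat_lit 10592, nat_lit 10593, nat_lit 11783, nat_lit 11784, nat_lit 11785, nat_lit 11786, nat_lit 11790, nat_lit 11791]], [nat_lit 46, nat_lit 48, nat_lit 4, nat_lit 39], [nat_lit 33, nat_lit 7, nat_lit 9, nat_lit 10, nat_lit 3, nat_lit 4, nat_lit 2, nat_lit 6, nat_lit 5, nat_lit 1, nat_lit 13, nat_lit 1756]),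
  (nat_lit 0x10100000101000100010001010000000000000000000001000101000001000000000000000000000000000000000000010101010000, nat_lit 0, [[nat_lit 60, nat_lit 6]], [], []),
  (nat_lit 0x10001000000010100000000010001010001000000010000000001000000010001000000000100000001000001000100000000, nat_lit 99, [[nat_lit 6, nat_lit 565, nat_lit 671, nat_lit 879, nat_lit 889, nat_lit 996, nat_lit 1557, nat_lit 1614, nat_lit 8126, nat_lit 8685, nat_lit 8791, nat_lit 8999, nat_lit 9009, nat_lit 9116, nat_lit 9677, nat_lit 9734]], [nat_lit 9, nat_lit 4, nat_lit 29, nat_lit 43], [nat_lit 75, nat_lit 1, nat_lit 39, nat_lit 19, nat_lit 2, nat_lit 16, nat_lit 4, nat_lit 10, nat_lit 13, nat_lit 14, nat_lit 3, nat_lit 6]),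
  (nat_lit 0x1000000000001010001000001000100010000000100000000000100010000000001000000010000000000000101000100000100000000, nat_lit 99, [[nat_lit 47, nat_lit 51, nat_lit 373, nat_lit 417, nat_lit 518, nat_lit 837, nat_lit 949, nat_lit 1055, nat_lit 8167, nat_lit 8171, nat_lit 8493, nat_lit 8537, nat_lit 8638, nat_lit 8957, nat_lit 9069, nat_lit 9175]], [nat_lit 28, nat_lit 38, nat_lit 48, nat_lit 17], [nat_lit 17, nat_lit 40, nat_lit 22, nat_lit 6, nat_lit 13, nat_lit 4, nat_lit 10, nat_lit 9, nat_lit 14, nat_lit 5, nat_lit 1, nat_lit 2]),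
  (nat_lit 0x100000001000000000100000100000000010001000000010000010000000100010001000101000000010000000000000100010000, nat_lit 99, [[nat_lit 152, nat_lit 240, nat_lit 285, nat_lit 304, nat_lit 328, nat_lit 466, nat_lit 748, nat_lit 1509, nat_lit 8272, nat_lit 8360, nat_lit 8405, nat_lit 8424, nat_lit 8448, nat_lit 8586, nat_lit 8868, nat_lit 9629]], [nat_lit 20, nat_lit 33, nat_lit 48, nat_lit 2], [nat_lit 44, nat_lit 22, nat_lit 34, nat_lit 1, nat_lit 13, nat_lit 2, nat_lit 4, nat_lit 8, nat_lit 12, nat_lit 3, nat_lit 5, nat_lit 6])]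

def BK55 : List Ent := [(nat_lit 0x10000010000000100010100010000010000000100000001000000000100000100000100000001000100000000000100000100000000, nat_lit 99, [[nat_lit 31, nat_lit 1009, nat_lit 1086, nat_lit 1265, nat_lit 1338, nat_lit 1348, nat_lit 1640, nat_lit 1657, nat_lit 8151, nat_lit 9129, nat_lit 9206, nat_lit 9385, nat_lit 9458, nat_lit 9468, nat_lit 9760, nat_lit 9777]], [nat_lit 38, nat_lit 7, nat_lit 41, nat_lit 50], [nat_lit 39, nat_lit 9, nat_lit 3, nat_lit 11, nat_lit 22, nat_lit 15, nat_lit 2, nat_lit 12, nat_lit 10, nat_lit 4, nat_lit 1, nat_lit 5]),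
  (nat_lit 0x1000100010000000000010001000001000101000001000000010000010000000000000100000100000001000000000000010100, nat_lit 99, [[nat_lit 6006, nat_lit 6050, nat_lit 6051, nat_lit 6055, nat_lit 7074, nat_lit 7078, nat_lit 7079, nat_lit 7135, nat_lit 14126, nat_lit 14170, nat_lit 14171, nat_lit 14175, nat_lit 15194, nat_lit 15198, nat_lit 15199, nat_lit 15255]], [nat_lit 30, nat_lit 41, nat_lit 1, nat_lit 39], [nat_lit 140, nat_lit 31, nat_lit 59, nat_lit 27, nat_lit 6, nat_lit 33, nat_lit 16, nat_lit 5816, nat_lit 14, nat_lit 1, nat_lit 2, nat_lit 3]),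
  (nat_lit 0x10001000001010000000000000000000000000000000000010100000000010100000101000001010001000100010100, nat_lit 0, [[nat_lit 10, nat_lit 4]], [], []),
  (nat_lit 0x10100010001000100010000010100000000000101010100000000000000000101000000000101, nat_lit 0, [[nat_lit 40, nat_lit 17]], [], []),
  (nat_lit 0x101000001010000000000000000000000000000000000000100010000010100010101010000000000010100000100010000000000000000, nat_lit 0, [[nat_lit 43, nat_lit 28]], [], []),
  (nat_lit 0x101000001010000000000000000000000000000000000000100010000010100010101010000000001000001010001000000000000000000, nat_lit 0, [[nat_lit 68, nat_lit 34]], [], []),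
  (nat_lit 0x10101010000000000000000000000000000000000000000000001010000010100010001000101000001010001000100, nat_lit 0, [[nat_lit 18, nat_lit 3]], [], []),
  (nat_lit 0x1010000010100000001000100010100010000010001000100000000000000000000000001010101, nat_lit 0, [[nat_lit 29, nat_lit 26]], [], []),
  (nat_lit 0x1000100010100000101000100010000000000000000000000000001010101000000000000000000000000000000000101000001010000, nat_lit 0, [[nat_lit 64, nat_lit 12]], [], []),
  (nat_lit 0x1000101000100010000000100000000000100010000000000000100000001000000000100000100010100000000000100000000000100, nat_lit 99, [[nat_lit 6228, nat_lit 6248, nat_lit 6250, nat_lit 6251, nat_lit 7364, nat_lit 7366, nat_lit 7367, nat_lit 7384, nat_lit 14348, nat_lit 14368, nat_lit 14370, nat_lit 14371, nat_lit 15484, nat_lit 15486, nat_lit 15487, nat_lit 15504]], [nat_lit 51, nat_lit 28, nat_lit 35, nat_lit 13], [nat_lit 44, nat_lit 17, nat_lit 25, nat_lit 4, nat_lit 5, nat_lit 9, nat_lit 8, nat_lit 3, nat_lit 1, nat_lit 7, nat_lit 2, nat_lit 5816]),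
  (nat_lit 0x1000100000000000000000100010001000000000001000100000101000001000001000000000100010000000001000000010000000100, nat_lit 99, [[nat_lit 6098, nat_lit 6099, nat_lit 6145, nat_lit 6150, nat_lit 7206, nat_lit 7207, nat_lit 7265, nat_lit 7270, nat_lit 14218, nat_lit 14219, nat_lit 14265, nat_lit 14270, nat_lit 15326, nat_lit 15327, nat_lit 15385, nat_lit 15390]], [nat_lit 39, nat_lit 14, nat_lit 1, nat_lit 43], [nat_lit 16, nat_lit 31, nat_lit 11, nat_lit 26, nat_lit 32, nat_lit 6, nat_lit 3, nat_lit 5816, nat_lit 9, nat_lit 4, nat_lit 2, nat_lit 1]),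
  (nat_lit 0x101000000000101000001010001000000010000000100000000000001000000010000000100000000010000010100000100000000, nat_lit 99, [[nat_lit 136, nat_lit 352, nat_lit 391, nat_lit 491, nat_lit 756, nat_lit 1379, nat_lit 1437, nat_lit 1516, nat_lit 8256, nat_lit 8472, nat_lit 8511, nat_lit 8611, nat_lit 8876, nat_lit 9499, nat_lit 9557, nat_lit 9636]], [nat_lit 8, nat_lit 4, nat_lit 16, nat_lit 31], [nat_lit 10, nat_lit 16, nat_lit 1, nat_lit 5, nat_lit 9, nat_lit 18, nat_lit 3, nat_lit 7, nat_lit 2, nat_lit 4, nat_lit 6, nat_lit 13]),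
  (nat_lit 0x1010000000000000000010100000001000001010000010001000000010000000001000100000001000000000100000000000001000001, nat_lit 99, [[nat_lit 1960, nat_lit 1977, nat_lit 1978, nat_lit 1979, nat_lit 3034, nat_lit 3035, nat_lit 3036, nat_lit 3057, nat_lit 10080, nat_lit 10097, nat_lit 10098, nat_lit 10099, nat_lit 11154, nat_lit 11155, nat_lit 11156, nat_lit 11177]], [nat_lit 35, nat_lit 0, nat_lit 15, nat_lit 30], [nat_lit 11, nat_lit 15, nat_lit 26, nat_lit 28, nat_lit 3, nat_lit 6, nat_lit 16, nat_lit 1756, nat_lit 4, nat_lit 2, nat_lit 1, nat_lit 1896]),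
  (nat_lit 0x10000010000010000010001010000000100000000010100000000000001000001000000010000010001000000000001010000000000, nat_lit 99, [[nat_lit 4103, nat_lit 4417, nat_lit 4581, nat_lit 5019, nat_lit 5112, nat_lit 5169, nat_lit 5352, nat_lit 5718, nat_lit 12223, nat_lit 12537, nat_lit 12701, nat_lit 13139, nat_lit 13232, nat_lit 13289, nat_lit 13472, nat_lit 13838]], [nat_lit 50, nat_lit 12, nat_lit 17, nat_lit 42], [nat_lit 21, nat_lit 47, nat_lit 19, nat_lit 1, nat_lit 8, nat_lit 15, nat_lit 18, nat_lit 3, nat_lit 2, nat_lit 6, nat_lit 4, nat_lit 9]),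
  (nat_lit 0x1010000010100000000000000000000000000000000010001000001010001010101000000000100000101000100, nat_lit 0, [[nat_lit 37, nat_lit 24]], [], []),
  (nat_lit 0x1010000010100000000000000000000000000000000010001000001010001010101000000000001010000010001, nat_lit 0, [[nat_lit 37, nat_lit 24]], [], []),
  (nat_lit 0x101010101010101000000000000000000000000000000000000000000000000000000000000000000000000000000000000000000000000, nat_lit 2, [[nat_lit 5018], [nat_lit 4287], [nat_lit 1142], [nat_lit 6565], [nat_lit 8097], [nat_lit 3876], [nat_lit 2634], [nat_lit 6969], [nat_lit 3278, nat_lit 3277], [nat_lit 4912, nat_lit 4877], [nat_lit 1423, nat_lit 1422], [nat_lit 1935, nat_lit 1909]], [], []),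
  (nat_lit 0x101000000000101010100000101000000000000000000000001010001000100000000000000000000000000000000000100000101000100, nat_lit 0, [[nat_lit 21, nat_lit 6]], [], []),
  (nat_lit 0x101000000000101010100000101000000000000000000000001010001000100000000000000000000000000000000000001010000010001, nat_lit 0, [[nat_lit 14, nat_lit 12]], [], []),
  (nat_lit 0x1000101000001000000000000000001000001010001000000000000000000000000000000000001000100010000010100000100010001, nat_lit 99, [[nat_lit 1775, nat_lit 1776, nat_lit 1781, nat_lit 1782, nat_lit 2770, nat_lit 2771, nat_lit 2778, nat_lit 2779, nat_lit 2929, nat_lit 2930, nat_lit 2935, nat_lit 2936, nat_lit 3880, nat_lit 3881, nat_lit 3888, nat_lit 3889, nat_lit 9895, nat_lit 9896, nat_lit 9901, nat_lit 9902, nat_lit 10890, nat_lit 10891, nat_lit 10898, nat_lit 10899, nat_lit 11049, nat_lit 11050, nat_lit 11055, nat_lit 11056, nat_lit 12000, nat_lit 12001, nat_lit 12008, nat_lit 12009]], [nat_lit 33, nat_lit 51, nat_lit 2, nat_lit 54, nat_lit 48], [nat_lit 5, nat_lit 13, nat_lit 1, nat_lit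 19, nat_lit 7, nat_lit 6, nat_lit 3, nat_lit 2, nat_lit 8, nat_lit 10, nat_lit 1756]),
  (nat_lit 0x10100000101000000000000000000010100010001000000000000000000000000000000000000010100000100010000010101010000, nat_lit 0, [[nat_lit 41, nat_lit 37]], [], []),
  (nat_lit 0x10100000101000000000000000000010100010001000000000000000000000000000000000001000001010001000000010101010000, nat_lit 0, [[nat_lit 23, nat_lit 19]], [], []),
  (nat_lit 0x10001000000010100000001000001000101000100000001000000010000000000000100000100000001000100010000000000, nat_lit 99, [[nat_lit 4176, nat_lit 4430, nat_lit 4516, nat_lit 5024, nat_lit 5181, nat_lit 5249, nat_lit 5467, nat_lit 5615, nat_lit 12296, nat_lit 12550, nat_lit 12636, nat_lit 13144, nat_lit 13301, nat_lit 13369, nat_lit 13587, nat_lit 13735]], [nat_lit 23, nat_lit 44, nat_lit 50, nat_lit 31], [nat_lit 9, nat_lit 61, nat_lit 1, nat_lit 22, nat_lit 17, nat_lit 5, nat_lit 13, nat_lit 4, nat_lit 3, nat_lit 6, nat_lit 2, nat_lit 10]),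
  (nat_lit 0x10000000001000100000000010000000100000001000001000100000000000000000100010001000000000001000100000101000001, nat_lit 99, [[nat_lit 2023, nat_lit 2024, nat_lit 2025, nat_lit 2034, nat_lit 3125, nat_lit 3134, nat_lit 3135, nat_lit 3136, nat_lit 10143, nat_lit 10144, nat_lit 10145, nat_lit 10154, nat_lit 11245, nat_lit 11254, nat_lit 11255, nat_lit 11256]], [nat_lit 41, nat_lit 33, nat_lit 53, nat_lit 4], [nat_lit 39, nat_lit 6, nat_lit 5, nat_lit 12, nat_lit 10, nat_lit 9, nat_lit 1, nat_lit 13, nat_lit 4, nat_lit 2, nat_lit 1756, nat_lit 1896]),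
  (nat_lit 0x10000000001000000010001000000000100000001000001000100000000000000000001000100000001010000000100010000010001, nat_lit 99, [[nat_lit 1791, nat_lit 1792, nat_lit 1793, nat_lit 1794, nat_lit 2805, nat_lit 2806, nat_lit 2807, nat_lit 2808, nat_lit 9911, nat_lit 9912, nat_lit 9913, nat_lit 9914, nat_lit 10925, nat_lit 10926, nat_lit 10927, nat_lit 10928]], [nat_lit 30, nat_lit 16, nat_lit 37, nat_lit 12], [nat_lit 26, nat_lit 20, nat_lit 5, nat_lit 1, nat_lit 6, nat_lit 7, nat_lit 10, nat_lit 9, nat_lit 11, nat_lit 3, nat_lit 2, nat_lit 1756]),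
  (nat_lit 0x100000001000000000001010000000000010001000000010000010000010000010100000100000100000000010100000000000001, nat_lit 99, [[nat_lit 2269, nat_lit 2270, nat_lit 2317, nat_lit 2318, nat_lit 3429, nat_lit 3430, nat_lit 3485, nat_lit 3486, nat_lit 10389, nat_lit 10390, nat_lit 10437, nat_lit 10438, nat_lit 11549, nat_lit 11550, nat_lit 11605, nat_lit 11606]], [nat_lit 0, nat_lit 52, nat_lit 26, nat_lit 13], [nat_lit 12, nat_lit 4, nat_lit 62, nat_lit 1, nat_lit 13, nat_lit 19, nat_lit 16, nat_lit 1756, nat_lit 7, nat_lit 6, nat_lit 5, nat_lit 2]),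
  (nat_lit 0x1000101000001000000000000000000010100000100010000000000000000000000000000000001000100010000010100000100010001, nat_lit 0, [[nat_lit 11, nat_lit 3]], [], []),
  (nat_lit 0x100000000000001000100000100000000000000010000010100000100000000000001000001000000010001000100010000010000000001, nat_lit 99, [[nat_lit 2388, nat_lit 2441, nat_lit 2442, nat_lit 2443, nat_lit 3556, nat_lit 3557, nat_lit 3558, nat_lit 3627, nat_lit 10508, nat_lit 10561, nat_lit 10562, nat_lit 10563, nat_lit 11676, nat_lit 11677, nat_lit 11678, nat_lit 11747]], [nat_lit 5, nat_lit 18, nat_lit 12, nat_lit 48], [nat_lit 56, nat_lit 6, nat_lit 21, nat_lit 1, nat_lit 20, nat_lit 13, nat_lit 10, nat_lit 5, nat_lit 4, nat_lit 2, nat_lit 7, nat_lit 1756]),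
  (nat_lit 0x10001010000000000010001000100000100010000010000000001000100000000010000010000010000000000000001000001, nat_lit 99, [[nat_lit 2557, nat_lit 2566, nat_lit 2570, nat_lit 2571, nat_lit 3790, nat_lit 3791, nat_lit 3793, nat_lit 3802, nat_lit 10677, nat_lit 10686, nat_lit 10690, nat_lit 10691, nat_lit 11910, nat_lit 11911, nat_lit 11913, nat_lit 11922]], [nat_lit 24, nat_lit 17, nat_lit 11, nat_lit 47], [nat_lit 3, nat_lit 2, nat_lit 7, nat_lit 4, nat_lit 5, nat_lit 8, nat_lit 1, nat_lit 6, nat_lit 10, nat_lit 12, nat_lit 1756, nat_lit 1896]),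
  (nat_lit 0x10000000001010000000000000101000000000100000100010000000000000000000001000100000100000100000100010000010001, nat_lit 99, [[nat_lit 1870, nat_lit 1875, nat_lit 2914, nat_lit 2915, nat_lit 2916, nat_lit 2921, nat_lit 2922, nat_lit 2923, nat_lit 9990, nat_lit 9995, nat_lit 11034, nat_lit 11035, nat_lit 11036, nat_lit 11041, nat_lit 11042, nat_lit 11043]], [nat_lit 0, nat_lit 10, nat_lit 48, nat_lit 31], [nat_lit 345, nat_lit 1946, nat_lit 26, nat_lit 33, nat_lit 20, nat_lit 4, nat_lit 13, nat_lit 1, nat_lit 3, nat_lit 2, nat_lit 5, nat_lit 9])]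

def BK56 : List Ent := [(nat_lit 0x101000100010000000000000000000000000000000000000101000001000101010000000001010101000001010000, nat_lit 0, [[nat_lit 37, nat_lit 24]], [], []),
  (nat_lit 0x1000001000000000100010000000000000000010001000000000101000000010001000001000100000001000001000001000000000100, nat_lit 99, [[nat_lit 6280, nat_lit 6281, nat_lit 6318, nat_lit 6319, nat_lit 7410, nat_lit 7411, nat_lit 7476, nat_lit 7477, nat_lit 14400, nat_lit 14401, nat_lit 14438, nat_lit 14439, nat_lit 15530, nat_lit 15531, nat_lit 15596, nat_lit 15597]], [nat_lit 1, nat_lit 12, nat_lit 35, nat_lit 44], [nat_lit 31, nat_lit 205, nat_lit 27, nat_lit 59, nat_lit 18, nat_lit 5816, nat_lit 14, nat_lit 6, nat_lit 3, nat_lit 1, nat_lit 2, nat_lit 4]),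
  (nat_lit 0x10001000101000001010001000100000100010100000100000000000000000100000101000100, nat_lit 99, [[nat_lit 5861, nat_lit 5862, nat_lit 6718, nat_lit 6719, nat_lit 6806, nat_lit 6809, nat_lit 6881, nat_lit 6882, nat_lit 6962, nat_lit 6963, nat_lit 6964, nat_lit 6965, nat_lit 7974, nat_lit 7975, nat_lit 8094, nat_lit 8097, nat_lit 13981, nat_lit 13982, nat_lit 14838, nat_lit 14839, nat_lit 14926, nat_lit 14929, nat_lit 15001, nat_lit 15002, nat_lit 15082, nat_lit 15083, nat_lit 15084, nat_lit 15085, nat_lit 16094, nat_lit 16095, nat_lit 16214, nat_lit 16217]], [nat_lit 22, nat_lit 38, nat_lit 34, nat_lit 20, nat_lit 7], [nat_lit 22, nat_lit 14, nat_lit 18, nat_lit 1, nat_lit 3, nat_lit 4, nat_lit 2, nat_lit 6, nat_lit 5, nat_lit 1896, nat_lit 5816]),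
  (nat_lit 0x10001000101000001010001000100000100010100000100000000000000000001010000010001, nat_lit 0, [[nat_lit 40, nat_lit 17]], [], []),
  (nat_lit 0x101000100010000000000000000000000000000000000010000010100010001010000000001010101000001010000, nat_lit 0, [[nat_lit 37, nat_lit 24]], [], []),
  (nat_lit 0x1010000000000000001000001000001000001000101000000010000000001010000000000000100000100000001000001000100000000, nat_lit 99, [[nat_lit 192, nat_lit 228, nat_lit 666, nat_lit 711, nat_lit 847, nat_lit 1208, nat_lit 1463, nat_lit 1655, nat_lit 8312, nat_lit 8348, nat_lit 8786, nat_lit 8831, nat_lit 8967, nat_lit 9328, nat_lit 9583, nat_lit 9775]], [nat_lit 29, nat_lit 13, nat_lit 54, nat_lit 36], [nat_lit 9, nat_lit 32, nat_lit 2, nat_lit 15, nat_lit 19, nat_lit 24, nat_lit 1, nat_lit 12, nat_lit 4, nat_lit 5, nat_lit 3, nat_lit 10]),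
  (nat_lit 0x1000100000101000000000001010101000101000001000100000000000000000101000001010000, nat_lit 0, [[nat_lit 64, nat_lit 12]], [], []),
  (nat_lit 0x1000100000101000000000001010101010000010100010000000000000000000101000001010000, nat_lit 0, [[nat_lit 25, nat_lit 5]], [], []),
  (nat_lit 0x1010000000001010101000001010000010001000100000100000000000000000100010000010100, nat_lit 0, [[nat_lit 22, nat_lit 17]], [], []),
  (nat_lit 0x10101010100000101000100010100000000010100000000000000000100010001000001, nat_lit 0, [[nat_lit 34, nat_lit 23]], [], []),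
  (nat_lit 0x100000100010100000100000001000001000000000000010000010000000100000000000001010000000000010001000100000000000100, nat_lit 99, [[nat_lit 6384, nat_lit 6385, nat_lit 6387, nat_lit 6447, nat_lit 7555, nat_lit 7612, nat_lit 7613, nat_lit 7615, nat_lit 14504, nat_lit 14505, nat_lit 14507, nat_lit 14567, nat_lit 15675, nat_lit 15732, nat_lit 15733, nat_lit 15735]], [nat_lit 25, nat_lit 42, nat_lit 17, nat_lit 32], [nat_lit 10, nat_lit 16, nat_lit 23, nat_lit 7, nat_lit 5, nat_lit 1, nat_lit 6, nat_lit 12, nat_lit 4, nat_lit 15, nat_lit 2, nat_lit 5816]),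
  (nat_lit 0x10101010001010000010001010100000000010100000000000000000100010001000001, nat_lit 0, [[nat_lit 34, nat_lit 23]], [], []),
  (nat_lit 0x10100000000010101010000010100000001000100010100000000000000000001000100000101000000000000000000, nat_lit 0, [[nat_lit 49, nat_lit 48]], [], []),
  (nat_lit 0x1000100000100000000000100010100000101000000010000000001000001000100000001000000000100000100010000000000, nat_lit 99, [[nat_lit 4688, nat_lit 4746, nat_lit 5032, nat_lit 5221, nat_lit 5284, nat_lit 5626, nat_lit 5664, nat_lit 5703, nat_lit 12808, nat_lit 12866, nat_lit 13152, nat_lit 13341, nat_lit 13404, nat_lit 13746, nat_lit 13784, nat_lit 13823]], [nat_lit 33, nat_lit 19, nat_lit 46, nat_lit 29], [nat_lit 25, nat_lit 13, nat_lit 42, nat_lit 55, nat_lit 11, nat_lit 3, nat_lit 5, nat_lit 1, nat_lit 2, nat_lit 4, nat_lit 8, nat_lit 9]),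
  (nat_lit 0x1000100000000000000000001000101000000000001000100000101000001000000010000010000000001000100000001000001000000, nat_lit 99, [[nat_lit 4322, nat_lit 4818, nat_lit 4976, nat_lit 5036, nat_lit 5050, nat_lit 5106, nat_lit 5264, nat_lit 5723, nat_lit 12442, nat_lit 12938, nat_lit 13096, nat_lit 13156, nat_lit 13170, nat_lit 13226, nat_lit 13384, nat_lit 13843]], [nat_lit 20, nat_lit 33, nat_lit 40, nat_lit 6], [nat_lit 6, nat_lit 12, nat_lit 21, nat_lit 17, nat_lit 29, nat_lit 20, nat_lit 4, nat_lit 3, nat_lit 7, nat_lit 1, nat_lit 2, nat_lit 1896]),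
  (nat_lit 0x10001000000000000010000000100000000010000010001010000000000010000000000010000010001010001000100000001000000, nat_lit 99, [[nat_lit 4367, nat_lit 4547, nat_lit 4633, nat_lit 5073, nat_lit 5230, nat_lit 5484, nat_lit 5607, nat_lit 5666, nat_lit 12487, nat_lit 12667, nat_lit 12753, nat_lit 13193, nat_lit 13350, nat_lit 13604, nat_lit 13727, nat_lit 13786]], [nat_lit 17, nat_lit 40, nat_lit 9, nat_lit 29], [nat_lit 47, nat_lit 32, nat_lit 16, nat_lit 5, nat_lit 8, nat_lit 2, nat_lit 4, nat_lit 1, nat_lit 3, nat_lit 6, nat_lit 13, nat_lit 1896]),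
  (nat_lit 0x1000001000000000000000100000100000000000100010100000000000100010001000001000100000100000000010001000000000100, nat_lit 99, [[nat_lit 6332, nat_lit 6333, nat_lit 6374, nat_lit 6375, nat_lit 7494, nat_lit 7495, nat_lit 7540, nat_lit 7541, nat_lit 14452, nat_lit 14453, nat_lit 14494, nat_lit 14495, nat_lit 15614, nat_lit 15615, nat_lit 15660, nat_lit 15661]], [nat_lit 23, nat_lit 31, nat_lit 43, nat_lit 34], [nat_lit 3, nat_lit 18, nat_lit 21, nat_lit 1, nat_lit 31, nat_lit 6, nat_lit 5, nat_lit 9, nat_lit 7, nat_lit 2, nat_lit 13, nat_lit 5816]),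
  (nat_lit 0x1000100000100000000000100010100010000010001000000010000000000010001000001000000000100000000000001000001, nat_lit 99, [[nat_lit 2553, nat_lit 2574, nat_lit 2575, nat_lit 2576, nat_lit 3785, nat_lit 3786, nat_lit 3787, nat_lit 3804, nat_lit 10673, nat_lit 10694, nat_lit 10695, nat_lit 10696, nat_lit 11905, nat_lit 11906, nat_lit 11907, nat_lit 11924]], [nat_lit 15, nat_lit 3, nat_lit 49, nat_lit 26], [nat_lit 62, nat_lit 14, nat_lit 24, nat_lit 3, nat_lit 5, nat_lit 1896, nat_lit 1756, nat_lit 2, nat_lit 1, nat_lit 6, nat_lit 8, nat_lit 4]),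
  (nat_lit 0x10100000101000000000000000000000000000000000001000101000001000000000101010100010100000100010000000000000000, nat_lit 0, [[nat_lit 63, nat_lit 35]], [], []),
  (nat_lit 0x10100000101000000000000000000000000000000000001000101000001000000000101010101000001010001000000000000000000, nat_lit 0, [[nat_lit 43, nat_lit 28]], [], []),
  (nat_lit 0x100000100010001010001000001010000000000010101010000000000000000010100000000010100000000000000000000000000000000, nat_lit 0, [[nat_lit 14, nat_lit 5]], [], []),
  (nat_lit 0x1000101000001000000000101010100000000000000000000010101010000000000000000000000000000000000000001010001000100, nat_lit 0, [[nat_lit 35, nat_lit 34]], [], [])]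

def BK57 : List Ent := [(nat_lit 0x1000000000100000001000000010001000100000000000100000100000000000100000000000100010100000101000100000001000000, nat_lit 99, [[nat_lit 4356, nat_lit 4371, nat_lit 4674, nat_lit 4680, nat_lit 4712, nat_lit 5311, nat_lit 5493, nat_lit 5501, nat_lit 12476, nat_lit 12491, nat_lit 12794, nat_lit 12800, nat_lit 12832, nat_lit 13431, nat_lit 13613, nat_lit 13621]], [nat_lit 41, nat_lit 10, nat_lit 16, nat_lit 28], [nat_lit 52, nat_lit 4, nat_lit 7, nat_lit 17, nat_lit 6, nat_lit 3, nat_lit 2, nat_lit 5, nat_lit 1, nat_lit 10, nat_lit 12, nat_lit 1896]),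
  (nat_lit 0x1010000010100000001000100010100000101000100010000000000000000000101010100000000, nat_lit 0, [[nat_lit 40, nat_lit 17]], [], []),
  (nat_lit 0x10101010000000000000000000000000000000000000000010100000101000001000100010000010001010001000100, nat_lit 0, [[nat_lit 37, nat_lit 24]], [], []),
  (nat_lit 0x1000000010000000000010001000000000100000001000000000000010100010000010000000000010000000000010001000101000100, nat_lit 99, [[nat_lit 5927, nat_lit 5928, nat_lit 5929, nat_lit 5936, nat_lit 6973, nat_lit 6984, nat_lit 6985, nat_lit 6986, nat_lit 14047, nat_lit 14048, nat_lit 14049, nat_lit 14056, nat_lit 15093, nat_lit 15104, nat_lit 15105, nat_lit 15106]], [nat_lit 14, nat_lit 44, nat_lit 26, nat_lit 23], [nat_lit 52, nat_lit 11, nat_lit 3, nat_lit 17, nat_lit 1, nat_lit 8, nat_lit 18, nat_lit 9, nat_lit 4, nat_lit 6, nat_lit 1896, nat_lit 5816]),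
  (nat_lit 0x10001000000000100000100000001000100000000000000000001000100000000010100000001000001000101000001000000010000, nat_lit 99, [[nat_lit 103, nat_lit 725, nat_lit 1095, nat_lit 1106, nat_lit 1130, nat_lit 1180, nat_lit 1551, nat_lit 1716, nat_lit 8223, nat_lit 8845, nat_lit 9215, nat_lit 9226, nat_lit 9250, nat_lit 9300, nat_lit 9671, nat_lit 9836]], [nat_lit 2, nat_lit 46, nat_lit 9, nat_lit 27], [nat_lit 3, nat_lit 5, nat_lit 7, nat_lit 11, nat_lit 12, nat_lit 15, nat_lit 17, nat_lit 4, nat_lit 2, nat_lit 6, nat_lit 8, nat_lit 1]),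
  (nat_lit 0x1000001000000000000000001010001000001000000000000010000010000010000010100000101000000010000000000000100010000, nat_lit 99, [[nat_lit 272, nat_lit 981, nat_lit 1015, nat_lit 1108, nat_lit 1157, nat_lit 1173, nat_lit 1367, nat_lit 1422, nat_lit 8392, nat_lit 9101, nat_lit 9135, nat_lit 9228, nat_lit 9277, nat_lit 9293, nat_lit 9487, nat_lit 9542]], [nat_lit 54, nat_lit 41, nat_lit 23, nat_lit 4], [nat_lit 91, nat_lit 44, nat_lit 1, nat_lit 2, nat_lit 4, nat_lit 5, nat_lit 6, nat_lit 9, nat_lit 3, nat_lit 8, nat_lit 10, nat_lit 13]),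
  (nat_lit 0x1000100000000000000000100010000000001010000000001000101000100000000010000010000010000000001000001000001000000, nat_lit 99, [[nat_lit 4274, nat_lit 4520, nat_lit 4624, nat_lit 5016, nat_lit 5139, nat_lit 5354, nat_lit 5608, nat_lit 5679, nat_lit 12394, nat_lit 12640, nat_lit 12744, nat_lit 13136, nat_lit 13259, nat_lit 13474, nat_lit 13728, nat_lit 13799]], [nat_lit 25, nat_lit 36, nat_lit 43, nat_lit 52], [nat_lit 16, nat_lit 17, nat_lit 1, nat_lit 12, nat_lit 21, nat_lit 6, nat_lit 7, nat_lit 4, nat_lit 3, nat_lit 2, nat_lit 5, nat_lit 1896]),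
  (nat_lit 0x100000000010000000100010000000000000000010001000001000000000001010001000100010001000000010000000001000000000100, nat_lit 99, [[nat_lit 6340, nat_lit 6341, nat_lit 6344, nat_lit 6345, nat_lit 6366, nat_lit 6367, nat_lit 6370, nat_lit 6371, nat_lit 14460, nat_lit 14461, nat_lit 14464, nat_lit 14465, nat_lit 14486, nat_lit 14487, nat_lit 14490, nat_lit 14491]], [nat_lit 19, nat_lit 11, nat_lit 6, nat_lit 33], [nat_lit 25, nat_lit 27, nat_lit 4, nat_lit 13, nat_lit 3, nat_lit 10, nat_lit 11, nat_lit 6, nat_lit 2, nat_lit 1, nat_lit 5, nat_lit 5816]),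
  (nat_lit 0x1010001000100000000000000000000000000010101010000000000000000000000000000000001010000010100000100010001000001, nat_lit 0, [[nat_lit 30, nat_lit 11]], [], []),
  (nat_lit 0x10001000000000100000100000000000000010000010001010000000000000100000000000101000001000101000000010000000001, nat_lit 99, [[nat_lit 2115, nat_lit 2134, nat_lit 2135, nat_lit 2136, nat_lit 3225, nat_lit 3226, nat_lit 3227, nat_lit 3258, nat_lit 10235, nat_lit 10254, nat_lit 10255, nat_lit 10256, nat_lit 11345, nat_lit 11346, nat_lit 11347, nat_lit 11378]], [nat_lit 53, nat_lit 43, nat_lit 0, nat_lit 15], [nat_lit 91, nat_lit 42, nat_lit 14, nat_lit 1, nat_lit 3, nat_lit 1757, nat_lit 5, nat_lit 6, nat_lit 7, nat_lit 2, nat_lit 9, nat_lit 12]),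
  (nat_lit 0x100000100000000000001000001000001000100000100010001000000010000000100000000010000010000010000000100010000000000, nat_lit 99, [[nat_lit 4204, nat_lit 4213, nat_lit 4494, nat_lit 4695, nat_lit 4837, nat_lit 4962, nat_lit 5596, nat_lit 5787, nat_lit 12324, nat_lit 12333, nat_lit 12614, nat_lit 12815, nat_lit 12957, nat_lit 13082, nat_lit 13716, nat_lit 13907]], [nat_lit 45, nat_lit 17, nat_lit 5, nat_lit 39], [nat_lit 103, nat_lit 1, nat_lit 9, nat_lit 21, nat_lit 12, nat_lit 14, nat_lit 10, nat_lit 4, nat_lit 5, nat_lit 7, nat_lit 15, nat_lit 2]),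
  (nat_lit 0x101000000010001000100010000000100000000010000000100010000000000010000000100000000000101000100000100000000, nat_lit 99, [[nat_lit 308, nat_lit 371, nat_lit 704, nat_lit 857, nat_lit 897, nat_lit 1024, nat_lit 1583, nat_lit 1595, nat_lit 8428, nat_lit 8491, nat_lit 8824, nat_lit 8977, nat_lit 9017, nat_lit 9144, nat_lit 9703, nat_lit 9715]], [nat_lit 37, nat_lit 9, nat_lit 43, nat_lit 52], [nat_lit 17, nat_lit 42, nat_lit 6, nat_lit 21, nat_lit 12, nat_lit 13, nat_lit 4, nat_lit 8, nat_lit 2, nat_lit 9, nat_lit 3, nat_lit 1]),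
  (nat_lit 0x1010000000001010101000001010000000100010001010000000000000000000001000101000001, nat_lit 0, [[nat_lit 43, nat_lit 28]], [], []),
  (nat_lit 0x101010101000001010001000000010101010000000000000000000000010001000101000000000000000000, nat_lit 0, [[nat_lit 13, nat_lit 1]], [], []),
  (nat_lit 0x100000100000000000100000000000101000001000101000000000100000100010000000000000100000100000001000000000001000001, nat_lit 99, [[nat_lit 1948, nat_lit 1989, nat_lit 3020, nat_lit 3024, nat_lit 3025, nat_lit 3068, nat_lit 3069, nat_lit 3073, nat_lit 10068, nat_lit 10109, nat_lit 11140, nat_lit 11144, nat_lit 11145, nat_lit 11188, nat_lit 11189, nat_lit 11193]], [nat_lit 39, nat_lit 0, nat_lit 25, nat_lit 40], [nat_lit 34, nat_lit 76, nat_lit 26, nat_lit 33, nat_lit 16, nat_lit 5, nat_lit 15, nat_lit 1756, nat_lit 2, nat_lit 3, nat_lit 1, nat_lit 1896]),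
  (nat_lit 0x100010000000000010000000101000100000000000001010000000000010000000000010001000100010001000000000100000100, nat_lit 99, [[nat_lit 6459, nat_lit 6486, nat_lit 7633, nat_lit 7634, nat_lit 7635, nat_lit 7674, nat_lit 7675, nat_lit 7676, nat_lit 14579, nat_lit 14606, nat_lit 15753, nat_lit 15754, nat_lit 15755, nat_lit 15794, nat_lit 15795, nat_lit 15796]], [nat_lit 50, nat_lit 37, nat_lit 13, nat_lit 23], [nat_lit 2, nat_lit 19, nat_lit 4, nat_lit 22, nat_lit 3, nat_lit 6, nat_lit 5, nat_lit 8, nat_lit 9, nat_lit 1, nat_lit 10, nat_lit 5816]),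
  (nat_lit 0x101010100000000000000000000000000000000000001010000010101000100010000010001010001000100, nat_lit 0, [[nat_lit 37, nat_lit 24]], [], []),
  (nat_lit 0x10001000100000100010100010001000001000101000001000000000000000000010100000100010000000000000000, nat_lit 99, [[nat_lit 210, nat_lit 227, nat_lit 301, nat_lit 330, nat_lit 331, nat_lit 446, nat_lit 477, nat_lit 682, nat_lit 767, nat_lit 769, nat_lit 1033, nat_lit 1058, nat_lit 1062, nat_lit 1142, nat_lit 1617, nat_lit 1649, nat_lit 8330, nat_lit 8347, nat_lit 8421, nat_lit 8450, nat_lit 8451, nat_lit 8566, nat_lit 8597, nat_lit 8802, nat_lit 8887, nat_lit 8889, nat_lit 9153, nat_lit 9178, nat_lit 9182, nat_lit 9262, nat_lit 9737, nat_lit 9769]], [nat_lit 35, nat_lit 10, nat_lit 37, nat_lit 45, nat_lit 14], [nat_lit 9, nat_lit 11, nat_lit 10, nat_lit 20, nat_lit 21, nat_lit 24, nat_lit 7, nat_lit 1, nat_lit 3, nat_lit 2, nat_lit 5]),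
  (nat_lit 0x10001000100000100010100010001000001000101000001000000000000000001000001010001000000000000000000, nat_lit 0, [[nat_lit 35, nat_lit 13]], [], []),
  (nat_lit 0x101010100010100000100010000010101010000000000000000000000010001000101000000000000000000, nat_lit 0, [[nat_lit 40, nat_lit 17]], [], []),
  (nat_lit 0x100000001000000000001010000010100000000000100000000000100000101000100000100000100000000010001000000000100, nat_lit 99, [[nat_lit 6285, nat_lit 6286, nat_lit 6313, nat_lit 6314, nat_lit 7421, nat_lit 7422, nat_lit 7465, nat_lit 7466, nat_lit 14405, nat_lit 14406, nat_lit 14433, nat_lit 14434, nat_lit 15541, nat_lit 15542, nat_lit 15585, nat_lit 15586]], [nat_lit 21, nat_lit 37, nat_lit 41, nat_lit 1], [nat_lit 3, nat_lit 61, nat_lit 63, nat_lit 18, nat_lit 20, nat_lit 21, nat_lit 22, nat_lit 5816, nat_lit 1, nat_lit 2, nat_lit 4, nat_lit 7]),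
  (nat_lit 0x1010001000001000000010000010000000001000100000100000000010000000000000001010001000001000000000100000000000100, nat_lit 99, [[nat_lit 6233, nat_lit 6244, nat_lit 6245, nat_lit 6247, nat_lit 7368, nat_lit 7369, nat_lit 7373, nat_lit 7383, nat_lit 14353, nat_lit 14364, nat_lit 14365, nat_lit 14367, nat_lit 15488, nat_lit 15489, nat_lit 15493, nat_lit 15503]], [nat_lit 26, nat_lit 34, nat_lit 53, nat_lit 41], [nat_lit 42, nat_lit 14, nat_lit 8, nat_lit 2, nat_lit 16, nat_lit 4, nat_lit 5, nat_lit 3, nat_lit 6, nat_lit 7, nat_lit 1, nat_lit 5816]),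
  (nat_lit 0x100000001010001000000000000000000010001000000010000010000000100010100010000000001000001000000010001000000, nat_lit 99, [[nat_lit 4312, nat_lit 4622, nat_lit 4662, nat_lit 4766, nat_lit 4925, nat_lit 5304, nat_lit 5517, nat_lit 5574, nat_lit 12432, nat_lit 12742, nat_lit 12782, nat_lit 12886, nat_lit 13045, nat_lit 13424, nat_lit 13637, nat_lit 13694]], [nat_lit 35, nat_lit 17, nat_lit 47, nat_lit 5], [nat_lit 9, nat_lit 7, nat_lit 95, nat_lit 3, nat_lit 26, nat_lit 12, nat_lit 18, nat_lit 13, nat_lit 14, nat_lit 1, nat_lit 5, nat_lit 1896]),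
  (nat_lit 0x10000000001000001000100000000000001000000010000000000010100000000000001000100010000000000010100010000010001, nat_lit 99, [[nat_lit 2662, nat_lit 2675, nat_lit 3922, nat_lit 3923, nat_lit 3924, nat_lit 3937, nat_lit 3938, nat_lit 3939, nat_lit 10782, nat_lit 10795, nat_lit 12042, nat_lit 12043, nat_lit 12044, nat_lit 12057, nat_lit 12058, nat_lit 12059]], [nat_lit 7, nat_lit 32, nat_lit 48, nat_lit 16], [nat_lit 29, nat_lit 28, nat_lit 13, nat_lit 1, nat_lit 12, nat_lit 3, nat_lit 5, nat_lit 4, nat_lit 2, nat_lit 7, nat_lit 9, nat_lit 1756]),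
  (nat_lit 0x10000000001000000010001000000000001000000010000000000010100010000010000000000000001010000000001000100010001, nat_lit 99, [[nat_lit 1891, nat_lit 1892, nat_lit 2945, nat_lit 2946, nat_lit 2947, nat_lit 2948, nat_lit 2949, nat_lit 2950, nat_lit 10011, nat_lit 10012, nat_lit 11065, nat_lit 11066, nat_lit 11067, nat_lit 11068, nat_lit 11069, nat_lit 11070]], [nat_lit 36, nat_lit 25, nat_lit 48, nat_lit 44], [nat_lit 46, nat_lit 5, nat_lit 15, nat_lit 12, nat_lit 9, nat_lit 2, nat_lit 8, nat_lit 7, nat_lit 14, nat_lit 6, nat_lit 1, nat_lit 1756]),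
  (nat_lit 0x101000000000101000001010000010100000000000000000001010001000100000000000000000000000000000000000100000101000100, nat_lit 0, [[nat_lit 25, nat_lit 14]], [], []),
  (nat_lit 0x101000000000101000001010000010100000000000000000001010001000100000000000000000000000000000000000001010000010001, nat_lit 0, [[nat_lit 25, nat_lit 14]], [], []),
  (nat_lit 0x1000001000000000001000101000000000001000001000101000100000001000000000100010000000001000001000001000000, nat_lit 99, [[nat_lit 4092, nat_lit 4221, nat_lit 4789, nat_lit 5213, nat_lit 5251, nat_lit 5301, nat_lit 5542, nat_lit 5783, nat_lit 12212, nat_lit 12341, nat_lit 12909, nat_lit 13333, nat_lit 13371, nat_lit 13421, nat_lit 13662, nat_lit 13903]], [nat_lit 39, nat_lit 48, nat_lit 28, nat_lit 16], [nat_lit 110, nat_lit 2, nat_lit 10, nat_lit 15, nat_lit 20, nat_lit 6, nat_lit 1, nat_lit 3, nat_lit 7, nat_lit 4, nat_lit 5, nat_lit 1896])]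

def BK58 : List Ent := [(nat_lit 0x10100000101000000010001000101000001010001000100000000000000000001010101000000000000000000000000, nat_lit 0, [[nat_lit 41, nat_lit 24]], [], []),
  (nat_lit 0x101010100000000000000000000000000000000000000000101000001010000010001000100000100010100010001000000000000000000, nat_lit 0, [[nat_lit 29, nat_lit 6]], [], []),
  (nat_lit 0x101000100010000000000000000000000000000000000000101000001000100000101010100000101000001010000, nat_lit 0, [[nat_lit 37, nat_lit 24]], [], []),
  (nat_lit 0x100010001010000000000000000000000000000000000000000000101010100010100000100010101000000000101, nat_lit 0, [[nat_lit 37, nat_lit 24]], [], []),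
  (nat_lit 0x100010001010000000000000000000000000000000000000000000101010101000001010001000101000000000101, nat_lit 0, [[nat_lit 37, nat_lit 24]], [], []),
  (nat_lit 0x101000100010000000000000000000000000000000000010000010100010000000101010100000101000001010000, nat_lit 0, [[nat_lit 37, nat_lit 24]], [], []),
  (nat_lit 0x101010101010101000000000000000000000000000000000101010101010101, nat_lit 0, [[nat_lit 13, nat_lit 1]], [], []),
  (nat_lit 0x100010000000100000100000000010001000000000000000000010001010000000000010001000001010000010000000100000100, nat_lit 99, [[nat_lit 6183, nat_lit 6184, nat_lit 7301, nat_lit 7302, nat_lit 7303, nat_lit 7304, nat_lit 7305, nat_lit 7306, nat_lit 14303, nat_lit 14304, nat_lit 15421, nat_lit 15422, nat_lit 15423, nat_lit 15424, nat_lit 15425, nat_lit 15426]], [nat_lit 36, nat_lit 52, nat_lit 15, nat_lit 43], [nat_lit 8, nat_lit 16, nat_lit 28, nat_lit 3, nat_lit 18, nat_lit 9, nat_lit 19, nat_lit 1, nat_lit 6, nat_lit 2, nat_lit 4, nat_lit 5816]),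
  (nat_lit 0x101000000000100010100010001000000010000000100000000000001010000000001000000010001000000000001010000000000, nat_lit 99, [[nat_lit 4244, nat_lit 4604, nat_lit 4656, nat_lit 4973, nat_lit 5100, nat_lit 5129, nat_lit 5386, nat_lit 5669, nat_lit 12364, nat_lit 12724, nat_lit 12776, nat_lit 13093, nat_lit 13220, nat_lit 13249, nat_lit 13506, nat_lit 13789]], [nat_lit 31, nat_lit 14, nat_lit 23, nat_lit 35], [nat_lit 98, nat_lit 4, nat_lit 30, nat_lit 41, nat_lit 1, nat_lit 7, nat_lit 5, nat_lit 2, nat_lit 3, nat_lit 9, nat_lit 10, nat_lit 13]),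
  (nat_lit 0x10001000000010000000001000000000000010000010001010000000000000000010100000000010100000101000001000000010000, nat_lit 99, [[nat_lit 474, nat_lit 691, nat_lit 715, nat_lit 853, nat_lit 1139, nat_lit 1155, nat_lit 1574, nat_lit 1750, nat_lit 8594, nat_lit 8811, nat_lit 8835, nat_lit 8973, nat_lit 9259, nat_lit 9275, nat_lit 9694, nat_lit 9870]], [nat_lit 53, nat_lit 42, nat_lit 29, nat_lit 13], [nat_lit 174, nat_lit 106, nat_lit 63, nat_lit 2, nat_lit 8, nat_lit 15, nat_lit 9, nat_lit 3, nat_lit 1, nat_lit 10, nat_lit 4, nat_lit 6]),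
  (nat_lit 0x100000100000100000000010000000001000000010100010000000000010000010000000000000001010000000100000100010100, nat_lit 99, [[nat_lit 6062, nat_lit 6065, nat_lit 7146, nat_lit 7147, nat_lit 7148, nat_lit 7155, nat_lit 7156, nat_lit 7157, nat_lit 14182, nat_lit 14185, nat_lit 15266, nat_lit 15267, nat_lit 15268, nat_lit 15275, nat_lit 15276, nat_lit 15277]], [nat_lit 32, nat_lit 11, nat_lit 29, nat_lit 20], [nat_lit 60, nat_lit 6, nat_lit 16, nat_lit 10, nat_lit 4, nat_lit 18, nat_lit 8, nat_lit 2, nat_lit 3, nat_lit 7, nat_lit 1, nat_lit 5816]),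
  (nat_lit 0x100000100010000000000000100010000010000000001000100000000000101000000000000010000000000010001000100010001, nat_lit 99, [[nat_lit 2646, nat_lit 2655, nat_lit 3890, nat_lit 3891, nat_lit 3892, nat_lit 3909, nat_lit 3910, nat_lit 3911, nat_lit 10766, nat_lit 10775, nat_lit 12010, nat_lit 12011, nat_lit 12012, nat_lit 12029, nat_lit 12030, nat_lit 12031]], [nat_lit 22, nat_lit 4, nat_lit 35, nat_lit 40], [nat_lit 10, nat_lit 6, nat_lit 13, nat_lit 12, nat_lit 15, nat_lit 2, nat_lit 1, nat_lit 3, nat_lit 4, nat_lit 5, nat_lit 7, nat_lit 1756]),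
  (nat_lit 0x10100000000010101010000010100000001000100010100000000000000000000010001010000010000000000000000, nat_lit 0, [[nat_lit 40, nat_lit 17]], [], []),
  (nat_lit 0x1000000000100000000010000000100010001000000000000000001000100000001000001000000010100010000010001000000010000, nat_lit 99, [[nat_lit 166, nat_lit 259, nat_lit 425, nat_lit 692, nat_lit 1148, nat_lit 1174, nat_lit 1183, nat_lit 1685, nat_lit 8286, nat_lit 8379, nat_lit 8545, nat_lit 8812, nat_lit 9268, nat_lit 9294, nat_lit 9303, nat_lit 9805]], [nat_lit 21, nat_lit 13, nat_lit 6, nat_lit 38], [nat_lit 96, nat_lit 18, nat_lit 31, nat_lit 1, nat_lit 13, nat_lit 10, nat_lit 2, nat_lit 8, nat_lit 12, nat_lit 4, nat_lit 6, nat_lit 3]),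
  (nat_lit 0x101000000010000010100000101000000010000000100000000000001000000010000000100000000010000010100000100000000, nat_lit 99, [[nat_lit 145, nat_lit 441, nat_lit 908, nat_lit 1020, nat_lit 1167, nat_lit 1314, nat_lit 1332, nat_lit 1414, nat_lit 8265, nat_lit 8561, nat_lit 9028, nat_lit 9140, nat_lit 9287, nat_lit 9434, nat_lit 9452, nat_lit 9534]], [nat_lit 39, nat_lit 8, nat_lit 7, nat_lit 24], [nat_lit 44, nat_lit 41, nat_lit 39, nat_lit 8, nat_lit 2, nat_lit 4, nat_lit 10, nat_lit 3, nat_lit 1, nat_lit 7, nat_lit 6, nat_lit 13]),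
  (nat_lit 0x100000100010001010001000001010000000000000000000100000101000100000000000000000000000000000000000001000100010100, nat_lit 99, [[nat_lit 5976, nat_lit 5985, nat_lit 6070, nat_lit 6075, nat_lit 6590, nat_lit 6593, nat_lit 6654, nat_lit 6661, nat_lit 7048, nat_lit 7053, nat_lit 7162, nat_lit 7171, nat_lit 7812, nat_lit 7819, nat_lit 7892, nat_lit 7895, nat_lit 14096, nat_lit 14105, nat_lit 14190, nat_lit 14195, nat_lit 14710, nat_lit 14713, nat_lit 14774, nat_lit 14781, nat_lit 15168, nat_lit 15173, nat_lit 15282, nat_lit 15291, nat_lit 15932, nat_lit 15939, nat_lit 16012, nat_lit 16015]], [nat_lit 6, nat_lit 25, nat_lit 28, nat_lit 42, nat_lit 2], [nat_lit 4, nat_lit 7, nat_lit 13, nat_lit 10, nat_lit 8, nat_lit 2, nat_lit 5, nat_lit 9, nat_lit 6, nat_lit 1, nat_lit 5816]),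
  (nat_lit 0x1010101010000010100010000000101010100000000000000000000000100010001010000000000000000000000000000000000, nat_lit 0, [[nat_lit 55, nat_lit 15]], [], []),
  (nat_lit 0x100000100010001010001000001010000000000000000000001010000010001000000000000000000000000000000000001000100010100, nat_lit 0, [[nat_lit 10, nat_lit 4]], [], []),
  (nat_lit 0x1010101000000000000000000000000000000000000010100000101010001000100000100010100010001000000000000000000, nat_lit 0, [[nat_lit 58, nat_lit 26]], [], []),
  (nat_lit 0x1010001000001010000000100000000010000000001000000000100000001000000000100000100000000000100010001000000000001, nat_lit 99, [[nat_lit 2324, nat_lit 2325, nat_lit 2327, nat_lit 2387, nat_lit 3495, nat_lit 3552, nat_lit 3553, nat_lit 3555, nat_lit 10444, nat_lit 10445, nat_lit 10447, nat_lit 10507, nat_lit 11615, nat_lit 11672, nat_lit 11673, nat_lit 11675]], [nat_lit 24, nat_lit 38, nat_lit 8, nat_lit 0], [nat_lit 30, nat_lit 32, nat_lit 59, nat_lit 16, nat_lit 3, nat_lit 1763, nat_lit 5, nat_lit 6, nat_lit 1, nat_lit 9, nat_lit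 2, nat_lit 13]),
  (nat_lit 0x100010001000001000101000100010000010001010000010000000000000000000101000001000100000000000000000000000000000000, nat_lit 99, [[nat_lit 45, nat_lit 86, nat_lit 88, nat_lit 316, nat_lit 406, nat_lit 453, nat_lit 618, nat_lit 643, nat_lit 651, nat_lit 696, nat_lit 1007, nat_lit 1187, nat_lit 1313, nat_lit 1329, nat_lit 1560, nat_lit 1587, nat_lit 8165, nat_lit 8206, nat_lit 8208, nat_lit 8436, nat_lit 8526, nat_lit 8573, nat_lit 8738, nat_lit 8763, nat_lit 8771, nat_lit 8816, nat_lit 9127, nat_lit 9307, nat_lit 9433, nat_lit 9449, nat_lit 9680, nat_lit 9707]], [nat_lit 51, nat_lit 43, nat_lit 32, nat_lit 48, nat_lit 55], [nat_lit 60, nat_lit 24, nat_lit 10, nat_lit 8, nat_lit 7, nat_lit 9, nat_lit 2, nat_lit 1, nat_lit 3, nat_lit 4, nat_lit 12]),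
  (nat_lit 0x100010001000001000101000100010000010001010000010000000000000000010000010100010000000000000000000000000000000000, nat_lit 0, [[nat_lit 55, nat_lit 15]], [], []),
  (nat_lit 0x1010101000101000001000100000101010100000000000000000000000100010001010000000000000000000000000000000000, nat_lit 0, [[nat_lit 64, nat_lit 12]], [], [])]

def BK59 : List Ent := [(nat_lit 0x101000001010000000100010001010000000000000000000100010000010100000000000000000000000000000000000000010101010000, nat_lit 0, [[nat_lit 60, nat_lit 6]], [], []),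
  (nat_lit 0x100000001000000000100000000010000010000010000000000000000010100000101000000000000010000000000010100010000010001, nat_lit 99, [[nat_lit 1784, nat_lit 1785, nat_lit 1786, nat_lit 1797, nat_lit 2800, nat_lit 2815, nat_lit 2816, nat_lit 2817, nat_lit 9904, nat_lit 9905, nat_lit 9906, nat_lit 9917, nat_lit 10920, nat_lit 10935, nat_lit 10936, nat_lit 10937]], [nat_lit 46, nat_lit 8, nat_lit 7, nat_lit 51], [nat_lit 43, nat_lit 13, nat_lit 28, nat_lit 14, nat_lit 3, nat_lit 8, nat_lit 1, nat_lit 4, nat_lit 6, nat_lit 9, nat_lit 12, nat_lit 1756]),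
  (nat_lit 0x1010000010100010000000100000000010000000001000000010000000100010001000000000001000001000000000001000000000001, nat_lit 99, [[nat_lit 2167, nat_lit 2193, nat_lit 2194, nat_lit 2195, nat_lit 3299, nat_lit 3300, nat_lit 3301, nat_lit 3329, nat_lit 10287, nat_lit 10313, nat_lit 10314, nat_lit 10315, nat_lit 11419, nat_lit 11420, nat_lit 11421, nat_lit 11449]], [nat_lit 47, nat_lit 38, nat_lit 50, nat_lit 6], [nat_lit 12, nat_lit 19, nat_lit 23, nat_lit 30, nat_lit 7, nat_lit 9, nat_lit 2, nat_lit 8, nat_lit 1, nat_lit 3, nat_lit 5, nat_lit 1756]),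
  (nat_lit 0x100000000000100000100010100010000000001000001000000000100010000000001000000010000000000010000010000000001000100, nat_lit 99, [[nat_lit 6746, nat_lit 6747, nat_lit 6780, nat_lit 6785, nat_lit 8008, nat_lit 8009, nat_lit 8060, nat_lit 8061, nat_lit 14866, nat_lit 14867, nat_lit 14900, nat_lit 14905, nat_lit 16128, nat_lit 16129, nat_lit 16180, nat_lit 16181]], [nat_lit 1, nat_lit 44, nat_lit 11, nat_lit 55], [nat_lit 10, nat_lit 13, nat_lit 31, nat_lit 11, nat_lit 24, nat_lit 5823, nat_lit 1896, nat_lit 1, nat_lit 2, nat_lit 4, nat_lit 5, nat_lit 3]),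
  (nat_lit 0x10000010000010001000100010000010000000100000001000000000100010000000001000000000000010000010000000000010001, nat_lit 99, [[nat_lit 1806, nat_lit 1809, nat_lit 1856, nat_lit 1857, nat_lit 2834, nat_lit 2837, nat_lit 2892, nat_lit 2893, nat_lit 9926, nat_lit 9929, nat_lit 9976, nat_lit 9977, nat_lit 10954, nat_lit 10957, nat_lit 11012, nat_lit 11013]], [nat_lit 43, nat_lit 0, nat_lit 30, nat_lit 11], [nat_lit 1916, nat_lit 1935, nat_lit 10, nat_lit 21, nat_lit 13, nat_lit 4, nat_lit 2, nat_lit 8, nat_lit 12, nat_lit 6, nat_lit 3, nat_lit 1]),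
  (nat_lit 0x1000000010000000001000100000000000100000001000000000000010100000000000001000100000001010000000100010001000100, nat_lit 99, [[nat_lit 6708, nat_lit 6713, nat_lit 7956, nat_lit 7957, nat_lit 7958, nat_lit 7963, nat_lit 7964, nat_lit 7965, nat_lit 14828, nat_lit 14833, nat_lit 16076, nat_lit 16077, nat_lit 16078, nat_lit 16083, nat_lit 16084, nat_lit 16085]], [nat_lit 37, nat_lit 50, nat_lit 25, nat_lit 5], [nat_lit 26, nat_lit 17, nat_lit 6, nat_lit 31, nat_lit 3, nat_lit 8, nat_lit 2, nat_lit 4, nat_lit 5, nat_lit 1, nat_lit 1896, nat_lit 5816]),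
  (nat_lit 0x1000000000100000100000100000000010001000000000000000001000100000000010100000001000100000100010000000100000100, nat_lit 99, [[nat_lit 6464, nat_lit 6483, nat_lit 7640, nat_lit 7641, nat_lit 7642, nat_lit 7665, nat_lit 7666, nat_lit 7667, nat_lit 14584, nat_lit 14603, nat_lit 15760, nat_lit 15761, nat_lit 15762, nat_lit 15785, nat_lit 15786, nat_lit 15787]], [nat_lit 49, nat_lit 36, nat_lit 20, nat_lit 27], [nat_lit 24, nat_lit 30, nat_lit 11, nat_lit 3, nat_lit 7, nat_lit 5, nat_lit 20, nat_lit 2, nat_lit 4, nat_lit 1, nat_lit 8, nat_lit 5816]),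
  (nat_lit 0x10000010000010001000100010001000000010000000000000100010000000000010000000100000000010000010000000001000100, nat_lit 99, [[nat_lit 5874, nat_lit 5875, nat_lit 5909, nat_lit 5910, nat_lit 6904, nat_lit 6905, nat_lit 6941, nat_lit 6942, nat_lit 13994, nat_lit 13995, nat_lit 14029, nat_lit 14030, nat_lit 15024, nat_lit 15025, nat_lit 15061, nat_lit 15062]], [nat_lit 8, nat_lit 35, nat_lit 47, nat_lit 16], [nat_lit 1, nat_lit 5, nat_lit 7, nat_lit 3, nat_lit 8, nat_lit 4, nat_lit 2, nat_lit 9, nat_lit 6, nat_lit 10, nat_lit 1896, nat_lit 5816]),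
  (nat_lit 0x100010000010100000000000000000000000000000000000000010101010000000001010000010101000100010000010000000000000000, nat_lit 0, [[nat_lit 52, nat_lit 1]], [], []),
  (nat_lit 0x10000000100000100010000000000010100000000000000010000010000010000010001010000000100000000010100000000000001, nat_lit 99, [[nat_lit 3422, nat_lit 3423, nat_lit 3424, nat_lit 3425, nat_lit 3488, nat_lit 3489, nat_lit 3490, nat_lit 3491, nat_lit 11542, nat_lit 11543, nat_lit 11544, nat_lit 11545, nat_lit 11608, nat_lit 11609, nat_lit 11610, nat_lit 11611]], [nat_lit 23, nat_lit 53, nat_lit 38, nat_lit 29], [nat_lit 4, nat_lit 22, nat_lit 13, nat_lit 10, nat_lit 1, nat_lit 21, nat_lit 12, nat_lit 2, nat_lit 6, nat_lit 3, nat_lit 7, nat_lit 1756]),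
  (nat_lit 0x100000100010100000000010000010000010000000001000000000100000001010001000000000001000001000000000000000101000000, nat_lit 99, [[nat_lit 4139, nat_lit 4576, nat_lit 4668, nat_lit 4683, nat_lit 4684, nat_lit 4846, nat_lit 5119, nat_lit 5548, nat_lit 12259, nat_lit 12696, nat_lit 12788, nat_lit 12803, nat_lit 12804, nat_lit 12966, nat_lit 13239, nat_lit 13668]], [nat_lit 3, nat_lit 33, nat_lit 50, nat_lit 28], [nat_lit 15, nat_lit 22, nat_lit 30, nat_lit 62, nat_lit 17, nat_lit 1896, nat_lit 4, nat_lit 6, nat_lit 3, nat_lit 2, nat_lit 1, nat_lit 8]),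
  (nat_lit 0x1000100000001000001000000010100000101000000010000000001010000000000000100000001000000010000000000010100, nat_lit 99, [[nat_lit 6011, nat_lit 6044, nat_lit 6046, nat_lit 6047, nat_lit 7086, nat_lit 7087, nat_lit 7091, nat_lit 7124, nat_lit 14131, nat_lit 14164, nat_lit 14166, nat_lit 14167, nat_lit 15206, nat_lit 15207, nat_lit 15211, nat_lit 15244]], [nat_lit 42, nat_lit 24, nat_lit 16, nat_lit 34], [nat_lit 31, nat_lit 2, nat_lit 4, nat_lit 10, nat_lit 8, nat_lit 9, nat_lit 3, nat_lit 6, nat_lit 5, nat_lit 1, nat_lit 13, nat_lit 5816]),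
  (nat_lit 0x100010001000100000000010000010001000000000000010001000001000000000100010000000000010100000000000001000000000001, nat_lit 99, [[nat_lit 2175, nat_lit 2176, nat_lit 2177, nat_lit 2181, nat_lit 2182, nat_lit 2183, nat_lit 3315, nat_lit 3317, nat_lit 10295, nat_lit 10296, nat_lit 10297, nat_lit 10301, nat_lit 10302, nat_lit 10303, nat_lit 11435, nat_lit 11437]], [nat_lit 30, nat_lit 41, nat_lit 39, nat_lit 49], [nat_lit 20, nat_lit 63, nat_lit 23, nat_lit 25, nat_lit 5, nat_lit 7, nat_lit 4, nat_lit 9, nat_lit 3, nat_lit 2, nat_lit 6, nat_lit 1756]),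
  (nat_lit 0x1010000000000010000000000010000010001000100010000000100000100000000010001000000000001000000010100010000000000, nat_lit 99, [[nat_lit 4156, nat_lit 4615, nat_lit 4906, nat_lit 4958, nat_lit 5177, nat_lit 5180, nat_lit 5441, nat_lit 5705, nat_lit 12276, nat_lit 12735, nat_lit 13026, nat_lit 13078, nat_lit 13297, nat_lit 13300, nat_lit 13561, nat_lit 13825]], [nat_lit 20, nat_lit 5, nat_lit 38, nat_lit 53], [nat_lit 12, nat_lit 6, nat_lit 17, nat_lit 34, nat_lit 14, nat_lit 5, nat_lit 9, nat_lit 10, nat_lit 4, nat_lit 2, nat_lit 3, nat_lit 1]),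
  (nat_lit 0x1000000000100000100000100000000000000010000010000000000010001010000000000010001000100000100010000010000000001, nat_lit 99, [[nat_lit 2398, nat_lit 2427, nat_lit 2428, nat_lit 2429, nat_lit 3570, nat_lit 3571, nat_lit 3572, nat_lit 3617, nat_lit 10518, nat_lit 10547, nat_lit 10548, nat_lit 10549, nat_lit 11690, nat_lit 11691, nat_lit 11692, nat_lit 11737]], [nat_lit 54, nat_lit 10, nat_lit 5, nat_lit 23], [nat_lit 1, nat_lit 23, nat_lit 22, nat_lit 4, nat_lit 17, nat_lit 2, nat_lit 5, nat_lit 3, nat_lit 6, nat_lit 7, nat_lit 8, nat_lit 1756]),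
  (nat_lit 0x100010000000000000000000001000100000100000100000100010000010001000001000000000101000000000000010100000000010000, nat_lit 99, [[nat_lit 214, nat_lit 460, nat_lit 564, nat_lit 956, nat_lit 1079, nat_lit 1294, nat_lit 1548, nat_lit 1619, nat_lit 8334, nat_lit 8580, nat_lit 8684, nat_lit 9076, nat_lit 9199, nat_lit 9414, nat_lit 9668, nat_lit 9739]], [nat_lit 15, nat_lit 40, nat_lit 2, nat_lit 29], [nat_lit 6, nat_lit 74, nat_lit 12, nat_lit 21, nat_lit 5, nat_lit 4, nat_lit 13, nat_lit 1, nat_lit 9, nat_lit 7, nat_lit 15, nat_lit 2]),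
  (nat_lit 0x101000001010000010001000100000101000001000100010000000000000000010101010000000000000000000000000000000000000000, nat_lit 0, [[nat_lit 55, nat_lit 15]], [], []),
  (nat_lit 0x1010000000000000100000000000100010100010000010000010000000001000001000100000000010000010000000000000001000001, nat_lit 99, [[nat_lit 1963, nat_lit 1974, nat_lit 3039, nat_lit 3040, nat_lit 3041, nat_lit 3052, nat_lit 3053, nat_lit 3054, nat_lit 10083, nat_lit 10094, nat_lit 11159, nat_lit 11160, nat_lit 11161, nat_lit 11172, nat_lit 11173, nat_lit 11174]], [nat_lit 37, nat_lit 3, nat_lit 53, nat_lit 21], [nat_lit 8, nat_lit 39, nat_lit 10, nat_lit 9, nat_lit 18, nat_lit 1, nat_lit 13, nat_lit 1897, nat_lit 1756, nat_lit 4, nat_lit 2, nat_lit 5]),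
  (nat_lit 0x1000101000001000000000000000000000000000000000101000000000101000001010000010100010001000101000000000000000000, nat_lit 0, [[nat_lit 18, nat_lit 3]], [], []),
  (nat_lit 0x1010101000000000000000001010000000001010000000000000000000000000000000001000001000100010001000101000001, nat_lit 0, [[nat_lit 38, nat_lit 9]], [], []),
  (nat_lit 0x1000100010001010000000100000001000000000000010001000001000000000000000001010000000000010001000000000101000000, nat_lit 99, [[nat_lit 4476, nat_lit 4591, nat_lit 4601, nat_lit 4865, nat_lit 5142, nat_lit 5413, nat_lit 5461, nat_lit 5594, nat_lit 12596, nat_lit 12711, nat_lit 12721, nat_lit 12985, nat_lit 13262, nat_lit 13533, nat_lit 13581, nat_lit 13714]], [nat_lit 43, nat_lit 17, nat_lit 39, nat_lit 3], [nat_lit 407, nat_lit 1823, nat_lit 16, nat_lit 32, nat_lit 38, nat_lit 17, nat_lit 7, nat_lit 1896, nat_lit 1, nat_lit 4, nat_lit 2, nat_lit 5]),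
  (nat_lit 0x100010000010001000001000000000100010000000001000001000001000000000000000100000100000000000100010100000000000100, nat_lit 99, [[nat_lit 6394, nat_lit 6395, nat_lit 6397, nat_lit 6441, nat_lit 7561, nat_lit 7600, nat_lit 7601, nat_lit 7605, nat_lit 14514, nat_lit 14515, nat_lit 14517, nat_lit 14561, nat_lit 15681, nat_lit 15720, nat_lit 15721, nat_lit 15725]], [nat_lit 53, nat_lit 27, nat_lit 38, nat_lit 40], [nat_lit 4, nat_lit 10, nat_lit 7, nat_lit 9, nat_lit 13, nat_lit 16, nat_lit 1, nat_lit 6, nat_lit 5, nat_lit 15, nat_lit 2, nat_lit 5816]),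
  (nat_lit 0x100010001000001010000010001000100000000000000000000000001010101000000000000000000000000000000000101000001010000, nat_lit 0, [[nat_lit 25, nat_lit 5]], [], []),
  (nat_lit 0x10001000100000000000101000100000100010000010000000001000001000100000000000001000000010000000000010100, nat_lit 99, [[nat_lit 6602, nat_lit 6643, nat_lit 6644, nat_lit 6645, nat_lit 7832, nat_lit 7833, nat_lit 7834, nat_lit 7879, nat_lit 14722, nat_lit 14763, nat_lit 14764, nat_lit 14765, nat_lit 15952, nat_lit 15953, nat_lit 15954, nat_lit 15999]], [nat_lit 12, nat_lit 29, nat_lit 1, nat_lit 39], [nat_lit 11, nat_lit 43, nat_lit 26, nat_lit 82, nat_lit 4, nat_lit 16, nat_lit 24, nat_lit 5816, nat_lit 13, nat_lit 2, nat_lit 1, nat_lit 6])]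

def BK60 : List Ent := [(nat_lit 0x100010001000100010000000100000000000100010000000000010000000100010001000000000000000000010001000100000000000100, nat_lit 99, [[nat_lit 6389, nat_lit 6390, nat_lit 6391, nat_lit 6443, nat_lit 7557, nat_lit 7607, nat_lit 7608, nat_lit 7609, nat_lit 14509, nat_lit 14510, nat_lit 14511, nat_lit 14563, nat_lit 15677, nat_lit 15727, nat_lit 15728, nat_lit 15729]], [nat_lit 21, nat_lit 1, nat_lit 53, nat_lit 43], [nat_lit 34, nat_lit 20, nat_lit 9, nat_lit 7, nat_lit 10, nat_lit 19, nat_lit 23, nat_lit 5817, nat_lit 2, nat_lit 3, nat_lit 1, nat_lit 5]),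
  (nat_lit 0x1010000000000000000010100000000010001010001000100000001000000010000000000000101000000000100000001000100000000, nat_lit 99, [[nat_lit 144, nat_lit 153, nat_lit 434, nat_lit 635, nat_lit 777, nat_lit 902, nat_lit 1536, nat_lit 1727, nat_lit 8264, nat_lit 8273, nat_lit 8554, nat_lit 8755, nat_lit 8897, nat_lit 9022, nat_lit 9656, nat_lit 9847]], [nat_lit 36, nat_lit 54, nat_lit 31, nat_lit 15], [nat_lit 30, nat_lit 15, nat_lit 41, nat_lit 8, nat_lit 24, nat_lit 11, nat_lit 1, nat_lit 2, nat_lit 4, nat_lit 7, nat_lit 5, nat_lit 3]),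
  (nat_lit 0x1000000000100000001000000010000010001000000000000000001000100010000000000010000010100000101000000010000000001, nat_lit 99, [[nat_lit 2410, nat_lit 2415, nat_lit 3590, nat_lit 3591, nat_lit 3592, nat_lit 3597, nat_lit 3598, nat_lit 3599, nat_lit 10530, nat_lit 10535, nat_lit 11710, nat_lit 11711, nat_lit 11712, nat_lit 11717, nat_lit 11718, nat_lit 11719]], [nat_lit 45, nat_lit 25, nat_lit 0, nat_lit 13], [nat_lit 8, nat_lit 15, nat_lit 19, nat_lit 2, nat_lit 6, nat_lit 18, nat_lit 16, nat_lit 1756, nat_lit 4, nat_lit 1, nat_lit 3, nat_lit 9]),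
  (nat_lit 0x1000000010000000001000100000000010000010000000100010000000000000000000100010000000001010000000001010001000001, nat_lit 99, [[nat_lit 2609, nat_lit 2610, nat_lit 2611, nat_lit 2612, nat_lit 3843, nat_lit 3844, nat_lit 3845, nat_lit 3846, nat_lit 10729, nat_lit 10730, nat_lit 10731, nat_lit 10732, nat_lit 11963, nat_lit 11964, nat_lit 11965, nat_lit 11966]], [nat_lit 43, nat_lit 35, nat_lit 19, nat_lit 6], [nat_lit 18, nat_lit 31, nat_lit 6, nat_lit 12, nat_lit 2, nat_lit 4, nat_lit 5, nat_lit 7, nat_lit 1, nat_lit 9, nat_lit 1756, nat_lit 1896]),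
  (nat_lit 0x1000001010001000000010101010000010100000101000000000000000000000100000100010001, nat_lit 0, [[nat_lit 8, nat_lit 2]], [], []),
  (nat_lit 0x101000000000100010100010000010000000100000000010001000000000000010000000100010001000000000100000100000000, nat_lit 99, [[nat_lit 248, nat_lit 539, nat_lit 932, nat_lit 1011, nat_lit 1122, nat_lit 1376, nat_lit 1458, nat_lit 1552, nat_lit 8368, nat_lit 8659, nat_lit 9052, nat_lit 9131, nat_lit 9242, nat_lit 9496, nat_lit 9578, nat_lit 9672]], [nat_lit 29, nat_lit 38, nat_lit 12, nat_lit 51], [nat_lit 7, nat_lit 23, nat_lit 1, nat_lit 17, nat_lit 21, nat_lit 16, nat_lit 4, nat_lit 5, nat_lit 9, nat_lit 3, nat_lit 2, nat_lit 6]),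
  (nat_lit 0x10000010100010000000000000000000000000000000000000100010001010001000001000100010100010000010100, nat_lit 99, [[nat_lit 5973, nat_lit 5974, nat_lit 6079, nat_lit 6080, nat_lit 6697, nat_lit 6698, nat_lit 7041, nat_lit 7042, nat_lit 7175, nat_lit 7176, nat_lit 7762, nat_lit 7763, nat_lit 7764, nat_lit 7765, nat_lit 7931, nat_lit 7936, nat_lit 14093, nat_lit 14094, nat_lit 14199, nat_lit 14200, nat_lit 14817, nat_lit 14818, nat_lit 15161, nat_lit 15162, nat_lit 15295, nat_lit 15296, nat_lit 15882, nat_lit 15883, nat_lit 15884, nat_lit 15885, nat_lit 16051, nat_lit 16056]], [nat_lit 43, nat_lit 41, nat_lit 8, nat_lit 20, nat_lit 1], [nat_lit 42, nat_lit 2, nat_lit 8, nat_lit 21, nat_lit 5816, nat_lit 17, nat_lit 5, nat_lit 6, nat_lit 3, nat_lit 1, nat_lit 12]),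
  (nat_lit 0x101000001010000000100010001010000000000000000000001000101000001000000000000000000000000000000000101000000000101, nat_lit 0, [[nat_lit 29, nat_lit 14]], [], []),
  (nat_lit 0x10100000100010000010101010000010100000101000000000000000000000100000100010001, nat_lit 0, [[nat_lit 43, nat_lit 28]], [], []),
  (nat_lit 0x100000100000000010000000000010000010001000100010000010000000001000100000000010001000000000100000100010000000000, nat_lit 99, [[nat_lit 4543, nat_lit 4555, nat_lit 4563, nat_lit 4626, nat_lit 4629, nat_lit 5149, nat_lit 5286, nat_lit 5347, nat_lit 12663, nat_lit 12675, nat_lit 12683, nat_lit 12746, nat_lit 12749, nat_lit 13269, nat_lit 13406, nat_lit 13467]], [nat_lit 7, nat_lit 10, nat_lit 17, nat_lit 36], [nat_lit 30, nat_lit 15, nat_lit 18, nat_lit 7, nat_lit 13, nat_lit 4, nat_lit 1, nat_lit 6, nat_lit 5, nat_lit 2, nat_lit 8, nat_lit 9]),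
  (nat_lit 0x1000000000100010000000001000000000000010000010000000000010001000001000001000001000100010001000001000000010000, nat_lit 99, [[nat_lit 117, nat_lit 123, nat_lit 350, nat_lit 363, nat_lit 481, nat_lit 640, nat_lit 647, nat_lit 1411, nat_lit 8237, nat_lit 8243, nat_lit 8470, nat_lit 8483, nat_lit 8601, nat_lit 8760, nat_lit 8767, nat_lit 9531]], [nat_lit 24, nat_lit 2, nat_lit 42, nat_lit 9], [nat_lit 34, nat_lit 35, nat_lit 11, nat_lit 17, nat_lit 6, nat_lit 15, nat_lit 22, nat_lit 4, nat_lit 2, nat_lit 1, nat_lit 3, nat_lit 8]),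
  (nat_lit 0x10000010001000101000100000101000101010100000000000000000000000001010000000001010000000000000000, nat_lit 0, [[nat_lit 100, nat_lit 55]], [], []),
  (nat_lit 0x1010000010100010001000101000001010001000100000000000000000001010101000000000000000000000000, nat_lit 0, [[nat_lit 40, nat_lit 17]], [], []),
  (nat_lit 0x101000001000100000000000000000000000000000000000100010001010001000001000100010100010000010100, nat_lit 0, [[nat_lit 40, nat_lit 17]], [], []),
  (nat_lit 0x100010000010100000000000101010100000000000000000101000000000101000000000000000000000000000000000001010001000100, nat_lit 0, [[nat_lit 11, nat_lit 3]], [], []),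
  (nat_lit 0x1000100000100000000000101000001010000010000010000000001000001000100000001000000000100000100010000000000, nat_lit 99, [[nat_lit 4207, nat_lit 4323, nat_lit 4330, nat_lit 4609, nat_lit 5192, nat_lit 5420, nat_lit 5663, nat_lit 5684, nat_lit 12327, nat_lit 12443, nat_lit 12450, nat_lit 12729, nat_lit 13312, nat_lit 13540, nat_lit 13783, nat_lit 13804]], [nat_lit 5, nat_lit 49, nat_lit 32, nat_lit 46], [nat_lit 40, nat_lit 17, nat_lit 13, nat_lit 1, nat_lit 5, nat_lit 9, nat_lit 7, nat_lit 2, nat_lit 3, nat_lit 4, nat_lit 8, nat_lit 10]),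
  (nat_lit 0x1010101000000000000000000000101010100000000000000000000000000000000000000010100010001000001000101000001, nat_lit 0, [[nat_lit 41, nat_lit 37]], [], []),
  (nat_lit 0x10000000001000001000100000000000100000001000001000100000000010000010000000000010000000000010001000100010001, nat_lit 99, [[nat_lit 2752, nat_lit 2767, nat_lit 2768, nat_lit 2769, nat_lit 4040, nat_lit 4041, nat_lit 4042, nat_lit 4053, nat_lit 10872, nat_lit 10887, nat_lit 10888, nat_lit 10889, nat_lit 12160, nat_lit 12161, nat_lit 12162, nat_lit 12173]], [nat_lit 30, nat_lit 33, nat_lit 53, nat_lit 20], [nat_lit 28, nat_lit 29, nat_lit 12, nat_lit 13, nat_lit 3, nat_lit 2, nat_lit 4, nat_lit 5, nat_lit 6, nat_lit 1, nat_lit 7, nat_lit 1756]),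
  (nat_lit 0x100010000010001000000010000010000000100010000000000000100000001010001000000000000000000010001000000010000010000, nat_lit 99, [[nat_lit 221, nat_lit 660, nat_lit 807, nat_lit 827, nat_lit 841, nat_lit 1210, nat_lit 1473, nat_lit 1481, nat_lit 8341, nat_lit 8780, nat_lit 8927, nat_lit 8947, nat_lit 8961, nat_lit 9330, nat_lit 9593, nat_lit 9601]], [nat_lit 9, nat_lit 37, nat_lit 23, nat_lit 53], [nat_lit 10, nat_lit 13, nat_lit 26, nat_lit 27, nat_lit 18, nat_lit 4, nat_lit 12, nat_lit 6, nat_lit 1, nat_lit 5, nat_lit 2, nat_lit 9]),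
  (nat_lit 0x101000000000101000000000000000000000000000000000100000100010001010001000001010001010101000000000000000000000000, nat_lit 0, [[nat_lit 31, nat_lit 28]], [], []),
  (nat_lit 0x1000001000000000100010000010000000000010001010001000001000100000001000000000001000100000100000000010000, nat_lit 99, [[nat_lit 100, nat_lit 654, nat_lit 856, nat_lit 1071, nat_lit 1306, nat_lit 1308, nat_lit 1505, nat_lit 1745, nat_lit 8220, nat_lit 8774, nat_lit 8976, nat_lit 9191, nat_lit 9426, nat_lit 9428, nat_lit 9625, nat_lit 9865]], [nat_lit 51, nat_lit 10, nat_lit 18, nat_lit 38], [nat_lit 4, nat_lit 54, nat_lit 9, nat_lit 3, nat_lit 13, nat_lit 1, nat_lit 7, nat_lit 12, nat_lit 15, nat_lit 2, nat_lit 6, nat_lit 5]),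
  (nat_lit 0x1010001000001000001000000000100000100010000000001000001000000000000000100000100010100000000000001000000000001, nat_lit 99, [[nat_lit 2356, nat_lit 2358, nat_lit 2359, nat_lit 2360, nat_lit 3516, nat_lit 3520, nat_lit 3522, nat_lit 3523, nat_lit 10476, nat_lit 10478, nat_lit 10479, nat_lit 10480, nat_lit 11636, nat_lit 11640, nat_lit 11642, nat_lit 11643]], [nat_lit 30, nat_lit 0, nat_lit 45, nat_lit 14], [nat_lit 30, nat_lit 11, nat_lit 59, nat_lit 16, nat_lit 82, nat_lit 1763, nat_lit 5, nat_lit 6, nat_lit 1, nat_lit 9, nat_lit 2, nat_lit 13]),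
  (nat_lit 0x10100000101010001000100000100010100010001000000000000000000010101010000000000000000000000000000000000000000, nat_lit 0, [[nat_lit 55, nat_lit 15]], [], []),
  (nat_lit 0x100000100010001000100010100000101010101000000000000000000000000000001010101000000000000000000000000000000000000, nat_lit 0, [[nat_lit 64, nat_lit 12]], [], [])]

def BK : List (List Ent) := [BK0, BK1, BK2, BK3, BK4, BK5, BK6, BK7, BK8, BK9, BK10, BK11, BK12, BK13, BK14, BK15, BK16, BK17, BK18, BK19, BK20, BK21, BK22, BK23, BK24, BK25, BK26, BK27, BK28, BK29, BK30, BK31, BK32, BK33, BK34, BK35, BK36, BK37, BK38, BK39, BK40, BK41, BK42, BK43, BK44, BK45, BK46, BK47, BK48, BK49, BK50, BK51, BK52, BK53, BK54, BK55, BK56, BK57, BK58, BK59, BK60]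

end Cfsg.H7.Ru
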