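import Cfsg.Agent.H7.RuE0

/-! The enumeration of the minimal vectors. -/

set_option autoImplicit false
set_option maxRecDepth 100000

namespace Cfsg.H7.Ru

open H6 Spor

theorem ks_0 : allR (fun m => spChk BS (Nat.land (tv m) O5)) 0 1015 = true := by decide +kernel

theorem ks_1 : allR (fun m => spChk BS (Nat.land (tv m) O5)) 1015 1015 = true := by decide +kernel

theorem ks_2 : allR (fun m => spChk BS (Nat.land (tv m) O5)) 2030 1015 = true := by decide +kernel

theorem ks_3 : allR (fun m => spChk BS (Nat.land (tv m) O5)) 3045 1015 = true := by decide +kernel

theorem ks_4 : allR (fun m => spChk BS (Nat.land (tv m) O5)) 4060 1015 = true := by decide +kernel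

theorem ks_5 : allR (fun m => spChk BS (Nat.land (tv m) O5)) 5075 1015 = true := by decide +kernel

theorem ks_6 : allR (fun m => spChk BS (Nat.land (tv m) O5)) 6090 1015 = true := by decide +kernel

theorem ks_7 : allR (fun m => spChk BS (Nat.land (tv m) O5)) 7105 1015 = true := by decide +kernel

theorem ks (m : ℕ) (h : m < 8120) : spChk BS (Nat.land (tv m) O5) = true :=
  if h' : m < 4060 then join4 ks_0 ks_1 ks_2 ks_3 m h' else range_join (allR_range ks_4 rfl)
    (range_join (allR_range ks_5 rfl) (range_join (allR_range ks_6 rfl) (allR_range ks_7 rfl))) m
    (not_lt.1 h') h

theorem ke0 : BK0.all eChk = true := by decide +kernel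

theorem ke1 : BK1.all eChk = true := by decide +kernel

theorem ke2 : BK2.all eChk = true := by decide +kernel

theorem ke3 : BK3.all eChk = true := by decide +kernel

theorem ke4 : BK4.all eChk = true := by decide +kernel

theorem ke5 : BK5.all eChk = true := by decide +kernel

theorem ke6 : BK6.all eChk = true := by decide +kernel

theorem ke7 : BK7.all eChk = true := by decide +kernel

theorem ke8 : BK8.all eChk = true := by decide +kernel

theorem ke9 : BK9.all eChk = true := by decide +kernel

theorem ke10 : BK10.all eChk = true := by decide +kernel

theorem ke11 : BK11.all eChk = true := by decide +kernel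

theorem ke12 : BK12.all eChk = true := by decide +kernel

theorem ke13 : BK13.all eChk = true := by decide +kernel

theorem ke14 : BK14.all eChk = true := by decide +kernel

theorem ke15 : BK15.all eChk = true := by decide +kernel

theorem ke16 : BK16.all eChk = true := by decide +kernel

theorem ke17 : BK17.all eChk = true := by decide +kernel

theorem ke18 : BK18.all eChk = true := by decide +kernel

theorem ke19 : BK19.all eChk = true := by decide +kernel

theorem ke20 : BK20.all eChk = true := by decide +kernel

theorem ke21 : BK21.all eChk = true := by decide +kernel

theorem ke22 : BK22.all eChk = true := by decide +kernel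

theorem ke23 : BK23.all eChk = true := by decide +kernel

theorem ke24 : BK24.all eChk = true := by decide +kernel

theorem ke25 : BK25.all eChk = true := by decide +kernel

theorem ke26 : BK26.all eChk = true := by decide +kernel

theorem ke27 : BK27.all eChk = true := by decide +kernel

theorem ke28 : BK28.all eChk = true := by decide +kernel

theorem ke29 : BK29.all eChk = true := by decide +kernel

theorem ke30 : BK30.all eChk = true := by decide +kernel

theorem ke31 : BK31.all eChk = true := by decide +kernel

theorem ke32 : BK32.all eChk = true := by decide +kernel

theorem ke33 : BK33.all eChk = true := by decide +kernel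

theorem ke34 : BK34.all eChk = true := by decide +kernel

theorem ke35 : BK35.all eChk = true := by decide +kernel

theorem ke36 : BK36.all eChk = true := by decide +kernel

theorem ke37 : BK37.all eChk = true := by decide +kernel

theorem ke38 : BK38.all eChk = true := by decide +kernel

theorem ke39 : BK39.all eChk = true := by decide +kernel

theorem ke40 : BK40.all eChk = true := by decide +kernel

theorem ke41 : BK41.all eChk = true := by decide +kernel

theorem ke42 : BK42.all eChk = true := by decide +kernel

theorem ke43 : BK43.all eChk = true := by decide +kernel

theorem ke44 : BK44.all eChk = true := by decide +kernel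

theorem ke45 : BK45.all eChk = true := by decide +kernel

theorem ke46 : BK46.all eChk = true := by decide +kernel

theorem ke47 : BK47.all eChk = true := by decide +kernel

theorem ke48 : BK48.all eChk = true := by decide +kernel

theorem ke49 : BK49.all eChk = true := by decide +kernel

theorem ke50 : BK50.all eChk = true := by decide +kernel

theorem ke51 : BK51.all eChk = true := by decide +kernel

theorem ke52 : BK52.all eChk = true := by decide +kernel

theorem ke53 : BK53.all eChk = true := by decide +kernel

theorem ke54 : BK54.all eChk = true := by decide +kernel

theorem ke55 : BK55.all eChk = true := by decide +kernel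

theorem ke56 : BK56.all eChk = true := by decide +kernel

theorem ke57 : BK57.all eChk = true := by decide +kernel

theorem ke58 : BK58.all eChk = true := by decide +kernel

theorem ke59 : BK59.all eChk = true := by decide +kernel

theorem ke60 : BK60.all eChk = true := by decide +kernel

theorem ke (i : ℕ) (h : i < 61) : (BK.getD i []).all eChk = true := by
  interval_cases i
  exacts [ke0, ke1, ke2, ke3, ke4, ke5, ke6, ke7, ke8, ke9, ke10, ke11, ke12, ke13, ke14, ke15, ke16, ke17, ke18, ke19, ke20, ke21, ke22, ke23, ke24, ke25, ke26, ke27, ke28, ke29, ke30, ke31, ke32, ke33, ke34, ke35, ke36, ke37, ke38, ke39, ke40, ke41, ke42, ke43, ke44, ke45, ke46, ke47, ke48, ke49, ke50, ke51, ke52, ke53, ke54, ke55, ke56, ke57, ke58, ke59, ke60]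

end Cfsg.H7.Ru
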