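import Cfsg.Agent.H7.RuK1

/-! Kernel checks on the tables. -/

set_option autoImplicit false
set_option maxRecDepth 100000

namespace Cfsg.H7.Ru

open H6

theorem kt1_0 : allR (tChk 1) 0 1015 = true := by decide +kernel

theorem kt1_1 : allR (tChk 1) 1015 1015 = true := by decide +kernel

theorem kt1_2 : allR (tChk 1) 2030 1015 = true := by decide +kernel

theorem kt1_3 : allR (tChk 1) 3045 1015 = true := by decide +kernel

theorem kt1 : ∀ k < 4060, tChk 1 k = true := join4 kt1_0 kt1_1 kt1_2 kt1_3

theorem kt2_0 : allR (tChk 2) 0 1015 = true := by decide +kernel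

theorem kt2_1 : allR (tChk 2) 1015 1015 = true := by decide +kernel

theorem kt2_2 : allR (tChk 2) 2030 1015 = true := by decide +kernel

theorem kt2_3 : allR (tChk 2) 3045 1015 = true := by decide +kernel

theorem kt2 : ∀ k < 4060, tChk 2 k = true := join4 kt2_0 kt2_1 kt2_2 kt2_3

theorem kt3_0 : allR (tChk 3) 0 1015 = true := by decide +kernel

theorem kt3_1 : allR (tChk 3) 1015 1015 = true := by decide +kernel

theorem kt3_2 : allR (tChk 3) 2030 1015 = true := by decide +kernel

theorem kt3_3 : allR (tChk 3) 3045 1015 = true := by decide +kernel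

theorem kt3 : ∀ k < 4060, tChk 3 k = true := join4 kt3_0 kt3_1 kt3_2 kt3_3

theorem kt4_0 : allR (tChk 4) 0 1015 = true := by decide +kernel

theorem kt4_1 : allR (tChk 4) 1015 1015 = true := by decide +kernel

theorem kt4_2 : allR (tChk 4) 2030 1015 = true := by decide +kernel

theorem kt4_3 : allR (tChk 4) 3045 1015 = true := by decide +kernel

theorem kt4 : ∀ k < 4060, tChk 4 k = true := join4 kt4_0 kt4_1 kt4_2 kt4_3

theorem kt5_0 : allR (tChk 5) 0 1015 = true := by decide +kernel

theorem kt5_1 : allR (tChk 5) 1015 1015 = true := by decide +kernel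

theorem kt5_2 : allR (tChk 5) 2030 1015 = true := by decide +kernel

theorem kt5_3 : allR (tChk 5) 3045 1015 = true := by decide +kernel

theorem kt5 : ∀ k < 4060, tChk 5 k = true := join4 kt5_0 kt5_1 kt5_2 kt5_3

theorem kt6_0 : allR (tChk 6) 0 1015 = true := by decide +kernel

theorem kt6_1 : allR (tChk 6) 1015 1015 = true := by decide +kernel

theorem kt6_2 : allR (tChk 6) 2030 1015 = true := by decide +kernel

theorem kt6_3 : allR (tChk 6) 3045 1015 = true := by decide +kernel

theorem kt6 : ∀ k < 4060, tChk 6 k = true := join4 kt6_0 kt6_1 kt6_2 kt6_3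

theorem kt7_0 : allR (tChk 7) 0 1015 = true := by decide +kernel

theorem kt7_1 : allR (tChk 7) 1015 1015 = true := by decide +kernel

theorem kt7_2 : allR (tChk 7) 2030 1015 = true := by decide +kernel

theorem kt7_3 : allR (tChk 7) 3045 1015 = true := by decide +kernel

theorem kt7 : ∀ k < 4060, tChk 7 k = true := join4 kt7_0 kt7_1 kt7_2 kt7_3

theorem kt8_0 : allR (tChk 8) 0 1015 = true := by decide +kernel

theorem kt8_1 : allR (tChk 8) 1015 1015 = true := by decide +kernel

theorem kt8_2 : allR (tChk 8) 2030 1015 = true := by decide +kernel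

theorem kt8_3 : allR (tChk 8) 3045 1015 = true := by decide +kernel

theorem kt8 : ∀ k < 4060, tChk 8 k = true := join4 kt8_0 kt8_1 kt8_2 kt8_3

theorem kt9_0 : allR (tChk 9) 0 1015 = true := by decide +kernel

theorem kt9_1 : allR (tChk 9) 1015 1015 = true := by decide +kernel

theorem kt9_2 : allR (tChk 9) 2030 1015 = true := by decide +kernel

theorem kt9_3 : allR (tChk 9) 3045 1015 = true := by decide +kernel

theorem kt9 : ∀ k < 4060, tChk 9 k = true := join4 kt9_0 kt9_1 kt9_2 kt9_3

theorem kt (x : ℕ) (h1 : 1 ≤ x) (h2 : x < 10) : ∀ k < 4060, tChk x k = true := by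
  interval_cases x
  exacts [kt1, kt2, kt3, kt4, kt5, kt6, kt7, kt8, kt9]

end Cfsg.H7.Ru
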